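import Groth.Agent.Pi1.K157.Desc
import Groth.Agent.Pi1A.FEtGlue
import Groth.Agent.Pi1.H416.SepField

/-!
# Descent of torsors: disconnected schemes and separably closed fields
-/

set_option autoImplicit false
set_option linter.dupNamespace false

universe u v

open CategoryTheory CategoryTheory.Limits AlgebraicGeometry IsLocalRing

namespace K157.DescAll

open K157.CurveA K157.Lift K157.SmoothT1 K157.NormalExt K157.Pb K157.Glue K157.DescLift K157.Star
  K157.TraitGeom K157.Spread K157.Desc
open Groth.Agent.Pi1A.FEtAffine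
open Groth.Agent.Pi1A.FEtGlue (glued restrict_glued)

/-- The connected components of a Noetherian scheme, as opens. -/
noncomputable def comp (X : Scheme.{u}) [IsNoetherian X] (c : Discrete (_root_.ConnectedComponents X)) :
    X.Opens :=
  ⟨_root_.ConnectedComponents.mk ⁻¹' {c.as}, by
    have h := isClopen_of_stable (X := X) (_root_.ConnectedComponents.mk ⁻¹' {c.as}) (fun x y hxy => by
      have h1 : (_root_.ConnectedComponents.mk x) = _root_.ConnectedComponents.mk y := by
        rw [ConnectedComponents.coe_eq_coe']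
        have h2 : _root_.IsPreconnected (closure {x}) := isPreconnected_singleton.closure
        exact h2.subset_connectedComponent (specializes_iff_mem_closure.mp hxy)
          (subset_closure rfl)
      simp only [Set.mem_preimage, h1])
    exact h.isOpen⟩

lemma mem_comp {X : Scheme.{u}} [IsNoetherian X] (c : Discrete (_root_.ConnectedComponents X)) (x : X) :
    x ∈ comp X c ↔ _root_.ConnectedComponents.mk x = c.as := Iff.rfl

instance {X : Scheme.{u}} [IsNoetherian X] (c : Discrete (_root_.ConnectedComponents X)) :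
    ConnectedSpace (comp X c) := by
  obtain ⟨c⟩ := c
  obtain ⟨x, rfl⟩ := ConnectedComponents.surjective_coe c
  have h : ((comp X ⟨_root_.ConnectedComponents.mk x⟩ : X.Opens) : Set X) = connectedComponent x := by
    ext y
    exact ConnectedComponents.coe_eq_coe'
  have h2 : _root_.IsConnected ((comp X ⟨_root_.ConnectedComponents.mk x⟩ : X.Opens) : Set X) := by
    rw [h]
    exact isConnected_connectedComponent
  exact isConnected_iff_connectedSpace.mp h2

/-- The cover by connected components. -/
noncomputable abbrev cover (X : Scheme.{u}) [IsNoetherian X] : X.OpenCover :=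
  X.openCoverOfIsOpenCover (comp X) (by
    rw [TopologicalSpace.IsOpenCover, eq_top_iff]
    intro x _
    rw [TopologicalSpace.Opens.mem_iSup]
    exact ⟨⟨_root_.ConnectedComponents.mk x⟩, rfl⟩)

noncomputable instance {X : Scheme.{u}} [IsNoetherian X] : Category (cover X).I₀ :=
  inferInstanceAs (Category (Discrete (_root_.ConnectedComponents X)))

instance {X : Scheme.{u}} [IsNoetherian X] : Quiver.IsThin (cover X).I₀ := fun a b =>
  ⟨fun f g => by
    rcases f with ⟨⟨_⟩⟩
    rcases g with ⟨⟨_⟩⟩
    rfl⟩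

instance {X : Scheme.{u}} [IsNoetherian X] : Small.{u} (cover X).I₀ :=
  inferInstanceAs (Small.{u} (Discrete (_root_.ConnectedComponents X)))

lemma comp_le {X : Scheme.{u}} [IsNoetherian X] {i j : Discrete (_root_.ConnectedComponents X)}
    (h : i ⟶ j) : comp X i ≤ comp X j := by
  obtain rfl : i = j := Discrete.ext (Discrete.eq_of_hom h)
  exact le_rfl

lemma isOpenImmersion_homOfLE {X : Scheme.{u}} {U V : X.Opens} (h : U ≤ V) :
    IsOpenImmersion (X.homOfLE h) := inferInstance

noncomputable instance {X : Scheme.{u}} [IsNoetherian X] : (cover X).LocallyDirected where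
  trans {i j} h := X.homOfLE (comp_le h)
  trans_id i := X.homOfLE_rfl _
  trans_comp {i j k} h h' := (X.homOfLE_homOfLE _ _).symm
  w {i j} h := X.homOfLE_ι _
  directed {i j} x := by
    have h1 : (pullback.fst _ _ : pullback ((cover X).f i) ((cover X).f j) ⟶ _) ≫ (cover X).f i =
      pullback.snd _ _ ≫ (cover X).f j := pullback.condition
    let y := pullback.fst ((cover X).f i) ((cover X).f j) x
    let z := pullback.snd ((cover X).f i) ((cover X).f j) x
    have h2 : (cover X).f i y = (cover X).f j z := by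
      rw [← Scheme.Hom.comp_apply, h1, Scheme.Hom.comp_apply]
    have hy : _root_.ConnectedComponents.mk ((cover X).f i y) = i.as := y.2
    have hz : _root_.ConnectedComponents.mk ((cover X).f j z) = j.as := z.2
    obtain rfl : i = j := by
      apply Discrete.ext
      rw [← hy, h2, hz]
    refine ⟨i, 𝟙 i, 𝟙 i, y, ?_⟩
    have hm : Mono ((cover X).f i) := inferInstanceAs (Mono (comp X i).ι)
    apply (pullback.fst ((cover X).f i) ((cover X).f i)).isOpenEmbedding.injective
    rw [← Scheme.Hom.comp_apply, pullback.lift_fst, X.homOfLE_rfl]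
    rfl
  property_trans {i j} h := isOpenImmersion_homOfLE (comp_le h)

/-- Descent of torsors for algebraically closed fields. -/
theorem exists_of_isAlgClosed (hens : Groth.Agent.Pi1.H385.T2aGeom.HensStmt.{u})
    {k K : Type u} [Field k] [IsAlgClosed k] [Field K] [IsAlgClosed K] (i : k →+* K)
    {X : Scheme.{u}} (p : X ⟶ Spec (CommRingCat.of k)) [LocallyOfFiniteType p] [QuasiCompact p]
    (G : Type) [Group G] [Finite G] (hG : IsUnit ((Nat.card G : ℕ) : k))
    (Z : FEt.Cat (pullback p (sp i))) (ρ' : G →* Aut Z) (hZ : SGA1t.IsPrincipal G Z ρ') :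
    ∃ P : FEt.Cat X, Nonempty ((FEt.restrict (pullback.fst p (sp i))).obj P ≅ Z) := by
  have hLN : IsLocallyNoetherian X := LocallyOfFiniteType.isLocallyNoetherian p
  have hcpt : CompactSpace X := QuasiCompact.compactSpace_of_compactSpace p
  have hN : IsNoetherian X := { }
  let f := pullback.fst p (sp i)
  let 𝒰 := cover X
  have sq : ∀ j, IsPullback (pullback.snd f (𝒰.f j)) (pullback.fst f (𝒰.f j) ≫ pullback.snd p (sp i))
      (𝒰.f j ≫ p) (sp i) := fun j =>
    (IsPullback.of_hasPullback f (𝒰.f j)).flip.paste_vert (IsPullback.of_hasPullback p (sp i))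
  have hff := fun j => Groth.Agent.Pi1.H390.T1UFF.fullyFaithful i (sq j)
  have hFull : ∀ j, (FEt.restrict (pullback.snd f (𝒰.f j))).Full := fun j => (hff j).1
  have hFaithful : ∀ j, (FEt.restrict (pullback.snd f (𝒰.f j))).Faithful := fun j => (hff j).2
  have key : ∀ j : 𝒰.I₀, ∃ W : FEt.Cat (𝒰.X j),
      Nonempty ((FEt.restrict (pullback.snd f (𝒰.f j))).obj W ≅
        (FEt.restrict (pullback.fst f (𝒰.f j))).obj Z) := by
    intro j
    have hcj : ConnectedSpace (𝒰.X j) := inferInstanceAs (ConnectedSpace (comp X j))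
    let m : pullback (𝒰.f j ≫ p) (sp i) ⟶ pullback p (sp i) :=
      pb (𝒰.f j) (𝟙 _) rfl (Category.id_comp (sp i))
    obtain ⟨P, ⟨e⟩⟩ := exists_of_connected hens i (𝒰.f j ≫ p) G hG ((FEt.restrict m).obj Z) _
      (Groth.Agent.Pi1.H408.PrincRestrict.isPrincipal_restrict m Z ρ' hZ)
    refine ⟨P, ⟨?_⟩⟩
    let ε := (sq j).isoPullback
    have h1 : ε.hom ≫ pullback.fst (𝒰.f j ≫ p) (sp i) = pullback.snd f (𝒰.f j) :=
      (sq j).isoPullback_hom_fst
    have h2 : ε.hom ≫ m = pullback.fst f (𝒰.f j) := by
      apply pullback.hom_ext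
      · rw [Category.assoc, pb_fst, reassoc_of% h1, ← pullback.condition]
      · rw [Category.assoc, pb_snd, Category.comp_id]
        exact (sq j).isoPullback_hom_snd
    exact (restrictCongr h1.symm).app P ≪≫ (restrictComp ε.hom _).app P ≪≫
      (FEt.restrict ε.hom).mapIso e ≪≫ (restrictComp ε.hom m).symm.app Z ≪≫
      (restrictCongr h2).app Z
  choose W hW using key
  exact ⟨glued f 𝒰 Z W (fun j => (hW j).some), restrict_glued f 𝒰 Z W (fun j => (hW j).some)⟩

/-- Geometric setting for the reduction to algebraically closed fields. -/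
theorem fullyFaithful_and_exists (hens : Groth.Agent.Pi1.H385.T2aGeom.HensStmt.{u})
    (k K : Type u) [Field k] [Field K] [IsSepClosed k] [IsSepClosed K] [Algebra k K]
    {X : Scheme.{u}} (f : X ⟶ Spec (CommRingCat.of k)) [LocallyOfFiniteType f] [QuasiCompact f]
    (G : Type) [Group G] [Finite G] (hG : IsUnit ((Nat.card G : ℕ) : k))
    (P' : FEt.Cat (pullback f (sp (algebraMap k K)))) (ρ' : G →* Aut P')
    (hP' : SGA1t.IsPrincipal G P' ρ') :
    (FEt.restrict (pullback.fst f (sp (algebraMap k K)))).Full ∧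
    (FEt.restrict (pullback.fst f (sp (algebraMap k K)))).Faithful ∧
    ∃ P : FEt.Cat X, Nonempty ((FEt.restrict (pullback.fst f (sp (algebraMap k K)))).obj P ≅ P') := by
  let ka := AlgebraicClosure k
  let Ka := AlgebraicClosure K
  let _ : Algebra k Ka := ((algebraMap K Ka).comp (algebraMap k K)).toAlgebra
  let ia' : ka →ₐ[k] Ka := IsAlgClosed.lift
  let ia : ka →+* Ka := ia'.toRingHom
  have hia : ia.comp (algebraMap k ka) = (algebraMap K Ka).comp (algebraMap k K) := ia'.comp_algebraMap
  let t := sp ((algebraMap K Ka).comp (algebraMap k K))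
  have h1 : sp (algebraMap K Ka) ≫ sp (algebraMap k K) = t := sp_comp _ _
  have h2 : sp ia ≫ sp (algebraMap k ka) = t := by rw [sp_comp, hia]
  let m := pullback.fst f (sp (algebraMap k K))
  let a₁ := pullback.fst f (sp (algebraMap k ka))
  let n : pullback f t ⟶ pullback f (sp (algebraMap k K)) :=
    pb (𝟙 X) (sp (algebraMap K Ka)) (Category.id_comp f) h1
  let m'' : pullback f t ⟶ pullback f (sp (algebraMap k ka)) :=
    pb (𝟙 X) (sp ia) (Category.id_comp f) h2
  have sq1 := isPullback_pb_right (p := f) (t := sp (algebraMap k K)) (sp (algebraMap K Ka))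
    (Category.id_comp f) h1
  have sq2 := isPullback_pb_right (p := f) (t := sp (algebraMap k ka)) (sp ia)
    (Category.id_comp f) h2
  have hcomm : n ≫ m = m'' ≫ a₁ := by
    simp only [n, m, m'', a₁, pb_fst]
  have hk : IsPurelyInseparable k ka := inferInstance
  have hK : IsPurelyInseparable K Ka := inferInstance
  have e1 : (FEt.restrict a₁).IsEquivalence :=
    Groth.Agent.Pi1.H416.SepField.restrict_isEquivalence_of_isPurelyInseparable k ka f
  have e2 : (FEt.restrict n).IsEquivalence :=
    Groth.Agent.Pi1.H416.SepField.isEquivalence_of_isPullback sq1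
      (Groth.Agent.Pi1.H416.SepField.restrict_isEquivalence_of_isPurelyInseparable K Ka _)
  obtain ⟨hf, hf'⟩ := Groth.Agent.Pi1.H390.T1UFF.fullyFaithful ia sq2
  let P'' := (FEt.restrict n).obj P'
  have hP'' : SGA1t.IsPrincipal G P'' _ :=
    Groth.Agent.Pi1.H408.PrincRestrict.isPrincipal_restrict n P' ρ' hP'
  let ε := sq2.isoPullback
  have hε : ε.hom ≫ pullback.fst (pullback.snd f (sp (algebraMap k ka))) (sp ia) = m'' :=
    sq2.isoPullback_hom_fst
  have hG' : IsUnit ((Nat.card G : ℕ) : ka) := by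
    have h3 := hG.map (algebraMap k ka)
    rwa [map_natCast] at h3
  obtain ⟨P₀, ⟨e₀⟩⟩ := exists_of_isAlgClosed hens ia (pullback.snd f (sp (algebraMap k ka))) G hG'
    ((FEt.restrict ε.inv).obj P'') _
    (Groth.Agent.Pi1.H408.PrincRestrict.isPrincipal_restrict ε.inv P'' _ hP'')
  let P : FEt.Cat X := (FEt.restrict a₁).objPreimage P₀
  let e₃ : (FEt.restrict a₁).obj P ≅ P₀ := (FEt.restrict a₁).objObjPreimageIso P₀
  let E : FEt.restrict m ⋙ FEt.restrict n ≅ FEt.restrict a₁ ⋙ FEt.restrict m'' :=
    (restrictComp n m).symm ≪≫ restrictCongr hcomm ≪≫ restrictComp m'' a₁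
  have hfull : (FEt.restrict m ⋙ FEt.restrict n).Full := Functor.Full.of_iso E.symm
  have hfaith : (FEt.restrict m ⋙ FEt.restrict n).Faithful := Functor.Faithful.of_iso E.symm
  have r1 : (FEt.restrict m).Full := Functor.Full.of_comp_faithful _ (FEt.restrict n)
  have r2 : (FEt.restrict m).Faithful := Functor.Faithful.of_comp _ (FEt.restrict n)
  refine ⟨r1, r2, P, ⟨?_⟩⟩
  have e₄ : (FEt.restrict m'').obj P₀ ≅ P'' :=
    (restrictCongr hε.symm).app P₀ ≪≫ (restrictComp ε.hom _).app P₀ ≪≫
      (FEt.restrict ε.hom).mapIso e₀ ≪≫ (restrictComp ε.hom ε.inv).symm.app P'' ≪≫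
      (restrictCongr ε.hom_inv_id).app P'' ≪≫ (restrictId _).app P''
  exact (FEt.restrict n).preimageIso (E.app P ≪≫ (FEt.restrict m'').mapIso e₃ ≪≫ e₄)

/-- S17212. -/
theorem main (hens : Groth.Agent.Pi1.H385.T2aGeom.HensStmt.{u})
    (k K : Type u) [Field k] [Field K] [IsSepClosed k] [IsSepClosed K] [Algebra k K]
    {X : Scheme.{u}} (f : X ⟶ Spec (CommRingCat.of k)) [LocallyOfFiniteType f] [QuasiCompact f]
    (G : Type) [Group G] [Finite G] (hG : IsUnit ((Nat.card G : ℕ) : k))
    (P' : FEt.Cat (pullback f (sp (algebraMap k K)))) (ρ' : G →* Aut P')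
    (hP' : SGA1t.IsPrincipal G P' ρ') :
    ∃ (P : FEt.Cat X) (ρ : G →* Aut P), SGA1t.IsPrincipal G P ρ ∧
      ∃ e : (FEt.restrict (pullback.fst f (sp (algebraMap k K)))).obj P ≅ P',
        ∀ g : G, (FEt.restrict (pullback.fst f (sp (algebraMap k K)))).map (ρ g).hom ≫
          e.hom = e.hom ≫ (ρ' g).hom := by
  obtain ⟨r1, r2, P, ⟨e⟩⟩ := fullyFaithful_and_exists hens k K f G hG P' ρ' hP'
  obtain ⟨ρ, hρ⟩ := Groth.Agent.Pi1.H382.EBc.exists_action
    (pullback.fst f (sp (algebraMap k K))) P ρ' e
  exact ⟨P, ρ, hρ.isPrincipal hP', hρ⟩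

end K157.DescAll
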