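import Groth.Agent.Pi1.K157.Lift
import Groth.Agent.Pi1.H385.ProdCover
import Groth.Agent.S2501

/-!
# Fibre products over a base and lifts: calculus
-/

set_option autoImplicit false
set_option linter.dupNamespace false

universe u

open CategoryTheory CategoryTheory.Limits AlgebraicGeometry IsLocalRing

namespace K157.Pb

open K157.Lift

section

variable {S X Z W T T' T'' : Scheme.{u}} {p : X ⟶ S} {z : Z ⟶ S} {w : W ⟶ S} {t : T ⟶ S}
  {t' : T' ⟶ S} {t'' : T'' ⟶ S}

/-- The map of fibre products. -/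
noncomputable def pb (g : Z ⟶ X) (h : T' ⟶ T) (hg : g ≫ p = z) (hh : h ≫ t = t') :
    pullback z t' ⟶ pullback p t :=
  pullback.lift (pullback.fst z t' ≫ g) (pullback.snd z t' ≫ h) (by
    rw [Category.assoc, Category.assoc, hg, hh, pullback.condition])

@[reassoc (attr := simp)]
lemma pb_fst (g : Z ⟶ X) (h : T' ⟶ T) (hg : g ≫ p = z) (hh : h ≫ t = t') :
    pb g h hg hh ≫ pullback.fst p t = pullback.fst z t' ≫ g := pullback.lift_fst _ _ _

@[reassoc (attr := simp)]
lemma pb_snd (g : Z ⟶ X) (h : T' ⟶ T) (hg : g ≫ p = z) (hh : h ≫ t = t') :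
    pb g h hg hh ≫ pullback.snd p t = pullback.snd z t' ≫ h := pullback.lift_snd _ _ _

@[reassoc]
lemma pb_comp {g' : W ⟶ Z} {g : Z ⟶ X} {h' : T'' ⟶ T'} {h : T' ⟶ T} {g'' : W ⟶ X}
    {h'' : T'' ⟶ T} (hg' : g' ≫ z = w) (hh' : h' ≫ t' = t'') (hg : g ≫ p = z) (hh : h ≫ t = t')
    (hg'' : g' ≫ g = g'') (hh'' : h' ≫ h = h'') :
    pb g' h' hg' hh' ≫ pb g h hg hh = pb g'' h''
      (by rw [← hg'', Category.assoc, hg, hg']) (by rw [← hh'', Category.assoc, hh, hh']) := by
  subst hg'' hh''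
  apply pullback.hom_ext <;> simp

lemma isPullback_pb_left (g : Z ⟶ X) (hg : g ≫ p = z) (h1 : 𝟙 T ≫ t = t) :
    IsPullback (pb g (𝟙 T) hg h1) (pullback.fst z t) (pullback.fst p t) g := by
  subst hg
  refine (IsPullback.of_bot (h₃₁ := t) (v₂₁ := pullback.snd p t) (v₂₂ := p) ?_
    (pb_fst g (𝟙 T) rfl h1).symm (IsPullback.of_hasPullback p t)).flip
  rw [pb_snd, Category.comp_id]
  exact IsPullback.of_hasPullback (g ≫ p) t

lemma isPullback_pb_right (h : T' ⟶ T) (h1 : 𝟙 X ≫ p = p) (hh : h ≫ t = t') :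
    IsPullback (pb (𝟙 X) h h1 hh) (pullback.snd p t') (pullback.snd p t) h := by
  subst hh
  refine IsPullback.of_right (h₁₂ := pullback.fst p t) (h₂₂ := t) (v₁₃ := p) ?_
    (pb_snd _ _ _ _) (IsPullback.of_hasPullback p t)
  rw [pb_fst, Category.comp_id]
  exact IsPullback.of_hasPullback p (h ≫ t)

end

/-- A fibre product of nonempty schemes over a field is nonempty. -/
theorem nonempty_pullback {k : Type u} [Field k] {R T : Scheme.{u}}
    (r : R ⟶ Spec (CommRingCat.of k)) (t : T ⟶ Spec (CommRingCat.of k)) [Nonempty R] [Nonempty T] :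
    Nonempty ↥(pullback r t) := by
  obtain ⟨x⟩ := ‹Nonempty R›
  obtain ⟨y⟩ := ‹Nonempty T›
  obtain ⟨z, -, -⟩ := Scheme.Pullback.exists_preimage_pullback (f := r)
    (g := t) x y (Subsingleton.elim (α := PrimeSpectrum k) _ _)
  exact ⟨z⟩

theorem connectedSpace_pullback {k : Type u} [Field k] [IsAlgClosed k] {R T : Scheme.{u}}
    (r : R ⟶ Spec (CommRingCat.of k)) [LocallyOfFiniteType r] (t : T ⟶ Spec (CommRingCat.of k))
    [ConnectedSpace R] [ConnectedSpace T] : ConnectedSpace ↥(pullback r t) := by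
  have hgc : GeometricallyConnected r := Groth.Agent.S2501.result r
  infer_instance

/-- Two lifts over `R ×_k T` which agree over `R ×_k T'` agree, `T` connected and `T'` nonempty. -/
theorem eq_of_fibre {k : Type u} [Field k] [IsAlgClosed k] {R : Scheme.{u}}
    (r : R ⟶ Spec (CommRingCat.of k)) [LocallyOfFiniteType r] {T T' : Scheme.{u}}
    {t : T ⟶ Spec (CommRingCat.of k)} {t' : T' ⟶ Spec (CommRingCat.of k)} [ConnectedSpace T]
    (h : T' ⟶ T) (hh : h ≫ t = t') [Nonempty T'] {S : Scheme.{u}} (P : FEt.Cat S)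
    {a b : pullback r t ⟶ P.left} (hab : a ≫ P.hom = b ≫ P.hom)
    (hK : pb (𝟙 R) h (Category.id_comp r) hh ≫ a = pb (𝟙 R) h (Category.id_comp r) hh ≫ b) :
    a = b := by
  have h1 : IsFinite P.hom := P.prop.1
  have h2 : Etale P.hom := P.prop.2
  obtain ⟨U, hU, hab', hUt⟩ := Groth.Agent.Pi1A.Agree.exists_agree P.hom a b hab
  have hUtop : U = ⊤ := by
    rw [eq_top_iff]
    intro x _
    let y : R := pullback.fst r t x
    have hN : IsLocallyNoetherian R := LocallyOfFiniteType.isLocallyNoetherian r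
    obtain ⟨V, hV, τ, hVc, hτ⟩ := Groth.Agent.Pi1.H385.ProdCover.exists_opens
      (R.fromSpecResidueField y)
    have hyV : y ∈ V := by
      have h3 : V.ι (τ (closedPoint _)) = y := by
        rw [← Scheme.Hom.comp_apply, hτ]
        exact Scheme.fromSpecResidueField_apply y _
      rw [← h3]
      exact (τ (closedPoint _)).2
    let j : pullback (V.ι ≫ r) t ⟶ pullback r t := pb V.ι (𝟙 T) rfl (Category.id_comp t)
    have hc : ConnectedSpace ↥(pullback (V.ι ≫ r) t) := connectedSpace_pullback _ _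
    have hne : Nonempty ↥(pullback (V.ι ≫ r) t') := nonempty_pullback _ _
    have hj : j ≫ a = j ≫ b := by
      refine eq_of_agree P (by rw [Category.assoc, hab, Category.assoc])
        (pb (𝟙 _) h (Category.id_comp (V.ι ≫ r)) hh) ?_
      have e1 : pb (𝟙 _) h (Category.id_comp (V.ι ≫ r)) hh ≫ j =
          pb V.ι (𝟙 T') rfl (Category.id_comp t') ≫ pb (𝟙 R) h (Category.id_comp r) hh := by
        rw [pb_comp _ _ _ _ (Category.id_comp V.ι) (Category.comp_id h),
          pb_comp _ _ _ _ (Category.comp_id V.ι) (Category.id_comp h)]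
      rw [reassoc_of% e1, reassoc_of% e1, hK]
    apply hUt j hj
    have sq := isPullback_pb_left (p := r) (t := t) V.ι rfl (Category.id_comp t)
    obtain ⟨z, hz, -⟩ := Scheme.Pullback.exists_preimage_pullback (f := pullback.fst r t)
      (g := V.ι) x ⟨y, hyV⟩ rfl
    refine ⟨sq.isoPullback.inv z, ?_⟩
    rw [← Scheme.Hom.comp_apply, sq.isoPullback_inv_fst, hz]
  subst hUtop
  have := congr((pullback r t).topIso.inv ≫ $hab')
  rwa [Scheme.toIso_inv_ι_assoc, Scheme.toIso_inv_ι_assoc] at this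

end K157.Pb
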