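import Groth.Agent.Pi1.H382.PPrimeTwo
import Groth.Agent.Pi1A.Agree
import Mathlib.AlgebraicGeometry.Morphisms.FlatRank

/-!
# Lifts through finite étale covers

`HasLift P f`: the morphism `f : T ⟶ S` lifts to the cover `P` of `S`.
-/

set_option autoImplicit false
set_option linter.dupNamespace false

universe u v

open CategoryTheory CategoryTheory.Limits AlgebraicGeometry

namespace K157.Lift

open Groth.Agent.Pi1A.FEtAffine Groth.Agent.Pi1.H383.PrincBC Groth.Agent.Pi1.H382.EBc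
open Groth.Agent.Pi1.H418.TopGen Groth.Agent.Pi1.H418.Push Groth.Agent.Pi1.H538.Act
  Groth.Agent.Pi1.H538.Sets Groth.Agent.Pi1.H538.Base Groth.Agent.Pi1.H538.Torsor
  Groth.Agent.Pi1.H538.ProP Groth.Agent.Pi1.H538.TorsorBC Groth.Agent.Pi1.H538.PPrime
  Groth.Agent.Pi1.H538.PresCor Groth.Agent.Pi1.H538.PresGal

/-- `f` lifts to the cover `P`. -/
def HasLift {S T : Scheme.{u}} (P : FEt.Cat S) (f : T ⟶ S) : Prop :=
  ∃ s : T ⟶ P.left, s ≫ P.hom = f

variable {S T U W : Scheme.{u}}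

theorem HasLift.comp {P : FEt.Cat S} {f : T ⟶ S} (h : HasLift P f) (g : W ⟶ T) :
    HasLift P (g ≫ f) := by
  obtain ⟨s, hs⟩ := h
  exact ⟨g ≫ s, by rw [Category.assoc, hs]⟩

theorem HasLift.comp' {P : FEt.Cat S} {f : T ⟶ S} (h : HasLift P f) (g : W ⟶ T) {f' : W ⟶ S}
    (hg : g ≫ f = f') : HasLift P f' := hg ▸ h.comp g

theorem hasLift_restrict_iff (P : FEt.Cat S) (g : T ⟶ S) (f : W ⟶ T) :
    HasLift ((FEt.restrict g).obj P) f ↔ HasLift P (f ≫ g) := by
  constructor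
  · rintro ⟨s, hs⟩
    have hs' : s ≫ pullback.snd P.hom g = f := hs
    refine ⟨s ≫ pullback.fst P.hom g, ?_⟩
    have h := pullback.condition (f := P.hom) (g := g)
    exact (Category.assoc _ _ _).trans ((congrArg (s ≫ ·) h).trans
      ((Category.assoc _ _ _).symm.trans (congrArg (· ≫ g) hs')))
  · rintro ⟨s, hs⟩
    exact ⟨pullback.lift s f hs, pullback.lift_snd _ _ _⟩

theorem HasLift.map {P Q : FEt.Cat S} (i : P ⟶ Q) {f : T ⟶ S} (h : HasLift P f) : HasLift Q f := by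
  obtain ⟨s, hs⟩ := h
  exact ⟨s ≫ i.left, by rw [Category.assoc, MorphismProperty.Over.w i, hs]⟩

/-- Two lifts from a connected scheme which agree somewhere agree. -/
theorem eq_of_agree [ConnectedSpace T] (P : FEt.Cat S) {a b : T ⟶ P.left}
    (h : a ≫ P.hom = b ≫ P.hom) [Nonempty W] (t : W ⟶ T) (ht : t ≫ a = t ≫ b) : a = b := by
  have h1 : IsFinite P.hom := P.prop.1
  have h2 : Etale P.hom := P.prop.2
  refine Groth.Agent.Pi1A.Agree.eq_of_agree P.hom a b h t ht fun V hV hV' => ?_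
  have h3 : (V : Set T) = Set.univ := IsClopen.eq_univ ⟨hV, V.isOpen⟩
    (Set.Nonempty.mono hV' (Set.range_nonempty t))
  exact TopologicalSpace.Opens.ext h3

/-- The lifts of a morphism from a connected scheme to a principal cover are permuted transitively. -/
theorem exists_translate {G : Type v} [Group G] {P : FEt.Cat S} {ρ : G →* Aut P}
    (hP : SGA1t.IsPrincipal G P ρ) [ConnectedSpace T] {a b : T ⟶ P.left}
    (h : a ≫ P.hom = b ≫ P.hom) : ∃ γ : G, b = a ≫ (ρ γ).hom.left := by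
  obtain ⟨Ω, _, _, ⟨ξ⟩⟩ := exists_geomPt T
  let A : FEt.fiberObj (ξ ≫ a ≫ P.hom) P := ⟨ξ ≫ a, by rw [Category.assoc]⟩
  let B : FEt.fiberObj (ξ ≫ a ≫ P.hom) P := ⟨ξ ≫ b, by rw [Category.assoc, h]⟩
  obtain ⟨γ, hγ, -⟩ := hP.2 Ω (ξ ≫ a ≫ P.hom) A B
  refine ⟨γ, ?_⟩
  have h1 : (ξ ≫ a) ≫ (ρ γ).hom.left = ξ ≫ b := congrArg Subtype.val hγ
  refine (eq_of_agree P (a := a ≫ (ρ γ).hom.left) (b := b) ?_ ξ ?_).symm
  · rw [Category.assoc, MorphismProperty.Over.w (ρ γ).hom]
    exact h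
  · rw [← Category.assoc]
    exact h1

/-- A point of the fibre fixed by the fundamental group gives a section. -/
theorem hasLift_of_fixed [ConnectedSpace S] {Ω : Type u} [Field Ω] [IsAlgClosed Ω]
    (ξ : Spec (CommRingCat.of Ω) ⟶ S) (P : FEt.Cat S) (z : FEt.fiberObj ξ P)
    (hz : ∀ γ : FEt.piOne S ξ, γ.hom.app P z = z) : HasLift P (𝟙 S) := by
  let I : FEt.Cat S := MorphismProperty.Over.mk ⊤ (𝟙 S) (MorphismProperty.id_mem _ S)
  obtain ⟨m, -⟩ := exists_hom (ξ := ξ) (Z := I) (Z' := P) (fun _ => z) (fun γ _ => (hz γ).symm)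
  exact ⟨m.left, MorphismProperty.Over.w m⟩

/-- The point of the fibre given by a section is fixed by the fundamental group. -/
theorem fixed_of_section {Ω : Type u} [Field Ω] [IsAlgClosed Ω]
    (ξ : Spec (CommRingCat.of Ω) ⟶ S) (P : FEt.Cat S) (s : S ⟶ P.left) (hs : s ≫ P.hom = 𝟙 S)
    (z : FEt.fiberObj ξ P) (hz : z.1 = ξ ≫ s) (γ : FEt.piOne S ξ) : γ.hom.app P z = z := by
  let I : FEt.Cat S := MorphismProperty.Over.mk ⊤ (𝟙 S) (MorphismProperty.id_mem _ S)
  let m : I ⟶ P := MorphismProperty.Over.homMk s hs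
  let o : FEt.fiberObj ξ I := ⟨ξ, Category.comp_id _⟩
  have h1 : (FEt.fiber ξ).map m o = z := Subtype.ext hz.symm
  have h2 : γ.hom.app I o = o := by
    apply Subtype.ext
    have h3 := (γ.hom.app I o).2
    exact (Category.comp_id _).symm.trans h3
  rw [← h1, naturality, h2]

/-- If `m` is a prime-to-`p` equivalence, triviality of principal covers can be checked after
restriction along `m`. -/
theorem hasLift_of_pprime {k : Type u} [Field k] {U' : Scheme.{u}} [ConnectedSpace U']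
    [ConnectedSpace U] {m : U' ⟶ U} (hm : PPrimeEquiv k m) {G : Type} [Group G] [Finite G]
    (hG : IsUnit ((Nat.card G : ℕ) : k)) {P : FEt.Cat U} {ρ : G →* Aut P}
    (hP : SGA1t.IsPrincipal G P ρ) (h : HasLift P m) : HasLift P (𝟙 U) := by
  obtain ⟨Ω, _, _, ⟨ξ⟩⟩ := exists_geomPt U
  obtain ⟨Ω', _, _, ⟨η⟩⟩ := exists_geomPt U'
  obtain ⟨τ⟩ := exists_path m ξ η
  have hdom : Dom (fun m => IsUnit ((m : ℕ) : k)) (conj m τ) :=
    dom_of_connected m τ (formation_isUnit k) (fun Z hZ hc => hm.weak.conn Z hZ hc)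
  obtain ⟨s, hs⟩ := h
  let s' : U' ⟶ ((FEt.restrict m).obj P).left :=
    pullback.lift s (𝟙 U') (by rw [hs, Category.id_comp])
  have hs' : s' ≫ ((FEt.restrict m).obj P).hom = 𝟙 U' := pullback.lift_snd _ _ _
  let z' : FEt.fiberObj η ((FEt.restrict m).obj P) := ⟨η ≫ s', by
    rw [Category.assoc, hs', Category.comp_id]⟩
  have hz' : ∀ γ : FEt.piOne U' η, γ.hom.app _ z' = z' :=
    fixed_of_section η _ s' hs' z' rfl
  let z : FEt.fiberObj ξ P := τ.inv.app P z'
  have hz : τ.hom.app P z = z' := hom_inv_apply τ P z'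
  have s₁ := simplyTransitive_of_isPrincipal hP ξ
  have r₁ := simplyTransitive_restrict m τ s₁
  have h1 : homOf s₁ z = 1 := by
    refine hdom.hom_ext (formation_isUnit k) hG (isOpen_ker_homOf s₁ z) ?_
      (MonoidHom.ext fun γ => ?_)
    · simp
    · rw [MonoidHom.comp_apply, MonoidHom.comp_apply, MonoidHom.one_apply,
        ← homOf_restrict m τ s₁ r₁, homOf_eq_iff, hz, inv_one, act_one]
      exact hz' γ
  refine hasLift_of_fixed ξ P z fun γ => ?_
  have h2 := homOf_spec s₁ z γ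
  rw [h1, MonoidHom.one_apply, inv_one, act_one] at h2
  exact h2

end K157.Lift
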