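import Groth.Agent.Pi1.K157.CurveA
import Groth.Agent.Sga3.H780.CurveModel
import Groth.Agent.Sga4h.FinTop
import Groth.Agent.S1619
import Mathlib.AlgebraicGeometry.SpreadingOut

/-!
# Curves with prescribed function field mapping to a scheme
-/

set_option autoImplicit false
set_option linter.dupNamespace false

universe u

open CategoryTheory CategoryTheory.Limits AlgebraicGeometry IsLocalRing

namespace K157.CurveExist

open K157.CurveA K157.Lift

/-- The fraction field of a domain without two algebraically independent elements. -/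
theorem trdeg_frac {k D F : Type u} [Field k] [CommRing D] [IsDomain D] [Algebra k D] [Field F]
    [Algebra k F] [Algebra D F] [IsScalarTower k D F] [IsFractionRing D F]
    (h : ∀ x y : D, ¬ AlgebraicIndependent k ![x, y]) :
    Algebra.trdeg k F = 0 ∨ Algebra.trdeg k F = 1 := by
  have hinj : Function.Injective (algebraMap D F) := IsFractionRing.injective D F
  let s : Set F := Set.range (algebraMap D F)
  have halg : Algebra.IsAlgebraic (Algebra.adjoin k s) F := by
    refine ⟨fun z => ?_⟩
    obtain ⟨a, d, hd, rfl⟩ := IsFractionRing.div_surjective (A := D) z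
    have ha : algebraMap D F a ∈ Algebra.adjoin k s := Algebra.subset_adjoin ⟨a, rfl⟩
    have hd' : algebraMap D F d ∈ Algebra.adjoin k s := Algebra.subset_adjoin ⟨d, rfl⟩
    have h1 : IsAlgebraic (Algebra.adjoin k s) (algebraMap D F a) :=
      isAlgebraic_algebraMap (⟨_, ha⟩ : Algebra.adjoin k s)
    have h2 : IsAlgebraic (Algebra.adjoin k s) (algebraMap D F d) :=
      isAlgebraic_algebraMap (⟨_, hd'⟩ : Algebra.adjoin k s)
    rw [div_eq_mul_inv]
    exact h1.mul h2.inv
  obtain ⟨t, hts, ht⟩ := exists_isTranscendenceBasis_subset (R := k) (A := F) s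
  rw [← ht.cardinalMk_eq_trdeg]
  rcases Set.subsingleton_or_nontrivial t with hsub | hnt
  · rcases t.eq_empty_or_nonempty with rfl | ⟨x, hx⟩
    · left; simp
    · right
      have : t = {x} := hsub.eq_singleton_of_mem hx
      subst this
      simp
  · exfalso
    obtain ⟨x, hx, y, hy, hxy⟩ := hnt
    obtain ⟨a, rfl⟩ := hts hx
    obtain ⟨b, rfl⟩ := hts hy
    have h1 : AlgebraicIndependent k (fun i : Fin 2 => algebraMap D F (![a, b] i)) := by
      let g : Fin 2 → t := ![⟨_, hx⟩, ⟨_, hy⟩]
      have hg : Function.Injective g := by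
        intro i j hij
        fin_cases i <;> fin_cases j <;> simp [g, Subtype.ext_iff] at hij ⊢
        · exact hxy (by simpa using hij)
        · exact hxy (by simpa using hij.symm)
      have h2 := ht.1.comp g hg
      convert h2 using 1
      ext i
      fin_cases i <;> rfl
    refine h a b ?_
    have h3 : AlgebraicIndependent k (IsScalarTower.toAlgHom k D F ∘ ![a, b]) := h1
    exact h3.of_comp (IsScalarTower.toAlgHom k D F)

attribute [local instance] Curv2.stalkAlgebra Curv2.resAlgebra

theorem dim_eq_one {k : Type u} [Field k] {Y : Scheme.{u}} (p : Y ⟶ Spec (CommRingCat.of k))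
    [LocallyOfFiniteType p] [IsIntegral Y] (K : Type u) [Field K] [Algebra k K]
    (htr : Algebra.trdeg k K = 1) (e : Y.functionField ≅ CommRingCat.of K)
    (he : Y.fromSpecStalk (genericPoint Y) ≫ p = Spec.map e.inv ≫
      Spec.map (CommRingCat.ofHom (algebraMap k K))) : topologicalKrullDim Y = 1 := by
  let _ : Y.Over (Spec (CommRingCat.of k)) := ⟨p⟩
  have : LocallyOfFiniteType (Y ↘ (Spec (CommRingCat.of k))) := ‹LocallyOfFiniteType p›
  have h1 : CommRingCat.ofHom (Groth.Agent.VarietyA.StalkBC.stalkRingHom p (genericPoint Y)) =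
      CommRingCat.ofHom (algebraMap k K) ≫ e.inv := by
    apply Spec.map_injective
    rw [← Groth.Agent.VarietyA.StalkBC.fromSpecStalk_comp, he, Spec.map_comp]
  let f : K →ₐ[k] Y.residueField (genericPoint Y) :=
    { (Y.residue (genericPoint Y)).hom.comp e.inv.hom with
      commutes' := fun c => by
        have h2 := congrArg (fun g => g.hom c) h1
        exact (congrArg (Y.residue (genericPoint Y)).hom h2).symm }
  have hf : Function.Bijective f := by
    refine ⟨f.toRingHom.injective, ?_⟩
    exact (Y.residue_surjective _).comp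
      ((ConcreteCategory.isIso_iff_bijective e.inv).mp inferInstance).2
  have h3 := (AlgEquiv.ofBijective f hf).trdeg_eq
  have h4 := Groth.Agent.S1619.result k Y 1 (by rw [← h3, htr]; simp)
  simpa using h4

/-- Curves with given function field. -/
theorem exists_curve (hens : Groth.Agent.Pi1.H385.T2aGeom.HensStmt.{u}) {k : Type u} [Field k]
    [IsAlgClosed k] {X : Scheme.{u}} (p : X ⟶ Spec (CommRingCat.of k)) [LocallyOfFiniteType p]
    (F : Type u) [Field F] [Algebra k F] (hfg : (⊤ : IntermediateField k F).FG)
    (htr : Algebra.trdeg k F = 0 ∨ Algebra.trdeg k F = 1) (a : Spec (CommRingCat.of F) ⟶ X)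
    (ha : a ≫ p = sp (algebraMap k F)) :
    ∃ (C : Scheme.{u}) (c : C ⟶ Spec (CommRingCat.of k)) (b : C ⟶ X)
      (e : Spec (CommRingCat.of F) ⟶ C), ConnectedSpace C ∧ Smooth c ∧ SpecProp c ∧ b ≫ p = c ∧
        e ≫ b = a ∧ ∀ y z, e y ⤳ z := by
  rcases htr with htr | htr
  · have halg : Algebra.IsAlgebraic k F := trdeg_eq_zero_iff.mp htr
    have hbij : Function.Bijective (algebraMap k F) :=
      IsAlgClosed.algebraMap_bijective_of_isIntegral
    have h1 : IsIso (CommRingCat.ofHom (algebraMap k F)) :=
      (ConcreteCategory.isIso_iff_bijective _).mpr hbij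
    have h2 : IsIso (sp (algebraMap k F)) := inferInstance
    refine ⟨Spec (CommRingCat.of k), 𝟙 _, inv (sp (algebraMap k F)) ≫ a, sp (algebraMap k F),
      inferInstance, inferInstance, specProp_point _, ?_, ?_, ?_⟩
    · rw [Category.assoc, ha, IsIso.inv_hom_id]
    · rw [IsIso.hom_inv_id_assoc]
    · intro y z
      rw [Subsingleton.elim (α := PrimeSpectrum k) ((sp (algebraMap k F)) y) z]
  · obtain ⟨Y, q, hint, hprop, hsm, e, he⟩ :=
      Groth.Agent.Sga3.H780.CurveModel.exists_smooth_curve k F hfg htr
    have hdim := dim_eq_one q F htr e he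
    have hLN : IsLocallyNoetherian Y := LocallyOfFiniteType.isLocallyNoetherian q
    have hcpt : CompactSpace Y := QuasiCompact.compactSpace_of_compactSpace q
    have hN : IsNoetherian Y := { }
    have hφ : (Spec.map e.inv ≫ a) ≫ p = Y.fromSpecStalk (genericPoint Y) ≫ q := by
      rw [Category.assoc, ha, he]
    obtain ⟨U, hxU, f, hf, hfp⟩ := spread_out_of_isGermInjective' (sX := q) (sY := p)
      (x := genericPoint Y) (Spec.map e.inv ≫ a) hφ
    have hreg : ∀ y : Y, IsRegularLocalRing (Y.presheaf.stalk y) := fun y =>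
      Groth.Agent.VarietyA.RegSmoothSch.isRegularLocalRing_stalk_of_mem_smoothLocus q y
        (by rw [q.smoothLocus_eq_top]; trivial)
    have hden : Dense (U : Set Y) := by
      refine U.isOpen.dense ⟨_, hxU⟩
    have hfin := Groth.Agent.Sga4h.FinTop.finite_compl hreg hdim.le U hden
    have hcl := Groth.Agent.Sga4h.FinTop.isClosed_singleton hreg hdim.le U hden
    have hchart := exists_chart q hdim U hfin hcl
    have hU : Nonempty U := ⟨⟨_, hxU⟩⟩
    have hUi : IsIntegral (U : Scheme.{u}) := isIntegral_of_isOpenImmersion U.ι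
    refine ⟨U, U.ι ≫ q, f, Spec.map e.hom ≫ U.fromSpecStalkOfMem _ hxU, inferInstance,
      inferInstance, specProp_curve hens q U hchart, hfp, ?_, ?_⟩
    · rw [Category.assoc, ← hf, ← Spec.map_comp_assoc, e.inv_hom_id, Spec.map_id, Category.id_comp]
    · intro y z
      rw [← U.ι.isOpenEmbedding.isInducing.specializes_iff, ← Scheme.Hom.comp_apply,
        Category.assoc, Scheme.Opens.fromSpecStalkOfMem_ι, Scheme.Hom.comp_apply]
      have h5 : Y.fromSpecStalk (genericPoint Y) ((Spec.map e.hom) y) = genericPoint Y := by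
        have h6 : (Spec.map e.hom) y = closedPoint (Y.presheaf.stalk (genericPoint Y)) := by
          have : Subsingleton ↥(Spec (Y.presheaf.stalk (genericPoint Y))) :=
            inferInstanceAs (Subsingleton (PrimeSpectrum Y.functionField))
          exact Subsingleton.elim _ _
        rw [h6, Scheme.fromSpecStalk_closedPoint]
      rw [h5]
      exact (genericPoint_spec Y).specializes trivial

end K157.CurveExist
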