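import Groth.Agent.Pi1.K157.BertiniRing
import Groth.Agent.Pi1.K157.CurveExist

/-!
# Curves on a variety over which a given finite cover of the base change stays connected
-/

set_option autoImplicit false
set_option linter.dupNamespace false

universe u

open CategoryTheory CategoryTheory.Limits AlgebraicGeometry IsLocalRing TensorProduct

namespace K157.BertiniCurve

open K157.BertiniRing K157.CurveA K157.CurveExist

/-- A flat scheme over `C` with a generic point over the generic point of `C` is connected. -/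
theorem connectedSpace_of_flat {T C : Scheme.{u}} (f : T ⟶ C) [Flat f] (ξ : C)
    (hξ : ∀ z, ξ ⤳ z) (t₀ : T) (ht₀ : ∀ t, f t = ξ → t₀ ⤳ t) : ConnectedSpace T := by
  have key : ∀ t, t₀ ⤳ t := by
    intro t
    obtain ⟨t', h1, h2⟩ := Flat.generalizingMap f (hξ (f t))
    exact (ht₀ t' h2).trans h1
  have h : IsIrreducible (closure {t₀}) := isIrreducible_singleton.closure
  have h2 : closure {t₀} = Set.univ :=
    Set.eq_univ_of_forall fun z => specializes_iff_mem_closure.mp (key z)
  rw [h2] at h
  have : IrreducibleSpace T := (irreducibleSpace_def _).mpr h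
  infer_instance

/-- Ring version. -/
theorem exists_curve_ring (hens : Groth.Agent.Pi1.H385.T2aGeom.HensStmt.{u})
    {k Ω A B : Type u} [Field k] [IsAlgClosed k] [Field Ω] [IsAlgClosed Ω]
    [Algebra k Ω] [CommRing A] [IsDomain A] [Algebra k A] [Algebra.FiniteType k A] [CommRing B]
    [IsDomain B] [Algebra Ω B] [Algebra k B] [IsScalarTower k Ω B] (α : A →ₐ[k] B)
    (hα : Function.Injective (extHom Ω α)) (hfin : (extHom Ω α).toRingHom.Finite)
    (hflat : Flat (sp α.toRingHom)) :
    ∃ (C : Scheme.{u}) (c : C ⟶ Spec (CommRingCat.of k)) (b : C ⟶ Spec (CommRingCat.of A)),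
      ConnectedSpace C ∧ Smooth c ∧ SpecProp c ∧ b ≫ sp (algebraMap k A) = c ∧
        ConnectedSpace ↥(pullback (sp α.toRingHom) b) := by
  obtain ⟨q, hq, htr⟩ := exists_prime_comap (Ω := Ω) α hα hfin
  have hqp := q.isPrime
  let p : Ideal A := q.asIdeal.comap α
  have hp : p.IsPrime := Ideal.IsPrime.comap α
  let D := A ⧸ p
  let F := FractionRing D
  have htr' := trdeg_frac (k := k) (D := D) (F := F) htr
  have hess : Algebra.EssFiniteType k F := by
    have h1 : Algebra.EssFiniteType D F :=
      Algebra.EssFiniteType.of_isLocalization F (nonZeroDivisors D)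
    exact Algebra.EssFiniteType.comp k D F
  have hfg : (⊤ : IntermediateField k F).FG := IntermediateField.fg_top k F
  let a : Spec (CommRingCat.of F) ⟶ Spec (CommRingCat.of A) := sp (algebraMap A F)
  have ha : a ≫ sp (algebraMap k A) = sp (algebraMap k F) := by
    rw [sp_comp, ← IsScalarTower.algebraMap_eq]
  have hlft : LocallyOfFiniteType (sp (algebraMap k A)) := by
    rw [HasRingHomProperty.Spec_iff (P := @LocallyOfFiniteType)]
    exact (RingHom.finiteType_algebraMap).mpr inferInstance
  obtain ⟨C, c, b, e, hC, hsm, hsp, hbc, heb, hgen⟩ :=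
    exists_curve hens (sp (algebraMap k A)) F hfg htr' a ha
  refine ⟨C, c, b, hC, hsm, hsp, hbc, ?_⟩
  let g : Spec (CommRingCat.of B) ⟶ Spec (CommRingCat.of A) := sp α.toRingHom
  -- `a` is a preimmersion with image `p`
  have hpre : IsPreimmersion a := by
    have h1 : IsPreimmersion (sp (algebraMap D F)) :=
      IsPreimmersion.of_isLocalization (nonZeroDivisors D)
    have h2 : IsClosedImmersion (sp (Ideal.Quotient.mk p)) :=
      IsClosedImmersion.spec_of_surjective _ Ideal.Quotient.mk_surjective
    have h3 : a = sp (algebraMap D F) ≫ sp (Ideal.Quotient.mk p) := by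
      rw [sp_comp]
    rw [h3]
    infer_instance
  have hap : ∀ y, (a y).asIdeal = p := by
    intro y
    have hy : y.asIdeal = ⊥ := by
      have := y.isPrime
      exact Ideal.eq_bot_of_prime (K := F) y.asIdeal
    change Ideal.comap (algebraMap A F) y.asIdeal = p
    rw [hy, ← RingHom.ker_eq_comap_bot, IsScalarTower.algebraMap_eq A D F]
    rw [RingHom.ker_comp_of_injective _ (IsFractionRing.injective D F)]
    exact Ideal.mk_ker
  have hg : ∀ r : PrimeSpectrum B, (g r).asIdeal = r.asIdeal.comap α := fun r => rfl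
  let y₀ : Spec (CommRingCat.of F) := (⊥ : PrimeSpectrum F)
  -- the fibre over `p`
  let TF := pullback g a
  obtain ⟨tF, htF, -⟩ := Scheme.Pullback.exists_preimage_pullback (f := g) (g := a)
    (x := q) (y := y₀) (PrimeSpectrum.ext ((hg q).trans (hap y₀).symm))
  have hTF : ∀ t : TF, tF ⤳ t := by
    intro t
    rw [← (pullback.fst g a).isEmbedding.isInducing.specializes_iff, htF]
    refine (PrimeSpectrum.le_iff_specializes _ _).mp ?_
    change q.asIdeal ≤ (pullback.fst g a t).asIdeal
    rw [← hq, ← hg, ← hg]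
    have h1 : (pullback.fst g a ≫ g) t = (pullback.snd g a ≫ a) t := by rw [pullback.condition]
    rw [Scheme.Hom.comp_apply, Scheme.Hom.comp_apply] at h1
    rw [h1, hap, hg]
  -- comparison with the fibre of `T`
  let κ : TF ⟶ pullback g b := pullback.lift (pullback.fst g a) (pullback.snd g a ≫ e) (by
    rw [Category.assoc, heb, pullback.condition])
  have hκ1 : κ ≫ pullback.fst g b = pullback.fst g a := pullback.lift_fst _ _ _
  have hκ2 : κ ≫ pullback.snd g b = pullback.snd g a ≫ e := pullback.lift_snd _ _ _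
  have sq : IsPullback κ (pullback.snd g a) (pullback.snd g b) e := by
    refine IsPullback.of_right (h₁₂ := pullback.fst g b) (h₂₂ := b) (v₁₃ := g) ?_ hκ2
      (IsPullback.of_hasPullback g b)
    rw [hκ1, heb]
    exact IsPullback.of_hasPullback g a
  have : Flat (pullback.snd g b) := inferInstance
  refine connectedSpace_of_flat (pullback.snd g b) (e y₀) (hgen y₀) (κ tF) fun t ht => ?_
  obtain ⟨z, hz, -⟩ := Scheme.Pullback.exists_preimage_pullback (f := pullback.snd g b) (g := e)
    (x := t) (y := y₀) ht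
  have h1 : κ (sq.isoPullback.inv z) = t := by
    rw [← Scheme.Hom.comp_apply, sq.isoPullback_inv_fst, hz]
  rw [← h1]
  exact (hTF _).map κ.continuous

theorem flat_sp {k R : Type u} [Field k] [CommRing R] (i : k →+* R) : Flat (sp i) := by
  rw [HasRingHomProperty.Spec_iff (P := @Flat)]
  let _ : Algebra k R := i.toAlgebra
  have h : Module.Flat k R := inferInstance
  exact h

/-- Scheme version. -/
theorem exists_curve_scheme (hens : Groth.Agent.Pi1.H385.T2aGeom.HensStmt.{u})
    {k Ω A : Type u} [Field k] [IsAlgClosed k] [Field Ω] [IsAlgClosed Ω]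
    (i : k →+* Ω) [CommRing A] [IsDomain A] [Algebra k A] [Algebra.FiniteType k A]
    {E : Scheme.{u}} (z : E ⟶ pullback (sp (algebraMap k A)) (sp i)) [IsFinite z] [Flat z]
    [IsIntegral E] [Surjective z] :
    ∃ (C : Scheme.{u}) (c : C ⟶ Spec (CommRingCat.of k)) (b : C ⟶ Spec (CommRingCat.of A)),
      ConnectedSpace C ∧ Smooth c ∧ SpecProp c ∧ b ≫ sp (algebraMap k A) = c ∧
        ConnectedSpace ↥(pullback (z ≫ pullback.fst _ _) b) := by
  let _ : Algebra k Ω := i.toAlgebra
  have hAff : IsAffine E := isAffine_of_isAffineHom z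
  let B := Γ(E, ⊤)
  let s : Spec B ⟶ E := E.isoSpec.inv
  let g₁ : E ⟶ Spec (CommRingCat.of A) := z ≫ pullback.fst _ _
  let g₂ : E ⟶ Spec (CommRingCat.of Ω) := z ≫ pullback.snd _ _
  let α₀ : A →+* B := (Spec.preimage (s ≫ g₁)).hom
  let β₀ : Ω →+* B := (Spec.preimage (s ≫ g₂)).hom
  have hα₀ : Spec.map (CommRingCat.ofHom α₀) = s ≫ g₁ := Spec.map_preimage _
  have hβ₀ : Spec.map (CommRingCat.ofHom β₀) = s ≫ g₂ := Spec.map_preimage _
  let _ : Algebra Ω B := β₀.toAlgebra
  let _ : Algebra k B := (β₀.comp i).toAlgebra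
  have : IsScalarTower k Ω B := IsScalarTower.of_algebraMap_eq fun _ => rfl
  have hcomm : α₀.comp (algebraMap k A) = β₀.comp i := by
    have h1 : CommRingCat.ofHom (algebraMap k A) ≫ CommRingCat.ofHom α₀ =
        CommRingCat.ofHom i ≫ CommRingCat.ofHom β₀ := by
      apply Spec.map_injective
      rw [Spec.map_comp, Spec.map_comp, hα₀, hβ₀]
      simp only [g₁, g₂, Category.assoc]
      rw [show pullback.fst (sp (algebraMap k A)) (sp i) ≫ Spec.map (CommRingCat.ofHom (algebraMap k A)) =
        pullback.snd (sp (algebraMap k A)) (sp i) ≫ Spec.map (CommRingCat.ofHom i) from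
        pullback.condition]
    exact congrArg CommRingCat.Hom.hom h1
  let α : A →ₐ[k] B := { α₀ with commutes' := fun c => RingHom.congr_fun hcomm c }
  have hP : IsPullback (Spec.map (CommRingCat.ofHom
        (Algebra.TensorProduct.includeRight : A →ₐ[k] Ω ⊗[k] A).toRingHom))
      (Spec.map (CommRingCat.ofHom (Algebra.TensorProduct.includeLeftRingHom : Ω →+* Ω ⊗[k] A)))
      (sp (algebraMap k A)) (sp i) :=
    isPullback_SpecMap_of_isPushout _ _ _ _ (CommRingCat.isPushout_tensorProduct k Ω A).flip
  let w := hP.isoPullback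
  have hw1 : w.hom ≫ pullback.fst _ _ = _ := hP.isoPullback_hom_fst
  have hw2 : w.hom ≫ pullback.snd _ _ = _ := hP.isoPullback_hom_snd
  have hkey : sp (extHom Ω α).toRingHom ≫ w.hom = s ≫ z := by
    apply pullback.hom_ext
    · rw [Category.assoc, hw1, Category.assoc, sp_comp]
      have h1 : (extHom Ω α).toRingHom.comp
          (Algebra.TensorProduct.includeRight : A →ₐ[k] Ω ⊗[k] A).toRingHom = α₀ := by
        ext a
        change extHom Ω α (1 ⊗ₜ a) = α a
        rw [extHom_tmul, map_one, one_mul]
      rw [h1]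
      exact hα₀
    · rw [Category.assoc, hw2, Category.assoc, sp_comp]
      have h1 : (extHom Ω α).toRingHom.comp
          (Algebra.TensorProduct.includeLeftRingHom : Ω →+* Ω ⊗[k] A) = β₀ := by
        ext a
        change extHom Ω α (a ⊗ₜ 1) = β₀ a
        rw [extHom_tmul, map_one, mul_one]
        rfl
      rw [h1]
      exact hβ₀
  have hkey' : sp (extHom Ω α).toRingHom = s ≫ z ≫ w.inv := by
    rw [← Category.assoc, ← hkey, Category.assoc, Iso.hom_inv_id, Category.comp_id]
  have hdom : IsDomain (Ω ⊗[k] A) := Groth.Agent.Fdesc.TensorDomain.isDomain_tensorProduct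
  have hfin : (extHom Ω α).toRingHom.Finite := by
    have h1 : IsFinite (sp (extHom Ω α).toRingHom) := by
      rw [hkey']
      infer_instance
    exact (IsFinite.SpecMap_iff _).mp h1
  have hinj : Function.Injective (extHom Ω α) := by
    have h1 : Surjective (sp (extHom Ω α).toRingHom) := by
      rw [hkey']
      infer_instance
    have h2 : DenseRange (PrimeSpectrum.comap (extHom Ω α).toRingHom) :=
      h1.surj.denseRange
    rw [PrimeSpectrum.denseRange_comap_iff_ker_le_nilRadical, nilradical_eq_zero] at h2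
    exact (RingHom.injective_iff_ker_eq_bot _).mpr (le_bot_iff.mp h2)
  have hflat : Flat (sp α.toRingHom) := by
    have h1 : Flat (sp i) := flat_sp i
    have h2 : sp α.toRingHom = s ≫ z ≫ pullback.fst _ _ := hα₀
    rw [h2]
    infer_instance
  obtain ⟨C, c, b, h1, h2, h3, h4, h5⟩ := exists_curve_ring hens (Ω := Ω) α hinj hfin hflat
  refine ⟨C, c, b, h1, h2, h3, h4, ?_⟩
  have h6 : sp α.toRingHom = s ≫ g₁ := hα₀
  have sq : IsPullback (pullback.fst (sp α.toRingHom) b ≫ s) (pullback.snd (sp α.toRingHom) b)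
      g₁ b := by
    have h7 : IsPullback s (sp α.toRingHom) g₁ (𝟙 _) :=
      IsPullback.of_horiz_isIso ⟨by rw [Category.comp_id, h6]⟩
    have h8 := (IsPullback.of_hasPullback (sp α.toRingHom) b).paste_horiz h7
    rwa [Category.comp_id] at h8
  exact sq.isoPullback.hom.homeomorph.connectedSpace_iff.mp h5

end K157.BertiniCurve
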