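import Groth.Agent.Pi1.K157.RatAlg
import Groth.Agent.Flat2E.FinSepClosure
import Mathlib.FieldTheory.PrimitiveElement
import Mathlib.Combinatorics.Matroid.Rank.ENat

/-!
# Linear pencils and separable closedness (Zariski)

`Ω` algebraically closed, `L/Ω` finitely generated, `x, y ∈ L` algebraically independent. For all but finitely
many `c ∈ Ω` the field `Ω(x + c y)` is separably closed in `L`.
-/

set_option autoImplicit false

open Polynomial IntermediateField

namespace K157.Pencil

variable {Ω : Type*} [Field Ω] {L : Type*} [Field L] [Algebra Ω L]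

theorem not_both_algebraic {x y : L} (hxy : AlgebraicIndependent Ω ![x, y]) (u : L)
    (hx : IsAlgebraic (Algebra.adjoin Ω {u}) x) (hy : IsAlgebraic (Algebra.adjoin Ω {u}) y) : False := by
  have hne : x ≠ y := by
    intro h
    have := hxy.injective (a₁ := 0) (a₂ := 1) (by simpa using h)
    exact absurd this (by decide)
  have hind : (AlgebraicIndependent.matroid Ω L).Indep {x, y} := by
    rw [AlgebraicIndependent.matroid_indep_iff]
    have h1 := hxy.coe_range
    have h2 : Set.range ![x, y] = {x, y} := by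
      ext z
      simp [Matrix.range_cons, Set.mem_insert_iff, or_comm]
    rw [h2] at h1
    exact h1
  have hsub : ({x, y} : Set L) ⊆ (AlgebraicIndependent.matroid Ω L).closure {u} := by
    rw [AlgebraicIndependent.matroid_closure_eq]
    rintro z (rfl | rfl)
    · exact hx
    · exact hy
  have h1 := hind.encard_le_eRk_of_subset hsub
  rw [Matroid.eRk_closure_eq] at h1
  have h2 := h1.trans (Matroid.eRk_le_encard _ _)
  rw [Set.encard_pair hne, Set.encard_singleton] at h2
  exact absurd h2 (by decide)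

theorem isAlgebraic_smul {R : Type*} [CommRing R] [IsDomain R] [Algebra R L] {x y : L}
    (hx : IsAlgebraic R x) (hy : IsAlgebraic R y) (c : Ω) (hc : IsAlgebraic R (algebraMap Ω L c)) :
    IsAlgebraic R (x - c • y) := by
  rw [Algebra.smul_def]
  exact hx.sub (hc.mul hy)

theorem mem_of_mem (M : IntermediateField Ω L) (T : IntermediateField M L) (w : L) (hw : w ∈ M) :
    w ∈ T := T.algebraMap_mem ⟨w, hw⟩

theorem adjoin_sub {F : Type*} [Field F] [Algebra F L] (S : Subfield L)
    (hS : ∀ t : F, algebraMap F L t ∈ S) (s : Set L) (hs : s ⊆ S) : ∀ w ∈ adjoin F s, w ∈ S := by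
  have h1 : adjoin F s ≤ S.toIntermediateField hS := by
    rw [adjoin_le_iff]
    exact hs
  exact fun w hw => h1 hw

section

variable {x y : L} (hxy : AlgebraicIndependent Ω ![x, y]) {c c' : Ω} (hc : c ≠ c')

theorem eq_y (hc : c ≠ c') : y = (c - c')⁻¹ • ((x + c • y) - (x + c' • y)) := by
  have h : c - c' ≠ 0 := sub_ne_zero.mpr hc
  rw [add_sub_add_left_eq_sub, ← sub_smul, smul_smul, inv_mul_cancel₀ h, one_smul]

theorem eq_x : x = (x + c • y) - c • y := by abel

include hxy hc

theorem transcendental_snd (z : L) (hz : IsAlgebraic (adjoin Ω {x + c • y}) z) :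
    Transcendental (adjoin Ω {x + c • y, z}) (x + c' • y) := by
  intro halg
  let u := x + c • y
  let K := adjoin Ω {u}
  -- everything is algebraic over `K`
  have hz1 : IsAlgebraic (Algebra.adjoin Ω {u}) z := isAlgebraic_adjoin_iff.mp hz
  have hu1 : IsAlgebraic (Algebra.adjoin Ω {u}) u :=
    isAlgebraic_algebraMap (⟨u, Algebra.subset_adjoin rfl⟩ : Algebra.adjoin Ω {u})
  have hv1 : IsAlgebraic (Algebra.adjoin Ω {u}) (x + c' • y) := by
    have h1 : IsAlgebraic (Algebra.adjoin Ω {u, z}) (x + c' • y) := isAlgebraic_adjoin_iff.mp halg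
    refine h1.adjoin_of_forall_isAlgebraic fun w hw => ?_
    rcases hw.1 with rfl | hw'
    · exact hu1
    · rw [Set.mem_singleton_iff.mp hw']
      exact hz1
  have hcst : ∀ t : Ω, IsAlgebraic (Algebra.adjoin Ω {u}) (algebraMap Ω L t) := fun t =>
    isAlgebraic_algebraMap (algebraMap Ω (Algebra.adjoin Ω {u}) t)
  have hy1 : IsAlgebraic (Algebra.adjoin Ω {u}) y := by
    rw [eq_y (x := x) (y := y) hc, Algebra.smul_def]
    exact (hcst _).mul (hu1.sub hv1)
  have hx1 : IsAlgebraic (Algebra.adjoin Ω {u}) x := by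
    have h2 : x = u - c • y := eq_x
    rw [h2]
    exact isAlgebraic_smul hu1 hy1 c (hcst c)
  exact not_both_algebraic hxy u hx1 hy1

omit hxy in
theorem mem_adjoin_snd (z w : L) (hw : w ∈ adjoin (adjoin Ω {x, y}) {z}) :
    w ∈ adjoin (adjoin Ω {x + c • y, z}) {x + c' • y} := by
  obtain ⟨S, hS, hmem⟩ : ∃ S : Subfield L, (∀ w, w ∈ S ↔
      w ∈ adjoin (adjoin Ω {x + c • y, z}) {x + c' • y}) ∧
      ∀ w ∈ adjoin Ω {x + c • y, z}, w ∈ S :=
    ⟨(adjoin (adjoin Ω {x + c • y, z}) {x + c' • y}).toSubfield, fun _ => Iff.rfl,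
      fun w hw => mem_of_mem _ _ w hw⟩
  rw [← hS]
  have hcst : ∀ t : Ω, algebraMap Ω L t ∈ S := fun t => hmem _ (IntermediateField.algebraMap_mem _ t)
  have hu : x + c • y ∈ S := hmem _ (subset_adjoin _ _ (Set.mem_insert _ _))
  have hz : z ∈ S := hmem _ (subset_adjoin _ _ (Set.mem_insert_of_mem _ rfl))
  have hv : x + c' • y ∈ S := (hS _).mpr (subset_adjoin _ _ rfl)
  have hy : y ∈ S := by
    rw [eq_y (x := x) (y := y) hc, Algebra.smul_def]
    exact mul_mem (hcst _) (sub_mem hu hv)
  have hx : x ∈ S := by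
    have h2 : x = (x + c • y) - c • y := eq_x
    rw [h2]
    refine sub_mem hu ?_
    rw [Algebra.smul_def]
    exact mul_mem (hcst _) hy
  refine adjoin_sub S ?_ {z} (by rintro _ rfl; exact hz) w hw
  rintro ⟨t, ht⟩
  refine adjoin_sub S hcst {x, y} ?_ t ht
  rintro _ (rfl | rfl)
  · exact hx
  · exact hy

end

variable [IsAlgClosed Ω]

theorem core {x y : L} (hxy : AlgebraicIndependent Ω ![x, y]) {c c' : Ω} (hc : c ≠ c') (z z' : L)
    (hz : IsAlgebraic (adjoin Ω {x + c • y}) z) (hz' : IsAlgebraic (adjoin Ω {x + c' • y}) z')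
    (h : z' ∈ adjoin (adjoin Ω {x, y}) {z}) : z' ∈ adjoin Ω {x + c' • y} :=
  RatAlg.mem_adjoin_of_isAlgebraic (adjoin Ω {x + c • y, z}) (x + c' • y)
    (transcendental_snd hxy hc z hz) z' (mem_adjoin_snd hc z z' h) hz'

omit [IsAlgClosed Ω] in
theorem isSeparable_pair {x y : L} (c : Ω) (z : L) (hz : IsSeparable (adjoin Ω {x + c • y}) z) :
    IsSeparable (adjoin Ω {x, y}) z := by
  have hle : adjoin Ω {x + c • y} ≤ adjoin Ω {x, y} := by
    rw [adjoin_le_iff]
    rintro w rfl
    have hx : x ∈ adjoin Ω {x, y} := subset_adjoin _ _ (Set.mem_insert _ _)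
    have hy : y ∈ adjoin Ω {x, y} := subset_adjoin _ _ (Set.mem_insert_of_mem _ rfl)
    exact add_mem hx ((adjoin Ω {x, y}).smul_mem hy)
  let _ : Algebra (adjoin Ω {x + c • y}) (adjoin Ω {x, y}) := (inclusion hle).toRingHom.toAlgebra
  have : IsScalarTower (adjoin Ω {x + c • y}) (adjoin Ω {x, y}) L :=
    IsScalarTower.of_algebraMap_eq fun _ => rfl
  exact hz.tower_top _

/-- **Zariski.** -/
theorem finite_bad [Algebra.EssFiniteType Ω L] (x y : L) (hxy : AlgebraicIndependent Ω ![x, y]) :
    {c : Ω | ∃ z : L, IsSeparable (adjoin Ω {x + c • y}) z ∧ z ∉ adjoin Ω {x + c • y}}.Finite := by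
  classical
  by_contra hinf
  have hinf' : {c : Ω | ∃ z : L, IsSeparable (adjoin Ω {x + c • y}) z ∧
    z ∉ adjoin Ω {x + c • y}}.Infinite := hinf
  let B := {c : Ω | ∃ z : L, IsSeparable (adjoin Ω {x + c • y}) z ∧ z ∉ adjoin Ω {x + c • y}}
  have : Infinite B := hinf'.to_subtype
  let F₀ := adjoin Ω {x, y}
  have : Algebra.EssFiniteType F₀ L := .of_comp Ω F₀ L
  have : FiniteDimensional F₀ (separableClosure F₀ L) :=
    Groth.Agent.Flat2E.FinSepClosure.finiteDimensional_separableClosure
  have : Finite (IntermediateField F₀ (separableClosure F₀ L)) :=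
    Field.finite_intermediateField_of_exists_primitive_element F₀ _
      (Field.exists_primitive_element F₀ (separableClosure F₀ L))
  choose z hz hz' using fun c : B => c.2
  have hzs : ∀ c, z c ∈ separableClosure F₀ L := fun c =>
    mem_separableClosure_iff.mpr (isSeparable_pair c.1 (z c) (hz c))
  let E : B → IntermediateField F₀ (separableClosure F₀ L) := fun c => adjoin F₀ {⟨z c, hzs c⟩}
  obtain ⟨c, c', hcc, hE⟩ := Finite.exists_ne_map_eq_of_infinite E
  refine hz' c' (core hxy (fun h => hcc (Subtype.ext h)) (z c) (z c') (hz c).isIntegral.isAlgebraic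
    (hz c').isIntegral.isAlgebraic ?_)
  have h1 : (⟨z c', hzs c'⟩ : separableClosure F₀ L) ∈ E c := by
    rw [hE]
    exact mem_adjoin_simple_self F₀ _
  have h2 : (separableClosure F₀ L).val ⟨z c', hzs c'⟩ ∈ (E c).map (separableClosure F₀ L).val :=
    (IntermediateField.mem_map _).mpr ⟨_, h1, rfl⟩
  have h3 : (E c).map (separableClosure F₀ L).val = adjoin F₀ {z c} := by
    rw [adjoin_map, Set.image_singleton]
    rfl
  rw [h3] at h2
  exact h2

end K157.Pencil
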