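import Groth.Agent.Dix.GenGeomIrr
import Groth.Agent.Dix.GoodFibres
import Groth.Agent.S0419
import Groth.Agent.Pi1.K157.Pencil

/-!
# Irreducible fibres of a function whose field is separably closed in the function field
-/

set_option autoImplicit false

universe u

open CategoryTheory AlgebraicGeometry Polynomial

namespace K157.BertiniFibre

open Groth.Agent.Dix.GenGeomIrr

variable {Ω B : Type u} [Field Ω] [CommRing B] [IsDomain B] [Algebra Ω B]

/-- The residue field of the generic point of `Spec B`. -/
noncomputable abbrev GenField (B : Type u) [CommRing B] [IsDomain B] : Type u :=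
  (Spec (CommRingCat.of B)).residueField (⊥ : PrimeSpectrum B)

variable (B) in
/-- Evaluation at the generic point. -/
noncomputable def evB : B →+* GenField B :=
  (ev (Spec (CommRingCat.of B)) (⊥ : PrimeSpectrum B)).comp
    (Scheme.ΓSpecIso (CommRingCat.of B)).inv.hom

theorem bot_specializes (z : Spec (CommRingCat.of B)) : (⊥ : PrimeSpectrum B) ⤳ z :=
  (PrimeSpectrum.le_iff_specializes _ _).1 bot_le

theorem evB_injective : Function.Injective (evB B) := by
  have hG := genPt_top (Spec (CommRingCat.of B)) (⊥ : PrimeSpectrum B) bot_specializes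
  have h1 : Function.Injective
      ((Spec (CommRingCat.of B)).residue (⊥ : PrimeSpectrum B)).hom := by
    let _ : Field ((Spec (CommRingCat.of B)).presheaf.stalk (⊥ : PrimeSpectrum B)) :=
      hG.field.toField
    exact ((Spec (CommRingCat.of B)).residue (⊥ : PrimeSpectrum B)).hom.injective
  have h2 : Function.Injective (Scheme.ΓSpecIso (CommRingCat.of B)).inv.hom :=
    ((ConcreteCategory.isIso_iff_bijective (Scheme.ΓSpecIso (CommRingCat.of B)).inv).mp
      inferInstance).1
  exact (h1.comp (germ_injective_of_isIntegral (Spec (CommRingCat.of B)) (⊥ : PrimeSpectrum B)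
    (show (⊥ : PrimeSpectrum B) ∈ (⊤ : (Spec (CommRingCat.of B)).Opens) from trivial))).comp h2

/-- Elements of the residue field are fractions. -/
theorem exists_fraction (R : Type u) [CommRing R] (y : Spec (CommRingCat.of R))
    (b : (Spec (CommRingCat.of R)).residueField y) :
    ∃ a d : R, ev (Spec (CommRingCat.of R)) y ((Scheme.ΓSpecIso (CommRingCat.of R)).inv.hom d) ≠ 0 ∧
      b * ev (Spec (CommRingCat.of R)) y ((Scheme.ΓSpecIso (CommRingCat.of R)).inv.hom d) =
        ev (Spec (CommRingCat.of R)) y ((Scheme.ΓSpecIso (CommRingCat.of R)).inv.hom a) := by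
  obtain ⟨a, d, h1, h2⟩ := exists_fraction_residue (Spec (CommRingCat.of R)) y b
  have h3 : Function.Surjective (Scheme.ΓSpecIso (CommRingCat.of R)).inv.hom :=
    ((ConcreteCategory.isIso_iff_bijective (Scheme.ΓSpecIso (CommRingCat.of R)).inv).mp
      inferInstance).2
  obtain ⟨a, rfl⟩ := h3 a
  obtain ⟨d, rfl⟩ := h3 d
  exact ⟨a, d, h1, h2⟩

omit [Algebra Ω B] in
theorem residueFieldMap_evB (φ : (Polynomial Ω) →+* B) (p : (Polynomial Ω)) :
    ((Spec.map (CommRingCat.ofHom φ)).residueFieldMap (⊥ : PrimeSpectrum B)).hom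
      (ev (Spec (CommRingCat.of (Polynomial Ω))) _ ((Scheme.ΓSpecIso (CommRingCat.of (Polynomial Ω))).inv.hom p)) =
      evB B (φ p) := by
  rw [residueFieldMap_ev]
  have h := congrArg (fun g => g.hom p) (Scheme.ΓSpecIso_inv_naturality (CommRingCat.ofHom φ))
  exact congrArg (ev (Spec (CommRingCat.of B)) (⊥ : PrimeSpectrum B)) h.symm

variable [Algebra Ω (GenField B)]

/-- The generic fibre of `z : Spec B ⟶ 𝔸¹` is geometrically irreducible. -/
theorem geometricallyIrreducible (hΩ : ∀ c, algebraMap Ω (GenField B) c = evB B (algebraMap Ω B c))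
    (z : B)
    (hsep : ∀ w : GenField B, IsSeparable (IntermediateField.adjoin Ω {evB B z}) w →
      w ∈ IntermediateField.adjoin Ω {evB B z}) :
    GeometricallyIrreducible ((Spec.map (CommRingCat.ofHom
      (aeval z : (Polynomial Ω) →ₐ[Ω] B).toRingHom)).fiberToSpecResidueField
        (Spec.map (CommRingCat.ofHom (aeval z : (Polynomial Ω) →ₐ[Ω] B).toRingHom) (⊥ : PrimeSpectrum B))) := by
  apply geometricallyIrreducible_fiber _ _ bot_specializes
  intro a ha
  set f := Spec.map (CommRingCat.ofHom (aeval z : (Polynomial Ω) →ₐ[Ω] B).toRingHom) with hf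
  let F := (Spec (CommRingCat.of (Polynomial Ω))).residueField (f (⊥ : PrimeSpectrum B))
  let ι : F →+* GenField B := (f.residueFieldMap (⊥ : PrimeSpectrum B)).hom
  let s := (Scheme.ΓSpecIso (CommRingCat.of (Polynomial Ω))).inv.hom
  have h1 : ∀ p : (Polynomial Ω), ι (ev (Spec (CommRingCat.of (Polynomial Ω))) _ (s p)) = evB B (aeval z p) :=
    fun p => residueFieldMap_evB _ p
  let M : IntermediateField Ω (GenField B) := IntermediateField.adjoin Ω {evB B z}
  have h0 : ∀ p : (Polynomial Ω), evB B (aeval z p) ∈ M := by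
    intro p
    have h : evB B (aeval z p) = aeval (evB B z) p := by
      rw [aeval_def, aeval_def, Polynomial.hom_eval₂]
      congr 1
      ext c
      exact (hΩ c).symm
    rw [h]
    exact IntermediateField.algebra_adjoin_le_adjoin Ω _ (Polynomial.aeval_mem_adjoin_singleton Ω _)
  have h2 : ∀ b : F, ι b ∈ M := by
    intro b
    obtain ⟨p, d, hd, hb⟩ := exists_fraction _ _ b
    have h3 : ι b * evB B (aeval z d) = evB B (aeval z p) := by
      rw [← h1, ← h1, ← map_mul]
      exact congrArg ι hb
    have h4 : evB B (aeval z d) ≠ 0 := by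
      rw [← h1]
      exact (map_ne_zero_iff _ ι.injective).mpr hd
    rw [eq_div_of_mul_eq h4 h3]
    exact M.div_mem (h0 p) (h0 d)
  have h3 : ∀ w ∈ M, w ∈ ι.range := by
    have hz : ({evB B z} : Set (GenField B)) ⊆ (ι.fieldRange : Subfield (GenField B)) := by
      rintro _ rfl
      refine ⟨ev (Spec (CommRingCat.of (Polynomial Ω))) _ (s X), ?_⟩
      rw [h1, aeval_X]
    have h4 := K157.Pencil.adjoin_sub (F := Ω) (L := GenField B) ι.fieldRange (fun t => by
      refine ⟨ev (Spec (CommRingCat.of (Polynomial Ω))) _ (s (C t)), ?_⟩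
      rw [h1, aeval_C, hΩ]) {evB B z} hz
    intro w hw
    exact h4 w hw
  apply h3
  apply hsep
  let j : F →+* M := ι.codRestrict M.toSubfield.toSubring h2
  let _ : Algebra F (GenField B) := ι.toAlgebra
  have ha' : (minpoly F a).Separable := ha
  have hint : IsIntegral F a := by
    by_contra hn
    have h5 := minpoly.eq_zero hn
    rw [h5] at ha'
    exact Polynomial.not_separable_zero ha'
  have h5 : ((minpoly F a).map j).Separable := ha'.map
  refine h5.of_dvd (minpoly.dvd _ _ ?_)
  rw [aeval_def, Polynomial.eval₂_map]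
  have h6 : (algebraMap M (GenField B)).comp j = algebraMap F (GenField B) := rfl
  rw [h6]
  exact minpoly.aeval F a

/-- If `Ω(z)` is separably closed in the fraction field of `B`, all but finitely many fibres of `z` are
irreducible. -/
theorem finite_bad_fibre [IsAlgClosed Ω] [Algebra.FiniteType Ω B]
    (hΩ : ∀ c, algebraMap Ω (GenField B) c = evB B (algebraMap Ω B c)) (z : B)
    (hz : Transcendental Ω z)
    (hsep : ∀ w : GenField B, IsSeparable (IntermediateField.adjoin Ω {evB B z}) w →
      w ∈ IntermediateField.adjoin Ω {evB B z}) :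
    {u : Ω | ¬ ∃ q : PrimeSpectrum B, ∀ r : PrimeSpectrum B,
      z - algebraMap Ω B u ∈ r.asIdeal ↔ q.asIdeal ≤ r.asIdeal}.Finite := by
  let φ : (Polynomial Ω) →+* B := (aeval z : (Polynomial Ω) →ₐ[Ω] B).toRingHom
  let f := Spec.map (CommRingCat.ofHom φ)
  have hφ : Function.Injective φ := by
    have := transcendental_iff_injective.mp hz
    exact this
  have hgen : f (⊥ : PrimeSpectrum B) = genericPoint (Spec (CommRingCat.of (Polynomial Ω))) := by
    have h1 : f (⊥ : PrimeSpectrum B) = (⊥ : PrimeSpectrum (Polynomial Ω)) := by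
      apply PrimeSpectrum.ext
      change Ideal.comap φ ⊥ = ⊥
      rw [← RingHom.ker_eq_comap_bot]
      exact (RingHom.injective_iff_ker_eq_bot φ).mp hφ
    rw [h1]
    exact ((bot_specializes _).antisymm ((genericPoint_spec _).specializes trivial)).eq
  have hgeom := geometricallyIrreducible hΩ z hsep
  have hft : φ.FiniteType := by
    let _ : Algebra (Polynomial Ω) B := φ.toAlgebra
    have : IsScalarTower Ω (Polynomial Ω) B := IsScalarTower.of_algebraMap_eq fun c => by
      change algebraMap Ω B c = aeval z (C c)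
      rw [aeval_C]
    exact Algebra.FiniteType.of_restrictScalars_finiteType Ω (Polynomial Ω) B
  have hlft : LocallyOfFiniteType f := by
    rw [HasRingHomProperty.Spec_iff (P := @LocallyOfFiniteType)]
    exact hft
  change GeometricallyIrreducible (f.fiberToSpecResidueField (f (⊥ : PrimeSpectrum B))) at hgeom
  rw [hgen] at hgeom
  obtain ⟨V, hVne, hV⟩ := Groth.Agent.S0419.result f hgeom
  obtain ⟨h, hh0, hhV⟩ : ∃ h : (Polynomial Ω), h ≠ 0 ∧ ∀ y : Spec (CommRingCat.of (Polynomial Ω)),
      h ∉ y.asIdeal → y ∈ V := by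
    have hmem : (⊥ : PrimeSpectrum (Polynomial Ω)) ∈ V := by
      obtain ⟨v, hv⟩ := hVne
      exact (bot_specializes (B := (Polynomial Ω)) v).mem_open V.isOpen hv
    obtain ⟨_, ⟨_, ⟨a, rfl⟩, rfl⟩, h1, h2⟩ :=
      PrimeSpectrum.isBasis_basic_opens.exists_subset_of_mem_open hmem V.isOpen
    refine ⟨a, ?_, fun z hz => h2 hz⟩
    rintro rfl
    exact h1 (Submodule.zero_mem _)
  refine Set.Finite.subset (Polynomial.finite_setOfPred_isRoot hh0) ?_
  intro u hu
  by_contra hroot
  apply hu
  let y : PrimeSpectrum (Polynomial Ω) := ⟨Ideal.span {X - C u}, (Ideal.span_singleton_prime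
    (Polynomial.X_sub_C_ne_zero u)).mpr (Polynomial.prime_X_sub_C u)⟩
  have hyV : (y : Spec (CommRingCat.of (Polynomial Ω))) ∈ V := by
    apply hhV
    intro hmem
    apply hroot
    have h1 : h ∈ Ideal.span {X - C u} := hmem
    rw [Ideal.mem_span_singleton, Polynomial.dvd_iff_isRoot] at h1
    exact h1
  obtain ⟨ξ, hξ, hξs⟩ := Groth.Agent.Dix.GoodFibres.exists_generic_of_geomIrr f V y hyV
  have hmax : (Ideal.span {X - C u} : Ideal (Polynomial Ω)).IsMaximal :=
    PrincipalIdealRing.isMaximal_of_irreducible (Polynomial.irreducible_X_sub_C u)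
  have key : ∀ r : PrimeSpectrum B, f r = y ↔ z - algebraMap Ω B u ∈ r.asIdeal := by
    intro r
    have h1 : φ (X - C u) = z - algebraMap Ω B u := by
      change aeval z (X - C u) = _
      rw [map_sub, aeval_X, aeval_C]
    constructor
    · intro h2
      have h3 : X - C u ∈ Ideal.comap φ r.asIdeal := by
        have h4 : (f r).asIdeal = y.asIdeal := congrArg PrimeSpectrum.asIdeal h2
        have h5 : (f r).asIdeal = Ideal.comap φ r.asIdeal := rfl
        rw [← h5, h4]
        exact Ideal.mem_span_singleton_self _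
      rw [Ideal.mem_comap, h1] at h3
      exact h3
    · intro h2
      apply PrimeSpectrum.ext
      change Ideal.comap φ r.asIdeal = Ideal.span {X - C u}
      symm
      refine hmax.eq_of_le ?_ ?_
      · exact Ideal.IsPrime.ne_top (Ideal.IsPrime.comap φ (hK := r.isPrime))
      · rw [Ideal.span_le, Set.singleton_subset_iff]
        change φ (X - C u) ∈ r.asIdeal
        rw [h1]
        exact h2
  refine ⟨ξ, fun r => ?_⟩
  constructor
  · intro hr
    have h1 := hξs r ((key r).mpr hr)
    exact (PrimeSpectrum.le_iff_specializes _ _).2 h1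
  · intro hr
    exact hr ((key ξ).mp hξ)

end K157.BertiniFibre
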