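import Groth.Agent.Pi1.K157.BertiniFibre
import Groth.Agent.Fdesc.TensorDomain
import Mathlib.RingTheory.TensorProduct.MvPolynomial

/-!
# Bertini for finite covers, ring form

`k ⊆ Ω` algebraically closed, `A` a finitely generated `k`-algebra, `B` a domain, finite over `Ω ⊗ A`, with
`Ω ⊗ A → B` injective. There is a prime `p` of `A` with `A / p` of transcendence degree at most one and such that the
preimage of `V(p)` in `Spec B` is irreducible.
-/

set_option autoImplicit false

universe u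

open CategoryTheory AlgebraicGeometry TensorProduct

namespace K157.BertiniRing

open K157.BertiniFibre

theorem isFractionRing (B : Type u) [CommRing B] [IsDomain B] :
    letI := (evB B).toAlgebra
    IsFractionRing B (GenField B) := by
  let _ := (evB B).toAlgebra
  have : FaithfulSMul B (GenField B) := (faithfulSMul_iff_algebraMap_injective _ _).mpr evB_injective
  refine IsFractionRing.of_field B (GenField B) fun b => ?_
  obtain ⟨a, d, hd, h⟩ := exists_fraction B (⊥ : PrimeSpectrum B) b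
  exact ⟨a, d, eq_div_of_mul_eq hd h⟩

theorem transcendental_of_pair {k A : Type*} [Field k] [CommRing A] [Algebra k A] {x y : A}
    (h : AlgebraicIndependent k ![x, y]) (c : k) : Transcendental k (x + c • y) := by
  rw [transcendental_iff]
  intro P hP
  have h1 : MvPolynomial.aeval ![x, y] (Polynomial.aeval
      (MvPolynomial.X 0 + MvPolynomial.C c * MvPolynomial.X 1 : MvPolynomial (Fin 2) k) P) = 0 := by
    rw [← Polynomial.aeval_algHom_apply]
    rw [← hP]
    congr 2
    simp [Algebra.smul_def]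
  have h2 := h.eq_zero_of_aeval_eq_zero _ h1
  have h3 := congrArg (MvPolynomial.aeval (R := k) ![(Polynomial.X : Polynomial k), 0]) h2
  rw [← Polynomial.aeval_algHom_apply, map_zero] at h3
  simpa using h3

section

variable {k Ω A B : Type u} [Field k] [IsAlgClosed k] [Field Ω] [IsAlgClosed Ω] [Algebra k Ω]
  [CommRing A] [Algebra k A] [CommRing B] [Algebra Ω B] [Algebra k B] [IsScalarTower k Ω B]

/-- The extension of a `k`-algebra homomorphism. -/
noncomputable abbrev extHom (Ω : Type u) [Field Ω] [Algebra k Ω] [Algebra Ω B]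
    [IsScalarTower k Ω B] (α : A →ₐ[k] B) : Ω ⊗[k] A →ₐ[Ω] B :=
  Algebra.TensorProduct.productLeftAlgHom (Algebra.ofId Ω B) α

omit [IsAlgClosed k] [IsAlgClosed Ω] in
theorem extHom_tmul (α : A →ₐ[k] B) (c : Ω) (a : A) :
    extHom Ω α (c ⊗ₜ a) = algebraMap Ω B c * α a := rfl

omit [IsAlgClosed k] [IsAlgClosed Ω] in
theorem algebraicIndependent (α : A →ₐ[k] B) (hα : Function.Injective (extHom Ω α)) {ι : Type*}
    {t : ι → A} (ht : AlgebraicIndependent k t) : AlgebraicIndependent Ω (fun i => α (t i)) := by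
  rw [AlgebraicIndependent] at ht ⊢
  let e := (MvPolynomial.algebraTensorAlgEquiv (R := k) (σ := ι) (A := Ω)).symm
  let Φ : MvPolynomial ι Ω →ₐ[Ω] Ω ⊗[k] A :=
    (Algebra.TensorProduct.map (AlgHom.id Ω Ω) (MvPolynomial.aeval t : MvPolynomial ι k →ₐ[k] A)).comp
      e.toAlgHom
  have hΦ : Function.Injective Φ := by
    have h1 : Function.Injective (Algebra.TensorProduct.map (AlgHom.id Ω Ω)
        (MvPolynomial.aeval t : MvPolynomial ι k →ₐ[k] A)) :=
      Module.Flat.lTensor_preserves_injective_linearMap (M := Ω)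
        (MvPolynomial.aeval t : MvPolynomial ι k →ₐ[k] A).toLinearMap ht
    exact h1.comp e.injective
  have key : (MvPolynomial.aeval (fun i => α (t i)) : MvPolynomial ι Ω →ₐ[Ω] B) =
      (extHom Ω α).comp Φ := by
    apply MvPolynomial.algHom_ext
    intro i
    simp [Φ, e]
  rw [key]
  exact hα.comp hΦ

/-- One step: cutting by a member of a linear pencil. -/
theorem exists_step [IsDomain B] [Algebra.FiniteType k A] (α : A →ₐ[k] B)
    (hα : Function.Injective (extHom Ω α)) (hfin : (extHom Ω α).toRingHom.Finite) (x y : A)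
    (hxy : AlgebraicIndependent k ![x, y]) :
    ∃ g : A, g ≠ 0 ∧ ∃ q : PrimeSpectrum B, ∀ r : PrimeSpectrum B,
      α g ∈ r.asIdeal ↔ q.asIdeal ≤ r.asIdeal := by
  let _ : Algebra B (GenField B) := (evB B).toAlgebra
  let _ : Algebra Ω (GenField B) := ((evB B).comp (algebraMap Ω B)).toAlgebra
  have : IsScalarTower Ω B (GenField B) := IsScalarTower.of_algebraMap_eq fun _ => rfl
  have hfr : IsFractionRing B (GenField B) := isFractionRing B
  have hftB : Algebra.FiniteType Ω B := by
    let _ : Algebra (Ω ⊗[k] A) B := (extHom Ω α).toRingHom.toAlgebra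
    have : IsScalarTower Ω (Ω ⊗[k] A) B := IsScalarTower.of_algebraMap_eq fun c => by
      change _ = extHom Ω α (c ⊗ₜ 1)
      rw [extHom_tmul, map_one, mul_one]
    have h1 : Module.Finite (Ω ⊗[k] A) B := hfin
    exact Algebra.FiniteType.trans (S := Ω ⊗[k] A) inferInstance inferInstance
  have hess : Algebra.EssFiniteType Ω (GenField B) := by
    have h1 : Algebra.EssFiniteType B (GenField B) :=
      Algebra.EssFiniteType.of_isLocalization (GenField B) (nonZeroDivisors B)
    exact Algebra.EssFiniteType.comp Ω B (GenField B)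
  have h2 : AlgebraicIndependent Ω ![α x, α y] := by
    have h := algebraicIndependent (Ω := Ω) α hα hxy
    convert h using 1
    ext i
    fin_cases i <;> rfl
  have h3 : AlgebraicIndependent Ω ![evB B (α x), evB B (α y)] := by
    have h : AlgebraicIndependent Ω (fun i => IsScalarTower.toAlgHom Ω B (GenField B) (![α x, α y] i)) :=
      h2.map' (f := IsScalarTower.toAlgHom Ω B (GenField B)) evB_injective
    convert h using 1
    ext i
    fin_cases i <;> rfl
  have hbad := K157.Pencil.finite_bad (evB B (α x)) (evB B (α y)) h3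
  have hinj : Function.Injective (algebraMap k Ω) := (algebraMap k Ω).injective
  obtain ⟨c, hc⟩ : ∃ c : k, algebraMap k Ω c ∉ {c : Ω | ∃ z : GenField B,
      IsSeparable (IntermediateField.adjoin Ω {evB B (α x) + c • evB B (α y)}) z ∧
        z ∉ IntermediateField.adjoin Ω {evB B (α x) + c • evB B (α y)}} := by
    have h4 := (hbad.preimage (f := algebraMap k Ω) hinj.injOn)
    obtain ⟨c, hc⟩ := h4.exists_notMem
    exact ⟨c, hc⟩
  have hc' : ∀ z : GenField B,
      IsSeparable (IntermediateField.adjoin Ω {evB B (α (x + c • y))}) z →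
        z ∈ IntermediateField.adjoin Ω {evB B (α (x + c • y))} := by
    have h5 : evB B (α (x + c • y)) = evB B (α x) + algebraMap k Ω c • evB B (α y) := by
      rw [map_add, map_add, map_smul, Algebra.smul_def (algebraMap k Ω c),
        Algebra.smul_def c (α y), map_mul, IsScalarTower.algebraMap_apply k Ω B]
      rfl
    rw [h5]
    intro z hz
    by_contra hn
    exact hc ⟨z, hz, hn⟩
  have htr : Transcendental Ω (α (x + c • y)) := by
    have h6 := transcendental_of_pair h2 (algebraMap k Ω c)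
    rwa [algebraMap_smul, ← map_smul, ← map_add] at h6
  have hfib := finite_bad_fibre (fun _ => rfl) (α (x + c • y)) htr hc'
  obtain ⟨u, hu⟩ := (hfib.preimage (f := algebraMap k Ω) hinj.injOn).exists_notMem
  have hu' : ∃ q : PrimeSpectrum B, ∀ r : PrimeSpectrum B,
      α (x + c • y) - algebraMap Ω B (algebraMap k Ω u) ∈ r.asIdeal ↔ q.asIdeal ≤ r.asIdeal := by
    by_contra hn
    exact hu hn
  refine ⟨x + c • y - algebraMap k A u, ?_, ?_⟩
  · intro h0
    have h7 : x + c • y = algebraMap k A u := sub_eq_zero.mp h0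
    have h8 := transcendental_of_pair hxy c
    rw [h7] at h8
    exact h8 (isAlgebraic_algebraMap u)
  · obtain ⟨q, hq⟩ := hu'
    refine ⟨q, fun r => ?_⟩
    rw [← hq r, map_sub, AlgHom.commutes, ← IsScalarTower.algebraMap_apply k Ω B]

/-- The set of good primes. -/
def Good (α : A →ₐ[k] B) (p : Ideal A) : Prop :=
  p.IsPrime ∧ ∃ q : PrimeSpectrum B, ∀ r : PrimeSpectrum B,
    p ≤ r.asIdeal.comap α ↔ q.asIdeal ≤ r.asIdeal

omit [IsAlgClosed Ω] in
theorem injective_quot [IsDomain B] (α : A →ₐ[k] B) (hα : Function.Injective (extHom Ω α))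
    (hfin : (extHom Ω α).toRingHom.Finite) (p : Ideal A) [p.IsPrime] (q : PrimeSpectrum B)
    (hq : ∀ r : PrimeSpectrum B, p ≤ r.asIdeal.comap α ↔ q.asIdeal ≤ r.asIdeal)
    (β : A ⧸ p →ₐ[k] B ⧸ q.asIdeal) (hβ : ∀ a, β (Ideal.Quotient.mk p a) =
      Ideal.Quotient.mk q.asIdeal (α a)) :
    Function.Injective (extHom Ω β) := by
  let π : Ω ⊗[k] A →ₐ[Ω] Ω ⊗[k] (A ⧸ p) :=
    Algebra.TensorProduct.map (AlgHom.id Ω Ω) (Ideal.Quotient.mkₐ k p)
  have hπ : Function.Surjective π :=
    Algebra.TensorProduct.map_surjective _ _ Function.surjective_id (Ideal.Quotient.mkₐ_surjective k p)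
  have hdom : IsDomain (Ω ⊗[k] (A ⧸ p)) := Groth.Agent.Fdesc.TensorDomain.isDomain_tensorProduct
  have hcomp : ∀ s, extHom Ω β (π s) = Ideal.Quotient.mk q.asIdeal (extHom Ω α s) := by
    intro s
    have h : (extHom Ω β).comp π = (Ideal.Quotient.mkₐ Ω q.asIdeal).comp (extHom Ω α) := by
      apply Algebra.TensorProduct.ext
      · ext
      · ext a
        simp [π, hβ]
    exact DFunLike.congr_fun h s
  have hker : (RingHom.ker π.toRingHom).IsPrime := RingHom.ker_isPrime _
  let _ : Algebra (Ω ⊗[k] A) B := (extHom Ω α).toRingHom.toAlgebra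
  have h1 : Module.Finite (Ω ⊗[k] A) B := hfin
  have h2 : Algebra.IsIntegral (Ω ⊗[k] A) B := inferInstance
  obtain ⟨r, hr, hrc⟩ := Ideal.exists_ideal_over_prime_of_isIntegral_of_isDomain
    (R := Ω ⊗[k] A) (S := B) (RingHom.ker π.toRingHom) (by
      have h3 : RingHom.ker (algebraMap (Ω ⊗[k] A) B) = ⊥ :=
        (RingHom.injective_iff_ker_eq_bot _).mp hα
      rw [h3]
      exact bot_le)
  have hpr : p ≤ r.comap α := by
    intro a ha
    have h4 : (1 : Ω) ⊗ₜ[k] a ∈ RingHom.ker π.toRingHom := by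
      rw [RingHom.mem_ker]
      change π (1 ⊗ₜ a) = 0
      simp only [π, Algebra.TensorProduct.map_tmul, Ideal.Quotient.mkₐ_eq_mk,
        Ideal.Quotient.eq_zero_iff_mem.mpr ha, TensorProduct.tmul_zero]
    rw [← hrc] at h4
    have h5 : extHom Ω α (1 ⊗ₜ a) ∈ r := h4
    rwa [extHom_tmul, map_one, one_mul] at h5
  have hqr : q.asIdeal ≤ r := (hq ⟨r, hr⟩).mp hpr
  rw [injective_iff_map_eq_zero]
  intro t ht
  obtain ⟨s, rfl⟩ := hπ t
  rw [hcomp, Ideal.Quotient.eq_zero_iff_mem] at ht
  have h6 : s ∈ RingHom.ker π.toRingHom := by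
    rw [← hrc]
    exact hqr ht
  exact h6

/-- **Bertini for finite covers.** -/
theorem exists_prime [IsDomain A] [IsDomain B] [Algebra.FiniteType k A] (α : A →ₐ[k] B)
    (hα : Function.Injective (extHom Ω α)) (hfin : (extHom Ω α).toRingHom.Finite) :
    ∃ p : Ideal A, Good α p ∧ ∀ x y : A ⧸ p, ¬ AlgebraicIndependent k ![x, y] := by
  have hN : IsNoetherianRing A := Algebra.FiniteType.isNoetherianRing k A
  have hbot : Good α ⊥ := ⟨Ideal.isPrime_bot, ⟨⊥, Ideal.isPrime_bot⟩, fun r =>
    ⟨fun _ => bot_le, fun _ => bot_le⟩⟩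
  obtain ⟨p, hp, hmax⟩ := set_has_maximal_iff_noetherian.mpr hN {p | Good α p} ⟨⊥, hbot⟩
  refine ⟨p, hp, fun x y hxy => ?_⟩
  obtain ⟨hpp, q, hq⟩ := hp
  have hpq : p ≤ q.asIdeal.comap α := (hq q).mpr le_rfl
  let β : A ⧸ p →ₐ[k] B ⧸ q.asIdeal := Ideal.quotientMapₐ q.asIdeal α hpq
  have hβ : ∀ a, β (Ideal.Quotient.mk p a) = Ideal.Quotient.mk q.asIdeal (α a) := fun _ => rfl
  have hβi := injective_quot (Ω := Ω) α hα hfin p q hq β hβ
  have hqp := q.isPrime
  have hβf : (extHom Ω β).toRingHom.Finite := by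
    let π : Ω ⊗[k] A →ₐ[Ω] Ω ⊗[k] (A ⧸ p) :=
      Algebra.TensorProduct.map (AlgHom.id Ω Ω) (Ideal.Quotient.mkₐ k p)
    have h : (extHom Ω β).toRingHom.comp π.toRingHom =
        (Ideal.Quotient.mk q.asIdeal).comp (extHom Ω α).toRingHom := by
      have h' : (extHom Ω β).comp π = (Ideal.Quotient.mkₐ Ω q.asIdeal).comp (extHom Ω α) := by
        apply Algebra.TensorProduct.ext
        · ext
        · ext a
          simp [π, hβ]
      exact congrArg AlgHom.toRingHom h'
    have h1 : ((extHom Ω β).toRingHom.comp π.toRingHom).Finite := by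
      rw [h]
      exact (RingHom.Finite.of_surjective _ Ideal.Quotient.mk_surjective).comp hfin
    exact RingHom.Finite.of_comp_finite h1
  obtain ⟨g, hg0, q₁, hq₁⟩ := exists_step (Ω := Ω) β hβi hβf x y hxy
  obtain ⟨g, rfl⟩ := Ideal.Quotient.mk_surjective g
  let q' : PrimeSpectrum B := PrimeSpectrum.comap (Ideal.Quotient.mk q.asIdeal) q₁
  have hq' : q.asIdeal ≤ q'.asIdeal := by
    intro b hb
    change Ideal.Quotient.mk q.asIdeal b ∈ q₁.asIdeal
    rw [Ideal.Quotient.eq_zero_iff_mem.mpr hb]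
    exact Submodule.zero_mem _
  have hgq : α g ∈ q'.asIdeal := by
    change Ideal.Quotient.mk q.asIdeal (α g) ∈ q₁.asIdeal
    rw [← hβ]
    exact (hq₁ q₁).mpr le_rfl
  have hgood : Good α (q'.asIdeal.comap α) := by
    refine ⟨Ideal.IsPrime.comap α (hK := q'.isPrime), q', fun r => ⟨fun hr => ?_, fun hr =>
      Ideal.comap_mono hr⟩⟩
    have hqr : q.asIdeal ≤ r.asIdeal := (hq r).mp ((hpq.trans (Ideal.comap_mono hq')).trans hr)
    have hgr : α g ∈ r.asIdeal := hr hgq
    have hrp := r.isPrime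
    let r₁ : PrimeSpectrum (B ⧸ q.asIdeal) := ⟨r.asIdeal.map (Ideal.Quotient.mk q.asIdeal),
      Ideal.map_isPrime_of_surjective Ideal.Quotient.mk_surjective (by rwa [Ideal.mk_ker])⟩
    have hr₁ : ∀ b, Ideal.Quotient.mk q.asIdeal b ∈ r₁.asIdeal ↔ b ∈ r.asIdeal := by
      intro b
      have h : r₁.asIdeal.comap (Ideal.Quotient.mk q.asIdeal) = r.asIdeal := by
        change (r.asIdeal.map (Ideal.Quotient.mk q.asIdeal)).comap _ = _
        rw [Ideal.comap_map_of_surjective _ Ideal.Quotient.mk_surjective,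
          ← RingHom.ker_eq_comap_bot, Ideal.mk_ker, sup_eq_left.mpr hqr]
      rw [← h, Ideal.mem_comap]
    have h2 : q₁.asIdeal ≤ r₁.asIdeal := (hq₁ r₁).mp (by
      rw [hβ, hr₁]
      exact hgr)
    intro b hb
    rw [← hr₁]
    exact h2 hb
  refine hmax _ hgood (lt_of_le_of_ne (hpq.trans (Ideal.comap_mono hq')) fun h => hg0 ?_)
  rw [Ideal.Quotient.eq_zero_iff_mem, h]
  exact hgq

/-- Variant of `exists_prime`. -/
theorem exists_prime_comap [IsDomain A] [IsDomain B] [Algebra.FiniteType k A] (α : A →ₐ[k] B)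
    (hα : Function.Injective (extHom Ω α)) (hfin : (extHom Ω α).toRingHom.Finite) :
    ∃ q : PrimeSpectrum B, (∀ r : PrimeSpectrum B,
      q.asIdeal.comap α ≤ r.asIdeal.comap α ↔ q.asIdeal ≤ r.asIdeal) ∧
      ∀ x y : A ⧸ q.asIdeal.comap α, ¬ AlgebraicIndependent k ![x, y] := by
  obtain ⟨p, ⟨hp, q, hq⟩, h⟩ := exists_prime α hα hfin
  have hpq : p ≤ q.asIdeal.comap α := (hq q).mpr le_rfl
  refine ⟨q, fun r => ⟨fun hr => (hq r).mp (hpq.trans hr), fun hr => Ideal.comap_mono hr⟩, ?_⟩
  intro x y hxy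
  let f : A ⧸ p →ₐ[k] A ⧸ q.asIdeal.comap α := Ideal.Quotient.factorₐ k hpq
  have hf : Function.Surjective f := Ideal.Quotient.factor_surjective hpq
  obtain ⟨x, rfl⟩ := hf x
  obtain ⟨y, rfl⟩ := hf y
  refine h x y (AlgebraicIndependent.of_comp f ?_)
  convert hxy using 1
  ext i
  fin_cases i <;> rfl

end

end K157.BertiniRing
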