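import Groth.Agent.Pi1.K157.Lift
import Groth.Agent.Pi1.H385.T2aFinal
import Groth.Agent.Pi1.H382.T2b
import Groth.Agent.Pi1.H538.PPIff
import Groth.Agent.Pi1.H273.ChartField
import Groth.Agent.Pi1.H415.SHSplit
import Groth.Agent.S2501
-- import Groth.Agent.S0240

/-!
# Specialization of principal covers of open curves
-/

set_option autoImplicit false
set_option linter.dupNamespace false

universe u v

open CategoryTheory CategoryTheory.Limits AlgebraicGeometry IsLocalRing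

namespace K157.CurveA

open K157.Lift Groth.Agent.Pi1.H382.PullMap Groth.Agent.Pi1.H385.Stmts
open Groth.Agent.Pi1.H538.PPrime Groth.Agent.Pi1.H382.PPrimeTwo

theorem t2a (hens : Groth.Agent.Pi1.H385.T2aGeom.HensStmt.{u}) : T2aStmt.{u} :=
  Groth.Agent.Pi1.H385.T2aFinal.t2a hens

/-- `Spec φ`. -/
noncomputable abbrev sp {R S : Type u} [CommRing R] [CommRing S] (φ : R →+* S) :
    Spec (CommRingCat.of S) ⟶ Spec (CommRingCat.of R) := Spec.map (CommRingCat.ofHom φ)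

theorem sp_comp {R S T : Type u} [CommRing R] [CommRing S] [CommRing T] (φ : R →+* S)
    (ψ : S →+* T) : sp ψ ≫ sp φ = sp (ψ.comp φ) := by
  rw [sp, sp, sp, ← Spec.map_comp]
  rfl

/-- `C_T ⟶ C_S`. -/
noncomputable abbrev bc {R S T : Type u} [CommRing R] [CommRing S] [CommRing T] {C : Scheme.{u}}
    (c : C ⟶ Spec (CommRingCat.of R)) (φ : R →+* S) (ψ : S →+* T) :
    pullback c (sp (ψ.comp φ)) ⟶ pullback c (sp φ) :=
  pm c (sp φ) (sp (ψ.comp φ)) (sp ψ) (sp_comp φ ψ)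

theorem isPullback_bc {R S T : Type u} [CommRing R] [CommRing S] [CommRing T] {C : Scheme.{u}}
    (c : C ⟶ Spec (CommRingCat.of R)) (φ : R →+* S) (ψ : S →+* T) :
    IsPullback (bc c φ ψ) (pullback.snd _ _) (pullback.snd _ _) (sp ψ) :=
  isPullback_pm (sp_comp φ ψ)

/-- Principal covers which become trivial on the closed fibre are trivial. -/
def SpecProp {k : Type u} [Field k] {C : Scheme.{u}} (c : C ⟶ Spec (CommRingCat.of k)) : Prop :=
  ∀ (A : Type u) [CommRing A] [IsDomain A] [IsDiscreteValuationRing A] [HenselianLocalRing A]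
    [IsAlgClosed (ResidueField A)] (φ : k →+* A) {G : Type} [Group G] [Finite G],
    IsUnit ((Nat.card G : ℕ) : k) → ∀ (P : FEt.Cat (pullback c (sp φ))) (ρ : G →* Aut P),
    SGA1t.IsPrincipal G P ρ → HasLift P (bc c φ (residue A)) → HasLift P (𝟙 _)

/-- The case of a point. -/
theorem specProp_point {k : Type u} [Field k] {C : Scheme.{u}} (c : C ⟶ Spec (CommRingCat.of k))
    [IsIso c] : SpecProp c := by
  intro A _ _ _ _ _ φ G _ _ hG P ρ hP h
  have h1 : IsIso (pullback.snd c (sp φ)) := inferInstance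
  let s := pullback.snd c (sp φ)
  have h2 : IsFinite P.hom := P.prop.1
  have h3 : Etale P.hom := P.prop.2
  have hp : IsFinite (P.hom ≫ s) := inferInstance
  have hp' : Etale (P.hom ≫ s) := inferInstance
  obtain ⟨y⟩ : Nonempty P.left := by
    obtain ⟨y, -⟩ := hP.1 (inv s (closedPoint A))
    exact ⟨y⟩
  obtain ⟨t, ht, -⟩ := Groth.Agent.Pi1.H415.SHSplit.exists_section_through (P.hom ≫ s) y
  refine ⟨s ≫ t, ?_⟩
  rw [← cancel_mono s, Category.assoc, Category.assoc, ht, Category.comp_id, Category.id_comp]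

/-- The case of an open curve. -/
theorem pprime_curve (hens : Groth.Agent.Pi1.H385.T2aGeom.HensStmt.{u}) {k : Type u} [Field k]
    [IsAlgClosed k] {Y : Scheme.{u}} (p : Y ⟶ Spec (CommRingCat.of k)) [Smooth p] [IsProper p]
    [ConnectedSpace Y] (U : Y.Opens) (hU : Chart p U)
    (A : Type u) [CommRing A] [IsDomain A] [IsDiscreteValuationRing A] [HenselianLocalRing A]
    [IsAlgClosed (ResidueField A)] (φ : k →+* A) :
    ConnectedSpace ↥(pullback (U.ι ≫ p) (sp φ)) ∧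
    ConnectedSpace ↥(pullback (U.ι ≫ p) (sp ((residue A).comp φ))) ∧
      PPrimeEquiv (ResidueField A) (bc (U.ι ≫ p) φ (residue A)) := by
  let m := pullback.fst p (sp φ)
  let pA := pullback.snd p (sp φ)
  have sqA : IsPullback m pA p (sp φ) := IsPullback.of_hasPullback _ _
  let j := pullback.fst pA (sp (residue A))
  let p₀ := pullback.snd pA (sp (residue A))
  have sq₀ : IsPullback j p₀ pA (sp (residue A)) := IsPullback.of_hasPullback _ _
  have hgc : GeometricallyConnected p := Groth.Agent.S2501.result p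
  have hY₀ : ConnectedSpace ↥(pullback pA (sp (residue A))) := by
    have : GeometricallyConnected pA := MorphismProperty.of_isPullback sqA hgc
    exact GeometricallyConnected.geometrically_connectedSpace _ _ _ sq₀
  have hUA : Chart pA (m ⁻¹ᵁ U) := Groth.Agent.Pi1.H382.ChartBC.chart_of_isPullback hU sqA
  have h1 := t2a hens A pA (m ⁻¹ᵁ U) hUA j p₀ sq₀ hY₀
  have c1 : ConnectedSpace (m ⁻¹ᵁ U : (pullback p (sp φ)).Opens) :=
    Groth.Agent.Pi1.H382.T2b.connectedSpace_U pA _ hUA sq₀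
  have c2 : ConnectedSpace (j ⁻¹ᵁ (m ⁻¹ᵁ U) : (pullback pA (sp (residue A))).Opens) :=
    Groth.Agent.Pi1.H382.T2b.connectedSpace_U₀ pA _ hUA sq₀
  have sqU : IsPullback (m ∣_ U) ((m ⁻¹ᵁ U).ι ≫ pA) (U.ι ≫ p) (sp φ) :=
    (isPullback_morphismRestrict m U).paste_vert sqA
  have sqU₀ : IsPullback (j ∣_ (m ⁻¹ᵁ U)) ((j ⁻¹ᵁ (m ⁻¹ᵁ U)).ι ≫ p₀) ((m ⁻¹ᵁ U).ι ≫ pA)
      (sp (residue A)) := (isPullback_morphismRestrict j (m ⁻¹ᵁ U)).paste_vert sq₀
  let e := sqU.isoPullback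
  have he : e.hom ≫ pullback.snd _ _ = (m ⁻¹ᵁ U).ι ≫ pA := sqU.isoPullback_hom_snd
  have he1 : e.hom ≫ pullback.fst _ _ = m ∣_ U := sqU.isoPullback_hom_fst
  have sqC := isPullback_bc (U.ι ≫ p) φ (residue A)
  -- the square with the other model
  have sqD : IsPullback ((j ∣_ (m ⁻¹ᵁ U)) ≫ e.hom) ((j ⁻¹ᵁ (m ⁻¹ᵁ U)).ι ≫ p₀)
      (pullback.snd (U.ι ≫ p) (sp φ)) (sp (residue A)) := by
    have h2 : IsPullback e.hom ((m ⁻¹ᵁ U).ι ≫ pA) (pullback.snd (U.ι ≫ p) (sp φ)) (𝟙 _) :=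
      IsPullback.of_horiz_isIso ⟨by rw [he, Category.comp_id]⟩
    have h3 := sqU₀.paste_horiz h2
    rwa [Category.comp_id] at h3
  let i := sqD.isoIsPullback _ _ sqC
  have hi : i.hom ≫ bc (U.ι ≫ p) φ (residue A) = (j ∣_ (m ⁻¹ᵁ U)) ≫ e.hom :=
    sqD.isoIsPullback_hom_fst _ _ sqC
  have c3 : ConnectedSpace ↥(pullback (U.ι ≫ p) (sp φ)) :=
    e.hom.homeomorph.connectedSpace_iff.mp c1
  have c4 : ConnectedSpace ↥(pullback (U.ι ≫ p) (sp ((residue A).comp φ))) :=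
    i.hom.homeomorph.connectedSpace_iff.mp c2
  refine ⟨c3, c4, ?_⟩
  have h2 : PPrimeEquiv (ResidueField A) ((j ∣_ (m ⁻¹ᵁ U)) ≫ e.hom) :=
    Groth.Agent.Pi1.H538.PPIff.PPrimeEquiv.comp h1
      (Groth.Agent.Pi1.H538.PPIff.PPrimeEquiv.of_isIso e.hom)
  rw [← hi] at h2
  exact of_isIso_comp i.hom h2

theorem specProp_curve (hens : Groth.Agent.Pi1.H385.T2aGeom.HensStmt.{u}) {k : Type u} [Field k]
    [IsAlgClosed k] {Y : Scheme.{u}} (p : Y ⟶ Spec (CommRingCat.of k)) [Smooth p] [IsProper p]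
    [ConnectedSpace Y] (U : Y.Opens) (hU : Chart p U) : SpecProp (U.ι ≫ p) := by
  intro A _ _ _ _ _ φ G _ _ hG P ρ hP h
  obtain ⟨c1, c2, h1⟩ := pprime_curve hens p U hU A φ
  refine hasLift_of_pprime h1 (G := G) ?_ hP h
  have h2 := hG.map ((residue A).comp φ)
  rwa [map_natCast] at h2

theorem exists_chart {k : Type u} [Field k] [IsAlgClosed k] {Y : Scheme.{u}}
    (p : Y ⟶ Spec (CommRingCat.of k)) [Smooth p] [IsProper p] [ConnectedSpace Y]
    (hdim : topologicalKrullDim Y = 1) (U : Y.Opens) (hfin : ((U : Set Y)ᶜ).Finite)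
    (hcl : ∀ a ∈ (U : Set Y)ᶜ, IsClosed ({a} : Set Y)) : Chart p U := by
  obtain ⟨W, f, hW, hSW, hf, hU⟩ := Groth.Agent.Pi1.H273.ChartField.exists_chart_field p hdim
    (U : Set Y)ᶜ hfin hcl
  refine ⟨W, f, hW, hf, fun x => ?_⟩
  constructor
  · intro hx
    exact ⟨⟨x, hSW hx⟩, rfl, (hU _).mpr hx⟩
  · rintro ⟨w, rfl, hw⟩
    exact (hU w).mp hw

end K157.CurveA
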