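import Groth.Agent.Pi1.K157.Spread
import Groth.Agent.Pi1.H414.Chi
import Groth.Agent.Pi1.H414.Gal
import Groth.Agent.Sga5.H833.GalConn
import Groth.Agent.Sga3B.CellField

/-!
# Descent of torsors of invertible order along extensions of algebraically closed fields
-/

set_option autoImplicit false
set_option linter.dupNamespace false

universe u v

open CategoryTheory CategoryTheory.Limits AlgebraicGeometry IsLocalRing

namespace K157.Desc

open K157.CurveA K157.Lift K157.SmoothT1 K157.NormalExt K157.Pb K157.Glue K157.DescLift K157.Star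
  K157.TraitGeom K157.Spread

attribute [local instance] Groth.Agent.Sga5.H833.GalConn.galoisCategory in
/-- Connected principal covers dominating a given cover. -/
theorem exists_princ {X : Scheme.{u}} [ConnectedSpace X] (B : FEt.Cat X) (b : B.left) :
    ∃ (A : FEt.Cat X) (_ : A ⟶ B), ConnectedSpace A.left ∧ Finite (Aut A) ∧
      SGA1t.IsPrincipal (Aut A) A (MonoidHom.id _) := by
  obtain ⟨A, a, hA⟩ := Groth.Agent.Sga5.H833.GalConn.exists_galois B b
  have hc : ConnectedSpace A.left := Groth.Agent.Sga5.H833.GalConn.connectedSpace_left A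
  refine ⟨A, a, hc, Groth.Agent.Pi1.H414.Gal.finite_aut A, ?_⟩
  refine Groth.Agent.Pi1.H383.GalPrinc.isPrincipal_of_isGaloisCover A ⟨hc, ?_⟩
  intro Ω _ _ ξ s t
  obtain ⟨σ, hσ⟩ := MulAction.exists_smul_eq (M := Aut A)
    (α := (Groth.Agent.Pi1B.FEtFibre.fiberF ξ).obj A) s t
  exact ⟨σ, hσ⟩

/-- Finite étale cover of a base change, as an object over the base. -/
theorem nonempty_hom {k : Type u} [Field k] {X T : Scheme.{u}} (p : X ⟶ Spec (CommRingCat.of k))
    (t : T ⟶ Spec (CommRingCat.of k)) (X₂ : FEt.Cat X) (Z : FEt.Cat (pullback p t))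
    (h : HasLift Z (pb X₂.hom (𝟙 T) rfl (Category.id_comp t))) :
    Nonempty ((FEt.restrict (pullback.fst p t)).obj X₂ ⟶ Z) := by
  obtain ⟨s, hs⟩ := h
  have sq := isPullback_pb_left (p := p) (t := t) X₂.hom rfl (Category.id_comp t)
  let e : pullback X₂.hom (pullback.fst p t) ⟶ pullback (X₂.hom ≫ p) t :=
    sq.flip.lift (pullback.fst _ _) (pullback.snd _ _) pullback.condition
  have he : e ≫ pb X₂.hom (𝟙 T) rfl (Category.id_comp t) = pullback.snd _ _ :=
    sq.flip.lift_snd _ _ _
  refine ⟨MorphismProperty.Over.homMk (A := (FEt.restrict (pullback.fst p t)).obj X₂) (B := Z)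
    (e ≫ s) ?_ trivial⟩
  rw [Category.assoc, hs]
  exact he

/-- The core of the descent: transport of a lift through a trait. -/
theorem hasLift_transport (hens : Groth.Agent.Pi1.H385.T2aGeom.HensStmt.{u})
    {k K : Type u} [Field k] [IsAlgClosed k] [Field K] [IsAlgClosed K] (i : k →+* K)
    {X₂ : Scheme.{u}} (p₂ : X₂ ⟶ Spec (CommRingCat.of k)) [LocallyOfFiniteType p₂]
    [QuasiCompact p₂] {G : Type} [Group G] [Finite G] (hG : IsUnit ((Nat.card G : ℕ) : k))
    {A : Type u} [CommRing A] [IsDomain A] (φ : k →+* A) (hφ : φ.FiniteType) (ψ : A →+* K)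
    (hψ : Function.Injective ψ) (h : sp ψ ≫ sp φ = sp i) (φ' : A →+* k)
    (hφ' : φ'.comp φ = RingHom.id k) (W : FEt.Cat (pullback p₂ (sp φ))) (ρ : G →* Aut W)
    (hW : SGA1t.IsPrincipal G W ρ) (s : X₂ ⟶ pullback p₂ (sp φ))
    (hs1 : s ≫ pullback.fst _ _ = 𝟙 X₂) (hs2 : s ≫ pullback.snd _ _ = p₂ ≫ sp φ')
    (hlift : HasLift W s) : HasLift W (pb (𝟙 X₂) (sp ψ) (Category.id_comp p₂) h) := by
  have hA : IsNoetherianRing A := by
    let _ : Algebra k A := φ.toAlgebra
    have : Algebra.FiniteType k A := hφ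
    exact Algebra.FiniteType.isNoetherianRing k A
  by_cases hker : RingHom.ker φ' = ⊥
  · have hinj : Function.Injective φ' := (RingHom.injective_iff_ker_eq_bot φ').mpr hker
    have h1 : φ.comp φ' = RingHom.id A := by
      ext a
      apply hinj
      exact congrArg (fun f => f (φ' a)) hφ'
    refine hlift.comp' (pullback.fst p₂ (sp i)) ?_
    apply pullback.hom_ext
    · rw [Category.assoc, hs1, pb_fst]
    · have h2 : sp (RingHom.id A) = 𝟙 _ := Spec.map_id _
      have h3 : sp i ≫ sp φ' = sp ψ := by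
        rw [← h, Category.assoc, sp_comp φ' φ, h1, h2, Category.comp_id]
      rw [Category.assoc, hs2, pb_snd, pullback.condition_assoc, h3]
  · let η : Spec (CommRingCat.of A) := (⊥ : PrimeSpectrum A)
    let v : Spec (CommRingCat.of A) := sp φ' (⊥ : PrimeSpectrum k)
    have hv : v.asIdeal = RingHom.ker φ' := by
      rw [RingHom.ker_eq_comap_bot]
      rfl
    have hspec : η ⤳ v := by
      exact (PrimeSpectrum.le_iff_specializes η v).mp bot_le
    have hne : η ≠ v := by
      intro h1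
      apply hker
      rw [← hv, ← h1]
      rfl
    obtain ⟨B, g, hg1, hg2⟩ := exists_trait hspec hne
    obtain ⟨θ', hθ'⟩ := Spec.map_surjective g
    let θ : A →+* B.R := θ'.hom
    have hθ : sp θ = g := hθ'
    have hθinj : Function.Injective θ := by
      rw [RingHom.injective_iff_ker_eq_bot, RingHom.ker_eq_comap_bot]
      have h1 : (sp θ (⊥ : PrimeSpectrum B.R)).asIdeal = η.asIdeal := by rw [hθ, hg1]
      exact h1
    have hθm : Ideal.comap θ (maximalIdeal B.R) = RingHom.ker φ' := by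
      rw [← hv, ← hg2, ← hθ]
      rfl
    have hres : (residue B.R).comp θ = ((residue B.R).comp (θ.comp φ)).comp φ' := by
      ext a
      change residue B.R (θ a) = residue B.R (θ (φ (φ' a)))
      rw [← sub_eq_zero, ← map_sub, residue_eq_zero_iff, ← map_sub]
      change a - φ (φ' a) ∈ Ideal.comap θ (maximalIdeal B.R)
      rw [hθm, RingHom.mem_ker, map_sub, sub_eq_zero]
      exact (congrArg (fun f => f (φ' a)) hφ').symm
    let WB : FEt.Cat (pullback p₂ (sp (θ.comp φ))) := (FEt.restrict (bc p₂ φ θ)).obj W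
    have h1 : HasLift WB (bc p₂ (θ.comp φ) (residue B.R)) := by
      rw [hasLift_restrict_iff]
      refine hlift.comp' (pullback.fst p₂ _) ?_
      apply pullback.hom_ext
      · rw [Category.assoc, hs1, Category.comp_id]
        simp [bc]
      · rw [Category.assoc, hs2, pullback.condition_assoc, sp_comp, ← hres]
        simp only [bc, Category.assoc, Groth.Agent.Pi1.H382.PullMap.pm_snd,
          Groth.Agent.Pi1.H382.PullMap.pm_snd_assoc, sp_comp]
    obtain ⟨B', χ, hχ, _, hB'⟩ := extLift hens p₂ B (θ.comp φ) hG WB _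
      (Groth.Agent.Pi1.H408.PrincRestrict.isPrincipal_restrict (bc p₂ φ θ) W ρ hW)
      (ResidueField B.R) (residue B.R) h1
    rw [hasLift_restrict_iff] at hB'
    have hbot : ∀ {R S : Type u} [CommRing R] [IsDomain R] [CommRing S] [IsDomain S]
        (f : R →+* S), Function.Injective f → sp f (⊥ : PrimeSpectrum S) = (⊥ : PrimeSpectrum R) := by
      intro R S _ _ _ _ f hf
      apply PrimeSpectrum.ext
      change Ideal.comap f ⊥ = ⊥
      rw [← RingHom.ker_eq_comap_bot]
      exact (RingHom.injective_iff_ker_eq_bot f).mp hf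
    obtain ⟨Ω, _, _, g₁, g₂, hg, -, -⟩ := exists_common (sp (χ.comp θ)) (sp ψ)
      (⊥ : PrimeSpectrum B'.R) (⊥ : PrimeSpectrum K)
      (by rw [hbot (χ.comp θ) (hχ.comp hθinj), hbot ψ hψ])
    obtain ⟨σ', hσ'⟩ := Spec.map_surjective g₂
    let σ : K →+* Ω := σ'.hom
    have hσ : sp σ = g₂ := hσ'
    have hg' : g₁ ≫ sp (χ.comp (θ.comp φ)) = sp (σ.comp i) := by
      rw [← sp_comp i σ, hσ, ← h, ← RingHom.comp_assoc, ← sp_comp φ (χ.comp θ), reassoc_of% hg]
    have hfull : (FEt.restrict (bc p₂ i σ)).Full :=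
      (Groth.Agent.Pi1.H390.T1UFF.fullyFaithful σ (isPullback_bc p₂ i σ)).1
    have h2 : HasLift ((FEt.restrict (pb (𝟙 X₂) (sp ψ) (Category.id_comp p₂) h)).obj W)
        (bc p₂ i σ) := by
      rw [hasLift_restrict_iff]
      refine hB'.comp' (pb (𝟙 X₂) g₁ (Category.id_comp p₂) hg') ?_
      rw [bc_eq, bc_eq, bc_eq, pb_comp _ _ _ _ (Category.id_comp (𝟙 X₂)) rfl,
        pb_comp _ _ _ _ (Category.id_comp (𝟙 X₂)) rfl, pb_comp _ _ _ _ (Category.id_comp (𝟙 X₂)) rfl]
      congr 1
      rw [sp_comp, hg, hσ]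
    have h3 := hasLift_of_full _ _ h2
    rwa [hasLift_restrict_iff, Category.id_comp] at h3

/-- Descent of torsors, connected case. -/
theorem exists_of_connected (hens : Groth.Agent.Pi1.H385.T2aGeom.HensStmt.{u})
    {k K : Type u} [Field k] [IsAlgClosed k] [Field K] [IsAlgClosed K] (i : k →+* K)
    {X : Scheme.{u}} (p : X ⟶ Spec (CommRingCat.of k)) [LocallyOfFiniteType p] [QuasiCompact p]
    [ConnectedSpace X] (G : Type) [Group G] [Finite G] (hG : IsUnit ((Nat.card G : ℕ) : k))
    (Z : FEt.Cat (pullback p (sp i))) (ρ' : G →* Aut Z) (hZ : SGA1t.IsPrincipal G Z ρ') :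
    ∃ P : FEt.Cat X, Nonempty ((FEt.restrict (pullback.fst p (sp i))).obj P ≅ Z) := by
  obtain ⟨A, _, _, φ, hφ, ψ, hψ, h, W, ρ, hW, ⟨e⟩⟩ := exists_model i p G Z ρ' hZ
  -- a rational point of `Spec A`
  obtain ⟨φ', hφ'⟩ : ∃ φ' : A →+* k, φ'.comp φ = RingHom.id k := by
    let _ : Algebra k A := φ.toAlgebra
    have : Algebra.FiniteType k A := hφ
    obtain ⟨f⟩ := Groth.Agent.Sga3B.Cell.exists_point k A
    exact ⟨f.toRingHom, f.comp_algebraMap⟩
  have hs : 𝟙 X ≫ p = (p ≫ sp φ') ≫ sp φ := by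
    rw [Category.id_comp, Category.assoc, sp_comp, hφ']
    have h1 : sp (RingHom.id k) = 𝟙 _ := Spec.map_id _
    rw [h1, Category.comp_id]
  let sv : X ⟶ pullback p (sp φ) := pullback.lift (𝟙 X) (p ≫ sp φ') hs
  -- the Galois cover trivializing the fibre at the rational point
  let Pv : FEt.Cat X := (FEt.restrict sv).obj W
  have hPv : SGA1t.IsPrincipal G Pv _ :=
    Groth.Agent.Pi1.H408.PrincRestrict.isPrincipal_restrict sv W ρ hW
  obtain ⟨x₀⟩ : Nonempty X := inferInstance
  obtain ⟨b, -⟩ := hPv.1 x₀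
  obtain ⟨X₂, a, hX₂, hfin, hprin⟩ := exists_princ Pv b
  have hX₂' : ConnectedSpace ↥((𝟭 Scheme).obj X₂.left) := hX₂
  have hX₂1 : IsFinite X₂.hom := X₂.prop.1
  have hX₂2 : Etale X₂.hom := X₂.prop.2
  have hlift : HasLift W (X₂.hom ≫ sv) := by
    refine ⟨a.left ≫ pullback.fst W.hom sv, ?_⟩
    have h1 : a.left ≫ pullback.snd W.hom sv = X₂.hom := MorphismProperty.Over.w a
    refine (Category.assoc _ _ _).trans ((congrArg (a.left ≫ ·) pullback.condition).trans ?_)
    exact (Category.assoc _ _ _).symm.trans (congrArg (· ≫ sv) h1)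
  -- it suffices to find a lift over `(X₂)_K`
  have key : HasLift Z (pb X₂.hom (𝟙 _) rfl (Category.id_comp (sp i))) := by
    have h1 : HasLift W (pb X₂.hom (sp ψ) rfl h) := by
      let m : pullback (X₂.hom ≫ p) (sp φ) ⟶ pullback p (sp φ) :=
        pb X₂.hom (𝟙 _) rfl (Category.id_comp (sp φ))
      let s₂ : X₂.left ⟶ pullback (X₂.hom ≫ p) (sp φ) :=
        pullback.lift (𝟙 _) ((X₂.hom ≫ p) ≫ sp φ') (by
          rw [Category.id_comp, Category.assoc, Category.assoc, ← Category.assoc p, ← hs,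
            Category.id_comp])
      have hs₂1 : s₂ ≫ pullback.fst _ _ = 𝟙 _ := pullback.lift_fst _ _ _
      have hs₂2 : s₂ ≫ pullback.snd _ _ = (X₂.hom ≫ p) ≫ sp φ' := pullback.lift_snd _ _ _
      have h2 := hasLift_transport hens i (X₂.hom ≫ p) hG φ hφ ψ hψ h φ' hφ'
        ((FEt.restrict m).obj W) _
        (Groth.Agent.Pi1.H408.PrincRestrict.isPrincipal_restrict m W ρ hW) s₂ hs₂1 hs₂2 (by
          rw [hasLift_restrict_iff]
          refine hlift.comp' (𝟙 _) ?_
          rw [Category.id_comp]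
          apply pullback.hom_ext
          · rw [Category.assoc, Category.assoc, pb_fst, reassoc_of% hs₂1]
            exact (congrArg (X₂.hom ≫ ·) (pullback.lift_fst _ _ _)).trans (Category.comp_id _)
          · rw [Category.assoc, Category.assoc, pb_snd, Category.comp_id, hs₂2]
            exact (congrArg (X₂.hom ≫ ·) (pullback.lift_snd _ _ _)).trans
              (Category.assoc _ _ _).symm)
      rw [hasLift_restrict_iff] at h2
      refine h2.comp' (𝟙 _) ?_
      rw [Category.id_comp, pb_comp _ _ _ _ (Category.id_comp _) (Category.comp_id _)]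
    have h2 : HasLift ((FEt.restrict (pb (𝟙 X) (sp ψ) (Category.id_comp p) h)).obj W)
        (pb X₂.hom (𝟙 _) rfl (Category.id_comp (sp i))) := by
      rw [hasLift_restrict_iff, pb_comp _ _ _ _ (Category.comp_id _) (Category.id_comp _)]
      exact h1
    exact h2.map e.hom
  obtain ⟨s⟩ := nonempty_hom p (sp i) X₂ Z key
  have hconn : ConnectedSpace ((FEt.restrict (pullback.fst p (sp i))).obj X₂).left := by
    have h1 : ConnectedSpace ↥(pullback (X₂.hom ≫ p) (sp i)) := connectedSpace_pullback _ _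
    have sq := isPullback_pb_left (p := p) (t := sp i) X₂.hom rfl (Category.id_comp (sp i))
    exact (sq.flip.isoPullback.hom.homeomorph.surjective.connectedSpace
      (sq.flip.isoPullback.hom.homeomorph.continuous))
  obtain ⟨P, -, -, -, e', -⟩ := Groth.Agent.Pi1.H414.Chi.exists_descent (pullback.fst p (sp i)) X₂
    (MonoidHom.id _) hprin Z ρ' hZ s
  exact ⟨P, ⟨e'⟩⟩

end K157.Desc
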