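import Groth.Agent.Pi1.K157.Pb
import Groth.Agent.Pi1.H391.Descend

/-!
# Descent of lifts along finite surjective morphisms of `k`-schemes
-/

set_option autoImplicit false
set_option linter.dupNamespace false

universe u

open CategoryTheory CategoryTheory.Limits AlgebraicGeometry IsLocalRing

namespace K157.DescLift

open K157.Lift K157.Pb

/-- Descent of a lift along `Z_T ⟶ X_T`, compatible with a lift over `X_{T'}`. -/
theorem hasLift_of_cover {k : Type u} [Field k] [IsAlgClosed k] {X Z : Scheme.{u}}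
    (p : X ⟶ Spec (CommRingCat.of k)) [LocallyOfFiniteType p] (π : Z ⟶ X) [IsFinite π]
    [Surjective π] {T T' : Scheme.{u}}
    {t : T ⟶ Spec (CommRingCat.of k)} {t' : T' ⟶ Spec (CommRingCat.of k)} [ConnectedSpace T]
    (h : T' ⟶ T) (hh : h ≫ t = t') [Nonempty T'] (Q : FEt.Cat (pullback p t))
    (s₁ : pullback (π ≫ p) t ⟶ Q.left)
    (hs₁ : s₁ ≫ Q.hom = pb π (𝟙 T) rfl (Category.id_comp t)) (s' : pullback p t' ⟶ Q.left)
    (hc : pb (𝟙 Z) h (Category.id_comp _) hh ≫ s₁ = pb π (𝟙 T') rfl (Category.id_comp t') ≫ s') :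
    HasLift Q (𝟙 _) := by
  let q : pullback (π ≫ p) t ⟶ pullback p t := pb π (𝟙 T) rfl (Category.id_comp t)
  have sqq := isPullback_pb_left (p := p) (t := t) π rfl (Category.id_comp t)
  have hq1 : IsFinite q := MorphismProperty.of_isPullback sqq.flip inferInstance
  have hq2 : Surjective q := MorphismProperty.of_isPullback sqq.flip inferInstance
  have hQ1 : IsFinite Q.hom := Q.prop.1
  have hQ2 : Etale Q.hom := Q.prop.2
  let a₁ : pullback π π ⟶ Z := pullback.fst π π
  let a₂ : pullback π π ⟶ Z := pullback.snd π π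
  have ha : a₁ ≫ π = a₂ ≫ π := pullback.condition
  let r : pullback π π ⟶ Spec (CommRingCat.of k) := a₁ ≫ π ≫ p
  have hr : a₂ ≫ π ≫ p = r := by rw [← Category.assoc, ← ha, Category.assoc]
  let b₁ : pullback r t ⟶ pullback (π ≫ p) t := pb a₁ (𝟙 T) rfl (Category.id_comp t)
  let b₂ : pullback r t ⟶ pullback (π ≫ p) t := pb a₂ (𝟙 T) hr (Category.id_comp t)
  have hbq : b₁ ≫ q = b₂ ≫ q := by
    simp only [b₁, b₂, q]
    rw [pb_comp _ _ _ _ rfl (Category.id_comp (𝟙 T)), pb_comp _ _ _ _ ha.symm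
      (Category.id_comp (𝟙 T))]
  have sqb : IsPullback b₁ b₂ q q := by
    refine IsPullback.of_bot (h₃₁ := π) (v₂₁ := pullback.fst (π ≫ p) t)
      (v₂₂ := pullback.fst p t) ?_ hbq sqq
    have e1 : b₂ ≫ pullback.fst (π ≫ p) t = pullback.fst r t ≫ a₂ := pb_fst _ _ _ _
    have e2 : q ≫ pullback.fst p t = pullback.fst (π ≫ p) t ≫ π := pb_fst _ _ _ _
    rw [e1, e2]
    exact (isPullback_pb_left (p := π ≫ p) (t := t) a₁ rfl (Category.id_comp t)).paste_vert
      (IsPullback.of_hasPullback π π)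
  have key : b₁ ≫ s₁ = b₂ ≫ s₁ := by
    refine eq_of_fibre r h hh Q (by rw [Category.assoc, Category.assoc, hs₁]; exact hbq) ?_
    have e1 : pb (𝟙 _) h (Category.id_comp r) hh ≫ b₁ =
        pb a₁ (𝟙 T') rfl (Category.id_comp t') ≫ pb (𝟙 Z) h (Category.id_comp _) hh := by
      rw [pb_comp _ _ _ _ (Category.id_comp a₁) (Category.comp_id h),
        pb_comp _ _ _ _ (Category.comp_id a₁) (Category.id_comp h)]
    have e2 : pb (𝟙 _) h (Category.id_comp r) hh ≫ b₂ =
        pb a₂ (𝟙 T') hr (Category.id_comp t') ≫ pb (𝟙 Z) h (Category.id_comp _) hh := by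
      rw [pb_comp _ _ _ _ (Category.id_comp a₂) (Category.comp_id h),
        pb_comp _ _ _ _ (Category.comp_id a₂) (Category.id_comp h)]
    have e3 : pb a₁ (𝟙 T') (rfl : _ = r) (Category.id_comp t') ≫ pb π (𝟙 T') rfl (Category.id_comp t') =
        pb a₂ (𝟙 T') hr (Category.id_comp t') ≫ pb π (𝟙 T') rfl (Category.id_comp t') := by
      rw [pb_comp _ _ _ _ rfl (Category.id_comp (𝟙 T')), pb_comp _ _ _ _ ha.symm
        (Category.id_comp (𝟙 T'))]
    rw [reassoc_of% e1, reassoc_of% e2, hc]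
    exact (reassoc_of% e3) s'
  obtain ⟨a, ha', -⟩ := Groth.Agent.Pi1.H391.Descend.exists_section (z := Q.hom) (f := q) s₁ hs₁ (by
    rw [← cancel_epi sqb.isoPullback.hom, ← Category.assoc, ← Category.assoc,
      sqb.isoPullback_hom_fst, sqb.isoPullback_hom_snd]
    exact key)
  exact ⟨a, ha'⟩

end K157.DescLift
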