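import Groth.Agent.Pi1.K157.Pb
import Groth.Agent.Divis.SurfConn
import Groth.Agent.CohqB.DevGeom
import Groth.Agent.Sga1.SigmaFinite
import Groth.Agent.Models.DVRGeneric
import Mathlib.CategoryTheory.Extensive

/-!
# Normal covers of varieties; gluing over base changes of coproducts
-/

set_option autoImplicit false
set_option linter.dupNamespace false

universe u

open CategoryTheory CategoryTheory.Limits AlgebraicGeometry IsLocalRing

namespace K157.Glue

open K157.Pb

/-- A finite family of normal varieties finite over `X` covering `X`. -/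
theorem exists_normal_family {k : Type u} [Field k] {X : Scheme.{u}}
    (p : X ⟶ Spec (CommRingCat.of k)) [LocallyOfFiniteType p] [QuasiCompact p] :
    ∃ (n : ℕ) (Y : Fin n → Scheme.{u}) (f : ∀ i, Y i ⟶ X), (∀ i, IsFinite (f i)) ∧
      (∀ i, IsIntegral (Y i)) ∧ (∀ i, Pi1.IsNormalScheme (Y i)) ∧
        ∀ x, ∃ i, x ∈ Set.range (f i) := by
  have hLN : IsLocallyNoetherian X := LocallyOfFiniteType.isLocallyNoetherian p
  have hcpt : CompactSpace X := QuasiCompact.compactSpace_of_compactSpace p
  have hN : IsNoetherian X := { }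
  have hfin : Finite (irreducibleComponents X) := TopologicalSpace.NoetherianSpace.finite_irreducibleComponents
  obtain ⟨n, ⟨e'⟩⟩ := Finite.exists_equiv_fin (irreducibleComponents X)
  let e : Fin n ≃ irreducibleComponents X := e'.symm
  choose Z ι hι hZ hr using fun i => Groth.Agent.CohqB.DevGeom.exists_integral (e i).1
    (isClosed_of_mem_irreducibleComponents _ (e i).2) (e i).2.prop
  choose Y ν hν hs hY hn using fun i =>
    haveI := hι i
    haveI := hZ i
    Groth.Agent.Divis.SurfConn.exists_normal_cover k (Z i) (ι i ≫ p)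
  refine ⟨n, Y, fun i => ν i ≫ ι i, fun i => ?_, hY, hn, fun x => ?_⟩
  · have := hι i
    have := hν i
    infer_instance
  · obtain ⟨i, hi⟩ := e.surjective ⟨irreducibleComponent x, irreducibleComponent_mem_irreducibleComponents x⟩
    have hx : x ∈ ((e i).1 : Set X) := by rw [hi]; exact mem_irreducibleComponent
    rw [← hr i] at hx
    obtain ⟨z, rfl⟩ := hx
    obtain ⟨y, rfl⟩ := (hs i).surj z
    exact ⟨i, y, Scheme.Hom.comp_apply _ _ _⟩

section

variable {S T W : Scheme.{u}} {n : ℕ} {Y : Fin n → Scheme.{u}} (z : (∐ Y) ⟶ S) (t : T ⟶ S)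
  (y : ∀ i, Y i ⟶ S) (hy : ∀ i, Sigma.ι Y i ≫ z = y i)

/-- Base change of a coproduct. -/
noncomputable def dec : (∐ fun i => pullback (y i) t) ⟶ pullback z t :=
  Sigma.desc fun i => pb (Sigma.ι Y i) (𝟙 T) (hy i) (Category.id_comp t)

instance : IsIso (dec z t y hy) := by
  have h1 : IsIso (Sigma.desc (Sigma.ι Y)) := by
    have h : Sigma.desc (Sigma.ι Y) = 𝟙 _ := Sigma.hom_ext _ _ fun i => by
      rw [Sigma.ι_desc, Category.comp_id]
    rw [h]
    infer_instance
  have h2 := FinitaryPreExtensive.isIso_sigmaDesc_fst (Sigma.ι Y) (pullback.fst z t) h1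
  have sq := fun i => isPullback_pb_left (p := z) (t := t) (Sigma.ι Y i) (hy i)
    (Category.id_comp t)
  let E : (∐ fun i => pullback (y i) t) ≅ ∐ fun i => pullback (pullback.fst z t) (Sigma.ι Y i) :=
    Limits.Sigma.mapIso fun i => (sq i).isoPullback
  have h3 : dec z t y hy = E.hom ≫ Sigma.desc (fun i => pullback.fst (pullback.fst z t)
      (Sigma.ι Y i)) := by
    apply Sigma.hom_ext
    intro i
    rw [dec, Sigma.ι_desc, ← Category.assoc, Limits.Sigma.ι_mapIso_hom, Category.assoc,
      Sigma.ι_desc]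
    exact ((sq i).isoPullback_hom_fst).symm
  rw [h3]
  infer_instance

include hy in
theorem hom_ext {a b : pullback z t ⟶ W}
    (h : ∀ i, pb (Sigma.ι Y i) (𝟙 T) (hy i) (Category.id_comp t) ≫ a =
      pb (Sigma.ι Y i) (𝟙 T) (hy i) (Category.id_comp t) ≫ b) : a = b := by
  rw [← cancel_epi (dec z t y hy)]
  apply Sigma.hom_ext
  intro i
  simp only [dec, Sigma.ι_desc_assoc]
  exact h i

theorem exists_glue (s : ∀ i, pullback (y i) t ⟶ W) :
    ∃ a : pullback z t ⟶ W,
      ∀ i, pb (Sigma.ι Y i) (𝟙 T) (hy i) (Category.id_comp t) ≫ a = s i := by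
  refine ⟨inv (dec z t y hy) ≫ Sigma.desc s, fun i => ?_⟩
  have h : pb (Sigma.ι Y i) (𝟙 T) (hy i) (Category.id_comp t) =
      Sigma.ι (fun i => pullback (y i) t) i ≫ dec z t y hy := by
    simp only [dec, Sigma.ι_desc]
  rw [h, Category.assoc, IsIso.hom_inv_id_assoc, Sigma.ι_desc]

end

theorem isFinite_sigmaDesc {X : Scheme.{u}} {n : ℕ} (Y : Fin n → Scheme.{u}) (f : ∀ i, Y i ⟶ X)
    [∀ i, IsFinite (f i)] : IsFinite (Limits.Sigma.desc f) := by
  let ε : ULift.{u} (Fin n) ≃ Fin n := Equiv.ulift
  have h := Groth.Agent.Sga1.SigmaFinite.isFinite_sigmaDesc (fun i => f (ε i))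
  rw [← MorphismProperty.cancel_left_of_respectsIso @IsFinite (Limits.Sigma.reindex ε Y).hom]
  have h1 : (Limits.Sigma.reindex ε Y).hom ≫ Limits.Sigma.desc f =
      Limits.Sigma.desc (fun i => f (ε i)) := by
    apply Limits.Sigma.hom_ext
    intro i
    rw [← Category.assoc, Limits.Sigma.ι_reindex_hom, Limits.Sigma.ι_desc, Limits.Sigma.ι_desc]
  rw [h1]
  exact h

/-- Points lift along local injective extensions of discrete valuation rings. -/
theorem exists_point {A B K : Type u} [CommRing A] [IsDomain A] [IsDiscreteValuationRing A]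
    [CommRing B] [IsDomain B] [IsLocalRing B] (χ : A →+* B) (hχ : Function.Injective χ)
    [IsLocalHom χ] [Field K] (τ : A →+* K) :
    ∃ (K' : Type u) (_ : Field K') (_ : IsAlgClosed K') (τ' : B →+* K') (σ : K →+* K'),
      τ'.comp χ = σ.comp τ := by
  let f : Spec (CommRingCat.of B) ⟶ Spec (CommRingCat.of A) := Spec.map (CommRingCat.ofHom χ)
  let g : Spec (CommRingCat.of K) ⟶ Spec (CommRingCat.of A) := Spec.map (CommRingCat.ofHom τ)
  let y : Spec (CommRingCat.of K) := (⊥ : PrimeSpectrum K)
  obtain ⟨x, hx⟩ : ∃ x, f x = g y := by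
    rcases Groth.Agent.Models.DVRGeneric.eq_closedPoint_or_eq_bot A (g y) with h | h
    · refine ⟨closedPoint B, ?_⟩
      rw [h]
      exact IsLocalRing.comap_closedPoint χ
    · refine ⟨(⊥ : PrimeSpectrum B), ?_⟩
      apply PrimeSpectrum.ext
      rw [h]
      change Ideal.comap χ ⊥ = ⊥
      rw [← RingHom.ker_eq_comap_bot]
      exact (RingHom.injective_iff_ker_eq_bot χ).mp hχ
  obtain ⟨w, -, -⟩ := Scheme.Pullback.exists_preimage_pullback (f := f) (g := g) x y hx
  let W := pullback f g
  let K' := AlgebraicClosure (W.residueField w)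
  let e : Spec (CommRingCat.of K') ⟶ W :=
    Spec.map (CommRingCat.ofHom (algebraMap (W.residueField w) K')) ≫ W.fromSpecResidueField w
  refine ⟨K', inferInstance, inferInstance, (Spec.preimage (e ≫ pullback.fst f g)).hom,
    (Spec.preimage (e ≫ pullback.snd f g)).hom, ?_⟩
  have h1 : CommRingCat.ofHom χ ≫ Spec.preimage (e ≫ pullback.fst f g) =
      CommRingCat.ofHom τ ≫ Spec.preimage (e ≫ pullback.snd f g) := by
    apply Spec.map_injective
    rw [Spec.map_comp, Spec.map_comp, Spec.map_preimage, Spec.map_preimage]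
    exact (Category.assoc _ _ _).trans ((congrArg (e ≫ ·) (pullback.condition (f := f)
      (g := g))).trans (Category.assoc _ _ _).symm)
  exact congrArg CommRingCat.Hom.hom h1

end K157.Glue
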