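import Groth.Agent.Pi1.K157.Desc

/-!
# Künneth for torsors of invertible order
-/

set_option autoImplicit false
set_option linter.dupNamespace false

universe u v

open CategoryTheory CategoryTheory.Limits AlgebraicGeometry IsLocalRing

namespace K157.Kunneth

open K157.CurveA K157.Lift K157.SmoothT1 K157.NormalExt K157.Pb K157.Glue K157.DescLift K157.Star
  K157.TraitGeom K157.Spread K157.Desc

section

variable {k : Type u} [Field k] [IsAlgClosed k] {X Y : Scheme.{u}}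
  (pX : X ⟶ Spec (CommRingCat.of k)) (pY : Y ⟶ Spec (CommRingCat.of k))
  [LocallyOfFiniteType pX] [QuasiCompact pX] [LocallyOfFiniteType pY] [QuasiCompact pY]

/-- Sections. -/
noncomputable def sec {T : Scheme.{u}} (t : T ⟶ Spec (CommRingCat.of k)) (a : T ⟶ X)
    (ha : a ≫ pX = t) : T ⟶ pullback pX t :=
  pullback.lift a (𝟙 T) (by rw [ha, Category.id_comp])

omit [IsAlgClosed k] [LocallyOfFiniteType pX] [QuasiCompact pX] in
@[reassoc (attr := simp)]
lemma sec_fst {T : Scheme.{u}} (t : T ⟶ Spec (CommRingCat.of k)) (a : T ⟶ X)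
    (ha : a ≫ pX = t) : sec pX t a ha ≫ pullback.fst _ _ = a := pullback.lift_fst _ _ _

omit [IsAlgClosed k] [LocallyOfFiniteType pX] [QuasiCompact pX] in
@[reassoc (attr := simp)]
lemma sec_snd {T : Scheme.{u}} (t : T ⟶ Spec (CommRingCat.of k)) (a : T ⟶ X)
    (ha : a ≫ pX = t) : sec pX t a ha ≫ pullback.snd _ _ = 𝟙 T := pullback.lift_snd _ _ _

omit [IsAlgClosed k] [LocallyOfFiniteType pX] [QuasiCompact pX] in
@[reassoc]
lemma comp_sec {T T' : Scheme.{u}} (g : T' ⟶ T) (t : T ⟶ Spec (CommRingCat.of k)) (a : T ⟶ X)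
    (ha : a ≫ pX = t) (t' : T' ⟶ Spec (CommRingCat.of k)) (ht : g ≫ t = t') (a' : T' ⟶ X)
    (ha' : g ≫ a = a') :
    g ≫ sec pX t a ha = sec pX t' a' (by rw [← ha', Category.assoc, ha, ht]) ≫
      pb (𝟙 X) g (Category.id_comp pX) ht := by
  apply pullback.hom_ext <;> simp [ha']

variable {pX pY}

variable (W : FEt.Cat (pullback pX pY))

/-- The lift of `X_Ω ⟶ X ×_k Y` does not depend on the geometric point. -/
theorem hasLift_indep {Ω₁ Ω₂ : Type u} [Field Ω₁] [Field Ω₂] [IsAlgClosed Ω₁] [IsAlgClosed Ω₂]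
    {t₁ : Spec (CommRingCat.of Ω₁) ⟶ Spec (CommRingCat.of k)}
    {t₂ : Spec (CommRingCat.of Ω₂) ⟶ Spec (CommRingCat.of k)}
    (b₁ : Spec (CommRingCat.of Ω₁) ⟶ Y) (b₂ : Spec (CommRingCat.of Ω₂) ⟶ Y)
    (h₁ : b₁ ≫ pY = t₁) (h₂ : b₂ ≫ pY = t₂)
    (hb : b₁ (⊥ : PrimeSpectrum Ω₁) = b₂ (⊥ : PrimeSpectrum Ω₂))
    (h : HasLift W (pb (𝟙 X) b₁ (Category.id_comp pX) h₁)) :
    HasLift W (pb (𝟙 X) b₂ (Category.id_comp pX) h₂) := by
  obtain ⟨Ω, _, _, g₁, g₂, hg, -, -⟩ := exists_common b₁ b₂ _ _ hb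
  obtain ⟨σ', hσ'⟩ := Spec.map_surjective g₂
  have e : g₁ ≫ t₁ = g₂ ≫ t₂ := by rw [← h₁, ← h₂, reassoc_of% hg]
  have sq := isPullback_pb_right (p := pX) (t := t₂) g₂ (Category.id_comp pX) rfl
  have hfull : (FEt.restrict (pb (𝟙 X) g₂ (Category.id_comp pX) rfl :
      pullback pX (g₂ ≫ t₂) ⟶ pullback pX t₂)).Full := by
    rw [← hσ'] at sq ⊢
    exact (Groth.Agent.Pi1.H390.T1UFF.fullyFaithful σ'.hom sq).1
  have h3 : HasLift ((FEt.restrict (pb (𝟙 X) b₂ (Category.id_comp pX) h₂)).obj W)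
      (pb (𝟙 X) g₂ (Category.id_comp pX) rfl) := by
    rw [hasLift_restrict_iff]
    refine h.comp' (pb (𝟙 X) g₁ (Category.id_comp pX) e) ?_
    rw [pb_comp _ _ _ _ (Category.id_comp (𝟙 X)) rfl, pb_comp _ _ _ _ (Category.id_comp (𝟙 X)) rfl]
    congr 1
  have h4 := hasLift_of_full _ _ h3
  rwa [hasLift_restrict_iff, Category.id_comp] at h4

/-- The trait step. -/
theorem exists_ext (hens : Groth.Agent.Pi1.H385.T2aGeom.HensStmt.{u}) {G : Type} [Group G]
    [Finite G] (hG : IsUnit ((Nat.card G : ℕ) : k)) (ρ : G →* Aut W)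
    (hW : SGA1t.IsPrincipal G W ρ) (B : Trait.{u})
    (b : Spec (CommRingCat.of B.R) ⟶ Y) {Ω : Type u} [Field Ω] [IsAlgClosed Ω]
    (β : Spec (CommRingCat.of Ω) ⟶ Spec (CommRingCat.of B.R))
    (h : HasLift W (pb (𝟙 X) (β ≫ b) (Category.id_comp pX) rfl)) :
    ∃ (B' : Trait.{u}) (χ : B.R →+* B'.R), Function.Injective χ ∧ IsLocalHom χ ∧
      HasLift W (pb (𝟙 X) (sp χ ≫ b) (Category.id_comp pX) rfl) := by
  obtain ⟨φ', hφ'⟩ := Spec.map_surjective (b ≫ pY)
  obtain ⟨τ', hτ'⟩ := Spec.map_surjective β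
  let φ : k →+* B.R := φ'.hom
  let τ : B.R →+* Ω := τ'.hom
  have hφ : sp φ = b ≫ pY := hφ'
  have hτ : sp τ = β := hτ'
  let m : pullback pX (sp φ) ⟶ pullback pX pY := pb (𝟙 X) b (Category.id_comp pX) hφ.symm
  have h1 : HasLift ((FEt.restrict m).obj W) (bc pX φ τ) := by
    rw [hasLift_restrict_iff]
    have e : sp (τ.comp φ) = (β ≫ b) ≫ pY := by rw [← sp_comp, hφ, hτ, Category.assoc]
    refine h.comp' (pb (𝟙 X) (𝟙 _) (Category.id_comp pX) (by rw [e, Category.id_comp])) ?_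
    rw [bc_eq, pb_comp _ _ _ _ (Category.id_comp (𝟙 X)) rfl,
      pb_comp _ _ _ _ (Category.id_comp (𝟙 X)) rfl]
    congr 1
    rw [hτ, Category.id_comp]
  obtain ⟨B', χ, hχ, hχ', hB'⟩ := extLift hens pX B φ hG ((FEt.restrict m).obj W) _
    (Groth.Agent.Pi1.H408.PrincRestrict.isPrincipal_restrict m W ρ hW) Ω τ h1
  refine ⟨B', χ, hχ, hχ', ?_⟩
  rw [hasLift_restrict_iff] at hB'
  have e : (sp χ ≫ b) ≫ pY = sp (χ.comp φ) := by rw [← sp_comp, hφ, Category.assoc]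
  refine hB'.comp' (pb (𝟙 X) (𝟙 _) (Category.id_comp pX) (by rw [e, Category.id_comp])) ?_
  rw [bc_eq, pb_comp _ _ _ _ (Category.id_comp (𝟙 X)) rfl,
    pb_comp _ _ _ _ (Category.id_comp (𝟙 X)) rfl]
  congr 1

lemma sp_bot {R S : Type u} [CommRing R] [IsDomain R] [CommRing S] [IsDomain S]
    (f : R →+* S) (hf : Function.Injective f) :
    sp f (⊥ : PrimeSpectrum S) = (⊥ : PrimeSpectrum R) := by
  apply PrimeSpectrum.ext
  change Ideal.comap f ⊥ = ⊥
  rw [← RingHom.ker_eq_comap_bot]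
  exact (RingHom.injective_iff_ker_eq_bot f).mp hf

/-- Lifts over all geometric fibres. -/
theorem hasLift_geom (hens : Groth.Agent.Pi1.H385.T2aGeom.HensStmt.{u}) [ConnectedSpace Y]
    {G : Type} [Group G]
    [Finite G] (hG : IsUnit ((Nat.card G : ℕ) : k)) (ρ : G →* Aut W)
    (hW : SGA1t.IsPrincipal G W ρ) {Ω₀ : Type u} [Field Ω₀] [IsAlgClosed Ω₀]
    (b₀ : Spec (CommRingCat.of Ω₀) ⟶ Y)
    (h₀ : HasLift W (pb (𝟙 X) b₀ (Category.id_comp pX) rfl))
    {Ω : Type u} [Field Ω] [IsAlgClosed Ω] (b : Spec (CommRingCat.of Ω) ⟶ Y)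
    {t : Spec (CommRingCat.of Ω) ⟶ Spec (CommRingCat.of k)} (hb : b ≫ pY = t) :
    HasLift W (pb (𝟙 X) b (Category.id_comp pX) hb) := by
  have hLN : IsLocallyNoetherian Y := LocallyOfFiniteType.isLocallyNoetherian pY
  have hcpt : CompactSpace Y := QuasiCompact.compactSpace_of_compactSpace pY
  have hN : IsNoetherian Y := { }
  let S : Set Y := {y | ∃ (Ω : Type u) (_ : Field Ω) (_ : IsAlgClosed Ω)
    (b : Spec (CommRingCat.of Ω) ⟶ Y), b (⊥ : PrimeSpectrum Ω) = y ∧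
      HasLift W (pb (𝟙 X) b (Category.id_comp pX) rfl)}
  -- the trait argument
  have step : ∀ (B : Trait.{u}) (g : Spec (CommRingCat.of B.R) ⟶ Y) (q : Spec (CommRingCat.of B.R)),
      g q ∈ S → g (⊥ : PrimeSpectrum B.R) ∈ S ∧ g (closedPoint B.R) ∈ S := by
    intro B g q hq
    obtain ⟨Ω, _, _, b, hb, hl⟩ := hq
    obtain ⟨Ω', _, _, β, hβ⟩ := Groth.Agent.Pi1.H416.PrincDesc.exists_geomPt _ q
    have h1 : HasLift W (pb (𝟙 X) (β ≫ g) (Category.id_comp pX) rfl) :=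
      hasLift_indep W b (β ≫ g) rfl rfl (by rw [hb, Scheme.Hom.comp_apply, hβ]) hl
    obtain ⟨B', χ, hχ, hχ', hB'⟩ := exists_ext W hens hG ρ hW B g β h1
    have h2 : ∀ q' : Spec (CommRingCat.of B'.R), g (sp χ q') ∈ S := by
      intro q'
      obtain ⟨Ω'', _, _, β', hβ'⟩ := Groth.Agent.Pi1.H416.PrincDesc.exists_geomPt _ q'
      refine ⟨Ω'', inferInstance, inferInstance, β' ≫ sp χ ≫ g, ?_, ?_⟩
      · rw [Scheme.Hom.comp_apply, Scheme.Hom.comp_apply, hβ']
      · refine hB'.comp' (pb (𝟙 X) β' (Category.id_comp pX) (by simp only [Category.assoc])) ?_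
        rw [pb_comp _ _ _ _ (Category.id_comp (𝟙 X)) rfl]
    refine ⟨?_, ?_⟩
    · have h3 := h2 (⊥ : PrimeSpectrum B'.R)
      rwa [sp_bot χ hχ] at h3
    · have h3 := h2 (closedPoint B'.R)
      have h4 : sp χ (closedPoint B'.R) = closedPoint B.R := IsLocalRing.comap_closedPoint χ
      rwa [h4] at h3
  have hS : S = Set.univ := by
    refine IsClopen.eq_univ (isClopen_of_stable S fun x y hxy => ?_)
      ⟨_, Ω₀, inferInstance, inferInstance, b₀, rfl, h₀⟩
    by_cases hne : x = y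
    · rw [hne]
    · obtain ⟨B, g, hg1, hg2⟩ := exists_trait hxy hne
      constructor
      · intro hx
        rw [← hg1] at hx
        have := (step B g _ hx).2
        rwa [hg2] at this
      · intro hy
        rw [← hg2] at hy
        have := (step B g _ hy).1
        rwa [hg1] at this
  obtain ⟨Ω', _, _, b', hb', hl'⟩ : b (⊥ : PrimeSpectrum Ω) ∈ S := by rw [hS]; trivial
  exact hasLift_indep W b' b rfl hb hb' hl'

section

variable (x : Spec (CommRingCat.of k) ⟶ X) (hx : x ≫ pX = 𝟙 _) (σ : Y ⟶ W.left)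

include hx in
omit [IsAlgClosed k] [LocallyOfFiniteType pX] [QuasiCompact pX] in
lemma comp_x {T : Scheme.{u}} (t : T ⟶ Spec (CommRingCat.of k)) : (t ≫ x) ≫ pX = t := by
  rw [Category.assoc, hx, Category.comp_id]

/-- The point `ω` lies on the section through `σ`. -/
def Good {T : Scheme.{u}} (ω : T ⟶ W.left) : Prop :=
  ∃ (t : T ⟶ Spec (CommRingCat.of k)) (a : T ⟶ X) (b : T ⟶ Y) (ha : a ≫ pX = t) (hb : b ≫ pY = t)
    (s : pullback pX t ⟶ W.left), ω ≫ W.hom ≫ pullback.fst pX pY = a ∧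
      ω ≫ W.hom ≫ pullback.snd pX pY = b ∧ s ≫ W.hom = pb (𝟙 X) b (Category.id_comp pX) hb ∧
      sec pX t (t ≫ x) (comp_x x hx t) ≫ s = b ≫ σ ∧ sec pX t a ha ≫ s = ω

variable {W x hx σ}

theorem Good.comp {T T' : Scheme.{u}} {ω : T ⟶ W.left} (h : Good W x hx σ ω) (g : T' ⟶ T) :
    Good W x hx σ (g ≫ ω) := by
  obtain ⟨t, a, b, ha, hb, s, h1, h2, h3, h4, h5⟩ := h
  refine ⟨g ≫ t, g ≫ a, g ≫ b, by rw [Category.assoc, ha], by rw [Category.assoc, hb],
    pb (𝟙 X) g (Category.id_comp pX) rfl ≫ s, by rw [Category.assoc, h1],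
    by rw [Category.assoc, h2], ?_, ?_, ?_⟩
  · rw [Category.assoc, h3, pb_comp _ _ _ _ (Category.id_comp (𝟙 X)) rfl]
  · rw [← comp_sec_assoc pX g t (t ≫ x) (comp_x x hx t) (g ≫ t) rfl ((g ≫ t) ≫ x)
      (Category.assoc _ _ _).symm, h4, Category.assoc]
  · rw [← comp_sec_assoc pX g t a ha (g ≫ t) rfl (g ≫ a) rfl, h5]

theorem exists_compat {G : Type} [Group G] (ρ : G →* Aut W)
    (hW : SGA1t.IsPrincipal G W ρ)
    (hσ : σ ≫ W.hom = pullback.lift (pY ≫ x) (𝟙 Y) (by rw [comp_x x hx, Category.id_comp]))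
    {T : Scheme.{u}} [ConnectedSpace T] (t : T ⟶ Spec (CommRingCat.of k)) (b : T ⟶ Y)
    (hb : b ≫ pY = t) (h : HasLift W (pb (𝟙 X) b (Category.id_comp pX) hb)) :
    ∃ s : pullback pX t ⟶ W.left, s ≫ W.hom = pb (𝟙 X) b (Category.id_comp pX) hb ∧
      sec pX t (t ≫ x) (comp_x x hx t) ≫ s = b ≫ σ := by
  obtain ⟨s, hs⟩ := h
  have h1 : (sec pX t (t ≫ x) (comp_x x hx t) ≫ s) ≫ W.hom = (b ≫ σ) ≫ W.hom := by
    rw [Category.assoc, hs, Category.assoc, hσ]
    apply pullback.hom_ext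
    · rw [Category.assoc, pb_fst, Category.comp_id, sec_fst, Category.assoc, pullback.lift_fst,
        ← Category.assoc, hb]
    · rw [Category.assoc, pb_snd, sec_snd_assoc, Category.assoc, pullback.lift_snd,
        Category.comp_id]
  obtain ⟨γ, hγ⟩ := exists_translate hW h1
  refine ⟨s ≫ (ρ γ).hom.left, ?_, ?_⟩
  · rw [Category.assoc, MorphismProperty.Over.w (ρ γ).hom]
    exact hs
  · rw [hγ, Category.assoc]

theorem compat_unique {T : Scheme.{u}} [ConnectedSpace T] {t : T ⟶ Spec (CommRingCat.of k)}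
    {s s' : pullback pX t ⟶ W.left} (h : s ≫ W.hom = s' ≫ W.hom)
    (h' : sec pX t (t ≫ x) (comp_x x hx t) ≫ s = sec pX t (t ≫ x) (comp_x x hx t) ≫ s')
    [ConnectedSpace X] : s = s' := by
  have hc : ConnectedSpace ↥(pullback pX t) := connectedSpace_pullback _ _
  exact eq_of_agree W h _ h'

theorem good_of_comp {G : Type} [Group G] (ρ : G →* Aut W)
    (hW : SGA1t.IsPrincipal G W ρ)
    (hσ : σ ≫ W.hom = pullback.lift (pY ≫ x) (𝟙 Y) (by rw [comp_x x hx, Category.id_comp]))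
    [ConnectedSpace X] {T T' : Scheme.{u}} [ConnectedSpace T] [ConnectedSpace T'] (g : T' ⟶ T)
    (ω : T ⟶ W.left) (t : T ⟶ Spec (CommRingCat.of k)) (b : T ⟶ Y) (hb : b ≫ pY = t)
    (hbω : ω ≫ W.hom ≫ pullback.snd pX pY = b)
    (hl : HasLift W (pb (𝟙 X) b (Category.id_comp pX) hb))
    (h : Good W x hx σ (g ≫ ω)) : Good W x hx σ ω := by
  obtain ⟨t', a', b', ha', hb', s', h1, h2, h3, h4, h5⟩ := h
  obtain ⟨s, hs, hs'⟩ := exists_compat (hx := hx) ρ hW hσ _ _ hb hl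
  obtain ⟨a, haω⟩ : ∃ a, ω ≫ W.hom ≫ pullback.fst pX pY = a := ⟨_, rfl⟩
  have ha : a ≫ pX = t := by
    rw [← haω, ← hb, ← hbω, Category.assoc, Category.assoc, Category.assoc, Category.assoc,
      pullback.condition]
  have hgb : g ≫ b = b' := by rw [← h2, ← hbω, Category.assoc]
  have hga : g ≫ a = a' := by rw [← h1, ← haω, Category.assoc]
  have hgt : g ≫ t = t' := by rw [← hb', ← hgb, ← hb, Category.assoc]
  have key : pb (𝟙 X) g (Category.id_comp pX) hgt ≫ s = s' := by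
    refine compat_unique (x := x) (hx := hx) ?_ ?_
    · rw [Category.assoc, hs, h3, pb_comp _ _ _ _ (Category.id_comp (𝟙 X)) hgb]
    · rw [← comp_sec_assoc pX g t (t ≫ x) (comp_x x hx t) t' hgt (t' ≫ x)
        (by rw [← hgt, Category.assoc]), hs', h4, ← hgb, Category.assoc]
  refine ⟨t, a, b, ha, hb, s, haω, hbω, hs, hs', ?_⟩
  refine eq_of_agree W ?_ g ?_
  · rw [Category.assoc, hs]
    apply pullback.hom_ext
    · rw [Category.assoc, pb_fst, Category.comp_id, sec_fst, Category.assoc, haω]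
    · rw [Category.assoc, pb_snd, sec_snd_assoc, Category.assoc, hbω]
  · rw [comp_sec_assoc pX g t a ha t' hgt a' hga, key, h5]

theorem good_unique [ConnectedSpace X] {T : Scheme.{u}} [ConnectedSpace T] {ω ω' : T ⟶ W.left}
    (h : ω ≫ W.hom = ω' ≫ W.hom) (h1 : Good W x hx σ ω) (h2 : Good W x hx σ ω') : ω = ω' := by
  obtain ⟨t, a, b, ha, hb, s, e1, e2, e3, e4, e5⟩ := h1
  obtain ⟨t', a', b', ha', hb', s', e1', e2', e3', e4', e5'⟩ := h2
  obtain rfl : a = a' := by rw [← e1, ← e1', reassoc_of% h]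
  obtain rfl : b = b' := by rw [← e2, ← e2', reassoc_of% h]
  obtain rfl : t = t' := by rw [← hb, ← hb']
  obtain rfl : s = s' := compat_unique (x := x) (hx := hx) (by rw [e3, e3']) (by rw [e4, e4'])
  rw [← e5, ← e5']

theorem exists_good {G : Type} [Group G] (ρ : G →* Aut W)
    (hW : SGA1t.IsPrincipal G W ρ)
    (hσ : σ ≫ W.hom = pullback.lift (pY ≫ x) (𝟙 Y) (by rw [comp_x x hx, Category.id_comp]))
    {T : Scheme.{u}} [ConnectedSpace T] (ξ : T ⟶ pullback pX pY)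
    (h : HasLift W (pb (𝟙 X) (ξ ≫ pullback.snd pX pY) (Category.id_comp pX) rfl)) :
    ∃ ω : T ⟶ W.left, Good W x hx σ ω ∧ ω ≫ W.hom = ξ := by
  obtain ⟨s, hs, hs'⟩ := exists_compat (hx := hx) ρ hW hσ _ _ rfl h
  have ha : (ξ ≫ pullback.fst pX pY) ≫ pX = (ξ ≫ pullback.snd pX pY) ≫ pY := by
    rw [Category.assoc, Category.assoc, pullback.condition]
  have h1 : (sec pX _ (ξ ≫ pullback.fst pX pY) ha ≫ s) ≫ W.hom = ξ := by
    rw [Category.assoc, hs]
    apply pullback.hom_ext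
    · rw [Category.assoc, pb_fst, Category.comp_id, sec_fst]
    · rw [Category.assoc, pb_snd, sec_snd_assoc]
  refine ⟨sec pX _ (ξ ≫ pullback.fst pX pY) ha ≫ s, ?_, h1⟩
  refine ⟨_, _, _, ha, rfl, s, ?_, ?_, hs, hs', rfl⟩
  · exact (Category.assoc _ _ _).symm.trans (congrArg (· ≫ _) h1)
  · exact (Category.assoc _ _ _).symm.trans (congrArg (· ≫ _) h1)

end

variable {W}

/-- A torsor of invertible order over `X ×_k Y` which is trivial over `X × y` and `x × Y` is trivial. -/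
theorem hasLift_id (hens : Groth.Agent.Pi1.H385.T2aGeom.HensStmt.{u}) [ConnectedSpace X]
    [ConnectedSpace Y] {G : Type} [Group G]
    [Finite G] (hG : IsUnit ((Nat.card G : ℕ) : k)) (ρ : G →* Aut W)
    (hW : SGA1t.IsPrincipal G W ρ)
    (x : Spec (CommRingCat.of k) ⟶ X) (hx : x ≫ pX = 𝟙 _)
    (y : Spec (CommRingCat.of k) ⟶ Y) (hy : y ≫ pY = 𝟙 _)
    (h1 : HasLift W (pullback.lift (𝟙 X) (pX ≫ y)
      (by rw [comp_x y hy, Category.id_comp]) : X ⟶ pullback pX pY))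
    (h2 : HasLift W (pullback.lift (pY ≫ x) (𝟙 Y)
      (by rw [comp_x x hx, Category.id_comp]) : Y ⟶ pullback pX pY)) :
    HasLift W (𝟙 _) := by
  obtain ⟨σ, hσ⟩ := h2
  have h0 : HasLift W (pb (𝟙 X) y (Category.id_comp pX) rfl) := by
    refine h1.comp' (pullback.fst _ _) ?_
    apply pullback.hom_ext
    · rw [Category.assoc, pullback.lift_fst, pb_fst]
    · have h' : (y ≫ pY) ≫ y = y := by rw [hy, Category.id_comp]
      rw [Category.assoc, pullback.lift_snd, pb_snd, pullback.condition_assoc, h']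
  have hall : ∀ {Ω : Type u} [Field Ω] [IsAlgClosed Ω] (b : Spec (CommRingCat.of Ω) ⟶ Y)
      {t : Spec (CommRingCat.of Ω) ⟶ Spec (CommRingCat.of k)} (hb : b ≫ pY = t),
      HasLift W (pb (𝟙 X) b (Category.id_comp pX) hb) := fun b _ hb =>
    hasLift_geom W hens hG ρ hW y h0 b hb
  have hZc : ConnectedSpace ↥(pullback pX pY) := connectedSpace_pullback _ _
  have hW1 : IsFinite W.hom := W.prop.1
  have hW2 : Etale W.hom := W.prop.2
  let pW : W.left ⟶ Spec (CommRingCat.of k) := W.hom ≫ pullback.fst pX pY ≫ pX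
  have hLN : IsLocallyNoetherian W.left := LocallyOfFiniteType.isLocallyNoetherian pW
  have hcpt : CompactSpace W.left := QuasiCompact.compactSpace_of_compactSpace pW
  have hN : IsNoetherian W.left := { }
  let S : Set W.left := {w | ∃ (Ω : Type u) (_ : Field Ω) (_ : IsAlgClosed Ω)
    (ω : Spec (CommRingCat.of Ω) ⟶ W.left), ω (⊥ : PrimeSpectrum Ω) = w ∧ Good W x hx σ ω}
  have mem_iff : ∀ {Ω : Type u} [Field Ω] [IsAlgClosed Ω] (ω : Spec (CommRingCat.of Ω) ⟶ W.left),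
      ω (⊥ : PrimeSpectrum Ω) ∈ S ↔ Good W x hx σ ω := by
    intro Ω _ _ ω
    constructor
    · rintro ⟨Ω₁, _, _, ω₁, hω₁, hg⟩
      obtain ⟨Ω', _, _, g₁, g₂, hg', -, -⟩ := exists_common ω₁ ω _ _ hω₁
      have h3 := hg.comp g₁
      rw [hg'] at h3
      exact good_of_comp ρ hW hσ g₂ ω _ _ rfl rfl (hall _ _) h3
    · intro h
      exact ⟨Ω, inferInstance, inferInstance, ω, rfl, h⟩
  have hS : IsClopen S := by
    refine isClopen_of_stable S fun w w' hww' => ?_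
    by_cases hne : w = w'
    · rw [hne]
    · obtain ⟨B, g, hg1, hg2⟩ := exists_trait hww' hne
      obtain ⟨Ω', _, _, β, -⟩ := Groth.Agent.Pi1.H416.PrincDesc.exists_geomPt
        (Spec (CommRingCat.of B.R)) (closedPoint B.R)
      obtain ⟨B', χ, hχ, hχ', hB'⟩ := exists_ext W hens hG ρ hW B
        (g ≫ W.hom ≫ pullback.snd pX pY) β (hall _ _)
      have h3 : ∀ q' : Spec (CommRingCat.of B'.R), g (sp χ q') ∈ S ↔ Good W x hx σ (sp χ ≫ g) := by
        intro q'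
        obtain ⟨Ω'', _, _, β', hβ'⟩ := Groth.Agent.Pi1.H416.PrincDesc.exists_geomPt _ q'
        have h4 := mem_iff (β' ≫ sp χ ≫ g)
        rw [Scheme.Hom.comp_apply, Scheme.Hom.comp_apply, hβ'] at h4
        rw [h4]
        constructor
        · intro h5
          exact good_of_comp ρ hW hσ β' (sp χ ≫ g) _ _ rfl (Category.assoc _ _ _) hB' h5
        · intro h5
          exact h5.comp β'
      have h4 := (h3 (⊥ : PrimeSpectrum B'.R)).trans (h3 (closedPoint B'.R)).symm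
      have h5 : sp χ (closedPoint B'.R) = closedPoint B.R := IsLocalRing.comap_closedPoint χ
      rwa [sp_bot χ hχ, h5, hg1, hg2] at h4
  let V : W.left.Opens := ⟨S, hS.isOpen⟩
  let T := Groth.Agent.Pi1B.FEtPreGalois.clopenObj W V hS.isClosed
  let I : FEt.Cat (pullback pX pY) :=
    MorphismProperty.Over.mk ⊤ (𝟙 _) (MorphismProperty.id_mem _ _)
  let φ : T ⟶ I := MorphismProperty.Over.homMk (A := T) (B := I) (V.ι ≫ W.hom)
    (Category.comp_id _) trivial
  obtain ⟨z₀⟩ : Nonempty ↥(pullback pX pY) := inferInstance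
  obtain ⟨Ω, _, _, ξ, -⟩ := Groth.Agent.Pi1.H416.PrincDesc.exists_geomPt (pullback pX pY) z₀
  have hφ : IsIso φ.left := by
    refine Groth.Agent.Pi1B.FEtGalois.isIso_of_bijective_fibre ξ φ ⟨?_, ?_⟩
    · intro s s' _
      apply Subtype.ext
      let a : Spec (CommRingCat.of Ω) ⟶ V := s.1
      let a' : Spec (CommRingCat.of Ω) ⟶ V := s'.1
      have e1 : (a ≫ V.ι) ≫ W.hom = ξ := (Category.assoc _ _ _).trans s.2
      have e2 : (a' ≫ V.ι) ≫ W.hom = ξ := (Category.assoc _ _ _).trans s'.2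
      have e3 : Good W x hx σ (a ≫ V.ι) := (mem_iff _).mp (a _).2
      have e4 : Good W x hx σ (a' ≫ V.ι) := (mem_iff _).mp (a' _).2
      have e5 := good_unique (e1.trans e2.symm) e3 e4
      rw [cancel_mono] at e5
      exact e5
    · intro z
      have hz : z.1 = ξ := (Category.comp_id _).symm.trans z.2
      obtain ⟨ω, hω1, hω2⟩ := exists_good (hx := hx) ρ hW hσ ξ (hall _ _)
      let a : Spec (CommRingCat.of Ω) ⟶ V := IsOpenImmersion.lift V.ι ω (by
        rintro _ ⟨q, rfl⟩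
        rw [Subsingleton.elim (α := PrimeSpectrum Ω) q (⊥ : PrimeSpectrum Ω)]
        rw [Scheme.Opens.range_ι]
        exact (mem_iff ω).mpr hω1)
      have ha : a ≫ V.ι = ω := IsOpenImmersion.lift_fac _ _ _
      refine ⟨⟨a, ?_⟩, Subtype.ext ?_⟩
      · exact (Category.assoc _ _ _).symm.trans ((congrArg (· ≫ W.hom) ha).trans hω2)
      · exact ((Category.assoc _ _ _).symm.trans
          ((congrArg (· ≫ W.hom) ha).trans hω2)).trans hz.symm
  obtain ⟨ψ, -, hψ⟩ := hφ.out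
  let ψ' : pullback pX pY ⟶ V := ψ
  refine ⟨ψ' ≫ V.ι, ?_⟩
  exact (Category.assoc _ _ _).trans hψ

end

end K157.Kunneth
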