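import Groth.Agent.Pi1.K157.Kunneth
import Groth.Agent.Pi1.H416.SepField
import Mathlib.Algebra.Group.Shrink

/-!
# Künneth for torsors of invertible order: domination by products
-/

set_option autoImplicit false
set_option linter.dupNamespace false

universe u v

open CategoryTheory CategoryTheory.Limits AlgebraicGeometry IsLocalRing

namespace K157.KunnethMain

open K157.CurveA K157.Lift K157.SmoothT1 K157.NormalExt K157.Pb K157.Glue K157.DescLift K157.Star
  K157.TraitGeom K157.Spread K157.Desc K157.Kunneth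
open Groth.Agent.Pi1A.FEtAffine

/-- Rational points lift to connected covers over an algebraically closed field. -/
theorem exists_point_over {X : Scheme.{u}} [ConnectedSpace X] (A : FEt.Cat X) [Nonempty A.left]
    {Ω : Type u} [Field Ω] [IsAlgClosed Ω] (x : Spec (CommRingCat.of Ω) ⟶ X) :
    ∃ x' : Spec (CommRingCat.of Ω) ⟶ A.left, x' ≫ A.hom = x := by
  obtain ⟨a⟩ := ‹Nonempty A.left›
  obtain ⟨Ω', _, _, ζ, -⟩ := Groth.Agent.Pi1.H416.PrincDesc.exists_geomPt A.left a
  let π : A.left ⟶ X := A.hom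
  obtain ⟨τ⟩ := Groth.Agent.S0296.result (ζ ≫ π) x
  let z : FEt.fiberObj (ζ ≫ π) A := ⟨ζ, rfl⟩
  let z' : FEt.fiberObj x A := τ.hom.app A z
  exact ⟨z'.1, z'.2⟩

/-- Domination by products, over algebraically closed fields. -/
theorem exists_dom (hens : Groth.Agent.Pi1.H385.T2aGeom.HensStmt.{u}) {k : Type u} [Field k]
    [IsAlgClosed k] {X Y : Scheme.{u}}
    (pX : X ⟶ Spec (CommRingCat.of k)) (pY : Y ⟶ Spec (CommRingCat.of k))
    [LocallyOfFiniteType pX] [QuasiCompact pX] [LocallyOfFiniteType pY] [QuasiCompact pY]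
    [ConnectedSpace X] [ConnectedSpace Y] (W : FEt.Cat (pullback pX pY))
    {G : Type} [Group G] [Finite G] (hG : IsUnit ((Nat.card G : ℕ) : k)) (ρ : G →* Aut W)
    (hW : SGA1t.IsPrincipal G W ρ)
    (x : Spec (CommRingCat.of k) ⟶ X) (hx : x ≫ pX = 𝟙 _)
    (y : Spec (CommRingCat.of k) ⟶ Y) (hy : y ≫ pY = 𝟙 _) :
    ∃ (X' : FEt.Cat X) (Y' : FEt.Cat Y), Nonempty X'.left ∧ Nonempty Y'.left ∧
      HasLift W (pb (p := pX) (t := pY) X'.hom Y'.hom rfl rfl) := by
  let jy : X ⟶ pullback pX pY := pullback.lift (𝟙 X) (pX ≫ y)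
    (by rw [comp_x y hy, Category.id_comp])
  let jx : Y ⟶ pullback pX pY := pullback.lift (pY ≫ x) (𝟙 Y)
    (by rw [comp_x x hx, Category.id_comp])
  have key : ∀ {V : Scheme.{u}} [ConnectedSpace V] (j : V ⟶ pullback pX pY),
      ∃ V' : FEt.Cat V, ConnectedSpace V'.left ∧ HasLift W (V'.hom ≫ j) := by
    intro V _ j
    let Pv := (FEt.restrict j).obj W
    have hPv : SGA1t.IsPrincipal G Pv _ :=
      Groth.Agent.Pi1.H408.PrincRestrict.isPrincipal_restrict j W ρ hW
    obtain ⟨v⟩ : Nonempty V := inferInstance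
    obtain ⟨b, -⟩ := hPv.1 v
    obtain ⟨V', a, hc, -, -⟩ := exists_princ Pv b
    refine ⟨V', hc, a.left ≫ pullback.fst W.hom j, ?_⟩
    have h1 : a.left ≫ pullback.snd W.hom j = V'.hom := MorphismProperty.Over.w a
    refine (Category.assoc _ _ _).trans ((congrArg (a.left ≫ ·) pullback.condition).trans ?_)
    exact (Category.assoc _ _ _).symm.trans (congrArg (· ≫ j) h1)
  obtain ⟨X', hX', hlX⟩ := key jy
  obtain ⟨Y', hY', hlY⟩ := key jx
  have hX'' : ConnectedSpace ↥((𝟭 Scheme).obj X'.left) := hX'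
  have hY'' : ConnectedSpace ↥((𝟭 Scheme).obj Y'.left) := hY'
  have f1 : IsFinite X'.hom := X'.prop.1
  have f2 : IsFinite Y'.hom := Y'.prop.1
  refine ⟨X', Y', inferInstance, inferInstance, ?_⟩
  obtain ⟨x', hx'⟩ := exists_point_over X' x
  obtain ⟨y', hy'⟩ := exists_point_over Y' y
  let m : pullback (X'.hom ≫ pX) (Y'.hom ≫ pY) ⟶ pullback pX pY :=
    pb (p := pX) (t := pY) X'.hom Y'.hom rfl rfl
  have hx1 : x' ≫ X'.hom ≫ pX = 𝟙 _ := by rw [reassoc_of% hx', hx]
  have hy1 : y' ≫ Y'.hom ≫ pY = 𝟙 _ := by rw [reassoc_of% hy', hy]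
  have h := hasLift_id hens hG _
    (Groth.Agent.Pi1.H408.PrincRestrict.isPrincipal_restrict m W ρ hW) x' hx1 y' hy1 (by
      rw [hasLift_restrict_iff]
      refine hlX.comp' (𝟙 _) ?_
      rw [Category.id_comp]
      apply pullback.hom_ext
      · rw [Category.assoc, Category.assoc, pb_fst, pullback.lift_fst_assoc, Category.id_comp]
        exact (congrArg (X'.hom ≫ ·) (pullback.lift_fst _ _ _)).trans (Category.comp_id _)
      · rw [Category.assoc, Category.assoc, pb_snd, pullback.lift_snd_assoc, Category.assoc,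
          Category.assoc, hy']
        exact congrArg (X'.hom ≫ ·) (pullback.lift_snd _ _ _)) (by
      rw [hasLift_restrict_iff]
      refine hlY.comp' (𝟙 _) ?_
      rw [Category.id_comp]
      apply pullback.hom_ext
      · rw [Category.assoc, Category.assoc, pb_fst, pullback.lift_fst_assoc, Category.assoc,
          Category.assoc, hx']
        exact congrArg (Y'.hom ≫ ·) (pullback.lift_fst _ _ _)
      · rw [Category.assoc, Category.assoc, pb_snd, pullback.lift_snd_assoc, Category.id_comp]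
        exact (congrArg (Y'.hom ≫ ·) (pullback.lift_snd _ _ _)).trans (Category.comp_id _))
  rwa [hasLift_restrict_iff, Category.id_comp] at h

/-- The square `X_K ×_K Y_K ⟶ X ×_k Y`. -/
theorem isPullback_prod {k K : Type u} [Field k] [Field K] (i : k →+* K) {X Y : Scheme.{u}}
    (pX : X ⟶ Spec (CommRingCat.of k)) (pY : Y ⟶ Spec (CommRingCat.of k)) :
    IsPullback (pullback.map (pullback.snd pX (sp i)) (pullback.snd pY (sp i)) pX pY
      (pullback.fst pX (sp i)) (pullback.fst pY (sp i)) (sp i) pullback.condition.symm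
      pullback.condition.symm)
      (pullback.fst (pullback.snd pX (sp i)) (pullback.snd pY (sp i)) ≫ pullback.snd pX (sp i))
      (pullback.fst pX pY ≫ pX) (sp i) := by
  refine IsPullback.paste_vert (v₁₁ := pullback.fst _ _) (v₁₂ := pullback.fst pX pY)
    (h₂₁ := pullback.fst pX (sp i)) ?_ (IsPullback.of_hasPullback pX (sp i))
  refine IsPullback.of_right (h₁₂ := pullback.snd pX pY) (h₂₂ := pX) (v₁₃ := pY) ?_
    (pullback.lift_fst _ _ _) (IsPullback.of_hasPullback pX pY).flip
  have h1 : pullback.map (pullback.snd pX (sp i)) (pullback.snd pY (sp i)) pX pY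
      (pullback.fst pX (sp i)) (pullback.fst pY (sp i)) (sp i) pullback.condition.symm
      pullback.condition.symm ≫ pullback.snd pX pY = pullback.snd _ _ ≫ pullback.fst pY (sp i) :=
    pullback.lift_snd _ _ _
  rw [h1, pullback.condition]
  exact (IsPullback.of_hasPullback _ _).flip.paste_horiz (IsPullback.of_hasPullback pY (sp i))

theorem connectedSpace_of_integral {V V' : Scheme.{u}} (a : V' ⟶ V) [UniversallyInjective a]
    [IsIntegralHom a] [Surjective a] [ConnectedSpace V] : ConnectedSpace V' := by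
  have h1 : IsHomeomorph a := by
    rw [isHomeomorph_iff_continuous_isClosedMap_bijective]
    exact ⟨a.continuous, a.isClosedMap, a.injective, a.surjective⟩
  exact h1.homeomorph.symm.surjective.connectedSpace h1.homeomorph.symm.continuous

theorem connectedSpace_sep {k L : Type u} [Field k] [Field L] [Algebra k L]
    [IsPurelyInseparable k L] {V : Scheme.{u}} [ConnectedSpace V]
    (pV : V ⟶ Spec (CommRingCat.of k)) : ConnectedSpace ↥(pullback pV (sp (algebraMap k L))) := by
  have h1 : UniversallyInjective (sp (algebraMap k L)) :=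
    Groth.Agent.Pi1B.PurInsepSpec.universallyInjective_specMap k L
  have h2 : IsIntegralHom (sp (algebraMap k L)) :=
    Groth.Agent.Pi1B.PurInsepSpec.isIntegralHom_specMap k L
  have h3 : Surjective (sp (algebraMap k L)) :=
    Groth.Agent.Pi1B.PurInsepSpec.surjective_specMap k L
  have sq := IsPullback.of_hasPullback pV (sp (algebraMap k L))
  have h4 : UniversallyInjective (pullback.fst pV (sp (algebraMap k L))) :=
    MorphismProperty.of_isPullback sq.flip h1
  have h5 : IsIntegralHom (pullback.fst pV (sp (algebraMap k L))) :=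
    MorphismProperty.of_isPullback sq.flip h2
  have h6 : Surjective (pullback.fst pV (sp (algebraMap k L))) :=
    MorphismProperty.of_isPullback sq.flip h3
  exact connectedSpace_of_integral (pullback.fst pV (sp (algebraMap k L)))

theorem prop_pb {S X Y : Scheme.{u}} (pX : X ⟶ S) (pY : Y ⟶ S) (X' : FEt.Cat X) (Y' : FEt.Cat Y) :
    FEt.prop (pb (p := pX) (t := pY) X'.hom Y'.hom rfl rfl) := by
  rw [← pb_comp (g' := X'.hom) (g := 𝟙 X) (h' := 𝟙 _) (h := Y'.hom) rfl
    (Category.id_comp (Y'.hom ≫ pY)) (Category.id_comp pX) rfl (Category.comp_id _)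
    (Category.id_comp _)]
  refine MorphismProperty.comp_mem _ _ _ ?_ ?_
  · exact MorphismProperty.of_isPullback (isPullback_pb_left X'.hom rfl
      (Category.id_comp (Y'.hom ≫ pY))).flip X'.prop
  · exact MorphismProperty.of_isPullback (isPullback_pb_right Y'.hom (Category.id_comp pX)
      rfl).flip Y'.prop

/-- Domination by products. -/
theorem main (hens : Groth.Agent.Pi1.H385.T2aGeom.HensStmt.{u}) (k : Type u) [Field k]
    [IsSepClosed k] {X Y : Scheme.{u}}
    (pX : X ⟶ Spec (CommRingCat.of k)) (pY : Y ⟶ Spec (CommRingCat.of k))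
    [LocallyOfFiniteType pX] [QuasiCompact pX] [LocallyOfFiniteType pY] [QuasiCompact pY]
    [ConnectedSpace X] [ConnectedSpace Y]
    (hx : ∃ x : Spec (CommRingCat.of k) ⟶ X, x ≫ pX = 𝟙 _)
    (hy : ∃ y : Spec (CommRingCat.of k) ⟶ Y, y ≫ pY = 𝟙 _)
    (W : FEt.Cat (pullback pX pY)) (hW : PiSp.IsGaloisCover W)
    (hp : IsUnit ((Nat.card (Aut W) : ℕ) : k)) :
    ∃ (X' : FEt.Cat X) (Y' : FEt.Cat Y) (φ : pullback (X'.hom ≫ pX) (Y'.hom ≫ pY) ⟶ W.left),
      φ ≫ W.hom = pullback.map (X'.hom ≫ pX) (Y'.hom ≫ pY) pX pY X'.hom Y'.hom (𝟙 _)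
        (Category.comp_id _) (Category.comp_id _) ∧ Surjective φ := by
  obtain ⟨x, hx⟩ := hx
  obtain ⟨y, hy⟩ := hy
  let ka := AlgebraicClosure k
  have hka : IsPurelyInseparable k ka := inferInstance
  let Xa := pullback pX (sp (algebraMap k ka))
  let Ya := pullback pY (sp (algebraMap k ka))
  let pXa : Xa ⟶ Spec (CommRingCat.of ka) := pullback.snd _ _
  let pYa : Ya ⟶ Spec (CommRingCat.of ka) := pullback.snd _ _
  have hXa : ConnectedSpace Xa := connectedSpace_sep pX
  have hYa : ConnectedSpace Ya := connectedSpace_sep pY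
  let n : pullback pXa pYa ⟶ pullback pX pY := pullback.map pXa pYa pX pY
    (pullback.fst pX (sp _)) (pullback.fst pY (sp _)) (sp _) pullback.condition.symm
      pullback.condition.symm
  have sqn := isPullback_prod (algebraMap k ka) pX pY
  have hn1 : Surjective n := MorphismProperty.of_isPullback sqn.flip
    (Groth.Agent.Pi1B.PurInsepSpec.surjective_specMap k ka)
  have hZa : ConnectedSpace ↥(pullback pXa pYa) := connectedSpace_pullback _ _
  have hZ : ConnectedSpace ↥(pullback pX pY) := hn1.surj.connectedSpace n.continuous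
  have hn2 : (FEt.restrict n).IsEquivalence :=
    Groth.Agent.Pi1.H416.SepField.isEquivalence_of_isPullback sqn
      (Groth.Agent.Pi1.H416.SepField.restrict_isEquivalence_of_isPurelyInseparable k ka _)
  have hWc : ConnectedSpace W.left := hW.1
  have hfin : Finite (Aut W) := Groth.Agent.Pi1.H414.Gal.finite_aut W
  -- the group, in `Type`
  let G := Shrink.{0} (Aut W)
  let θ : G ≃* Aut W := Shrink.mulEquiv
  have hGfin : Finite G := Finite.of_equiv _ θ.toEquiv.symm
  have hG : IsUnit ((Nat.card G : ℕ) : ka) := by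
    rw [Nat.card_congr θ.toEquiv]
    have h := hp.map (algebraMap k ka)
    rwa [map_natCast] at h
  have hWs : Function.Surjective W.hom := Groth.Agent.Pi1.H383.GalPrinc.surjective_of_nonempty W
  have hprin : SGA1t.IsPrincipal G W θ.toMonoidHom :=
    Groth.Agent.Pi1.H414.Gal.isPrincipal_of_isGaloisCover W hW hWs θ
  -- rational points
  have hpt : ∀ {V : Scheme.{u}} (pV : V ⟶ Spec (CommRingCat.of k))
      (v : Spec (CommRingCat.of k) ⟶ V) (hv : v ≫ pV = 𝟙 _),
      ∃ v' : Spec (CommRingCat.of ka) ⟶ pullback pV (sp (algebraMap k ka)),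
        v' ≫ pullback.snd _ _ = 𝟙 _ := fun pV v hv =>
    ⟨pullback.lift (sp (algebraMap k ka) ≫ v) (𝟙 _) (by
      rw [Category.assoc, hv, Category.comp_id, Category.id_comp]), pullback.lift_snd _ _ _⟩
  obtain ⟨xa, hxa⟩ := hpt pX x hx
  obtain ⟨ya, hya⟩ := hpt pY y hy
  obtain ⟨Xa', Ya', ⟨xa'⟩, ⟨ya'⟩, hl⟩ := exists_dom hens pXa pYa ((FEt.restrict n).obj W) hG _
    (Groth.Agent.Pi1.H408.PrincRestrict.isPrincipal_restrict n W _ hprin) xa hxa ya hya
  -- descent of the covers
  let aX : Xa ⟶ X := pullback.fst _ _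
  let aY : Ya ⟶ Y := pullback.fst _ _
  have eX : (FEt.restrict aX).IsEquivalence :=
    Groth.Agent.Pi1.H416.SepField.restrict_isEquivalence_of_isPurelyInseparable k ka pX
  have eY : (FEt.restrict aY).IsEquivalence :=
    Groth.Agent.Pi1.H416.SepField.restrict_isEquivalence_of_isPurelyInseparable k ka pY
  let X' : FEt.Cat X := (FEt.restrict aX).objPreimage Xa'
  let Y' : FEt.Cat Y := (FEt.restrict aY).objPreimage Ya'
  let iX : (FEt.restrict aX).obj X' ≅ Xa' := (FEt.restrict aX).objObjPreimageIso Xa'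
  let iY : (FEt.restrict aY).obj Y' ≅ Ya' := (FEt.restrict aY).objObjPreimageIso Ya'
  have hX' : Nonempty ↥((𝟭 Scheme).obj X'.left) :=
    ⟨(iX.inv.left ≫ pullback.fst X'.hom aX) xa'⟩
  have hY' : Nonempty ↥((𝟭 Scheme).obj Y'.left) :=
    ⟨(iY.inv.left ≫ pullback.fst Y'.hom aY) ya'⟩
  let E : FEt.Cat (pullback pX pY) := MorphismProperty.Over.mk ⊤
    (pb (p := pX) (t := pY) X'.hom Y'.hom rfl rfl) (prop_pb pX pY X' Y')
  have hne : Nonempty ↥(pullback (X'.hom ≫ pX) (Y'.hom ≫ pY)) := nonempty_pullback _ _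
  let m : pullback (X'.hom ≫ pX) (Y'.hom ≫ pY) ⟶ pullback pX pY :=
    pb (p := pX) (t := pY) X'.hom Y'.hom rfl rfl
  have hm1 : m ≫ pullback.fst pX pY = pullback.fst _ _ ≫ X'.hom :=
    pb_fst (p := pX) (t := pY) X'.hom Y'.hom rfl rfl
  have hm2 : m ≫ pullback.snd pX pY = pullback.snd _ _ ≫ Y'.hom :=
    pb_snd (p := pX) (t := pY) X'.hom Y'.hom rfl rfl
  have hn1' : n ≫ pullback.fst pX pY = pullback.fst _ _ ≫ aX := pullback.lift_fst _ _ _
  have hn2' : n ≫ pullback.snd pX pY = pullback.snd _ _ ≫ aY := pullback.lift_snd _ _ _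
  have hl' : HasLift ((FEt.restrict n).obj W) (pullback.snd m n) := by
    let rX₀ : pullback m n ⟶ pullback X'.hom aX :=
      pullback.lift (pullback.fst m n ≫ pullback.fst _ _) (pullback.snd m n ≫ pullback.fst _ _)
        (by rw [Category.assoc, ← hm1, Category.assoc, ← hn1', pullback.condition_assoc])
    let rY₀ : pullback m n ⟶ pullback Y'.hom aY :=
      pullback.lift (pullback.fst m n ≫ pullback.snd _ _) (pullback.snd m n ≫ pullback.snd _ _)
        (by rw [Category.assoc, ← hm2, Category.assoc, ← hn2', pullback.condition_assoc])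
    let rX : pullback m n ⟶ Xa'.left := rX₀ ≫ iX.hom.left
    let rY : pullback m n ⟶ Ya'.left := rY₀ ≫ iY.hom.left
    have hrX : rX ≫ Xa'.hom = pullback.snd m n ≫ pullback.fst _ _ :=
      (Category.assoc _ _ _).trans ((congrArg (rX₀ ≫ ·) (MorphismProperty.Over.w iX.hom)).trans
        (pullback.lift_snd _ _ _))
    have hrY : rY ≫ Ya'.hom = pullback.snd m n ≫ pullback.snd _ _ :=
      (Category.assoc _ _ _).trans ((congrArg (rY₀ ≫ ·) (MorphismProperty.Over.w iY.hom)).trans
        (pullback.lift_snd _ _ _))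
    refine hl.comp' (pullback.lift rX rY ?_) ?_
    · rw [reassoc_of% hrX, reassoc_of% hrY, pullback.condition]
    · apply pullback.hom_ext
      · rw [Category.assoc, pb_fst, pullback.lift_fst_assoc, hrX]
      · rw [Category.assoc, pb_snd, pullback.lift_snd_assoc, hrY]
  obtain ⟨s, hs⟩ := hl'
  let α' : (FEt.restrict n).obj E ⟶ (FEt.restrict n).obj W :=
    MorphismProperty.Over.homMk (A := (FEt.restrict n).obj E) (B := (FEt.restrict n).obj W) s
      hs trivial
  let α : E ⟶ W := (FEt.restrict n).preimage α'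
  refine ⟨X', Y', α.left, ?_, ?_⟩
  · refine (MorphismProperty.Over.w α).trans ?_
    apply pullback.hom_ext
    · exact hm1.trans (pullback.lift_fst _ _ _).symm
    · exact hm2.trans (pullback.lift_snd _ _ _).symm
  · have h1 : IsFinite α.left := (Groth.Agent.Pi1B.FEtPreGalois.prop_left α).1
    have h2 : Etale α.left := (Groth.Agent.Pi1B.FEtPreGalois.prop_left α).2
    have hne' : Nonempty E.left := hne
    refine ⟨Set.range_eq_univ.mp (IsClopen.eq_univ ⟨α.left.isClosedMap.isClosed_range,
      α.left.isOpenMap.isOpen_range⟩ (Set.range_nonempty _))⟩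

end K157.KunnethMain
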