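import Groth.Agent.Pi1.K157.Lift
import Groth.Agent.Pi1.H383.GalDesc

/-!
# Lifts over an algebraic extension exist over a finite subextension
-/

set_option autoImplicit false
set_option linter.dupNamespace false

universe u

open CategoryTheory CategoryTheory.Limits AlgebraicGeometry

namespace K157.Level

open K157.Lift Groth.Agent.Pi1.H383.GalDesc Groth.Agent.Pi1B

theorem exists_level (A K Ω : Type u) [CommRing A] [Field K] [Algebra A K] [Field Ω]
    [Algebra K Ω] [Algebra A Ω] [IsScalarTower A K Ω] [Algebra.IsAlgebraic K Ω] {X : Scheme.{u}}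
    (f : X ⟶ Spec (CommRingCat.of A)) [QuasiCompact f] [QuasiSeparated f] (P : FEt.Cat X)
    (h : HasLift P (pullback.fst f (sp A Ω))) :
    ∃ (L : IntermediateField K Ω), FiniteDimensional K L ∧
      HasLift P (pullback.fst f (sp A L)) := by
  obtain ⟨s, hs⟩ := h
  have h1 : Etale P.hom := P.prop.2
  let c := coneA A K Ω f
  let s' : c.pt ⟶ P.left := s
  obtain ⟨F, g, -, hg⟩ := Scheme.exists_π_app_comp_eq_of_locallyOfFinitePresentation
    (D := diagA A K Ω f) (c := c) (hc := isLimitConeA A K Ω f)
    (t := LimPull.pullFst (Groth.Agent.Pi1B.LimField.specFunctor K Ω) (specBaseA A K Ω) f)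
    (f := P.hom) s' (by
      apply NatTrans.ext
      funext F
      exact (LimPull.pullCone_fst (specBaseA A K Ω) f (Groth.Agent.Pi1B.LimField.specCone K Ω)
        (sp A Ω) (specCone_strA A K Ω) (IsPullback.of_hasPullback f (sp A Ω)) F).trans hs.symm)
  exact ⟨F.unop.1, F.unop.2, g, hg⟩

end K157.Level
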