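import Groth.Agent.Pi1.K157.SmoothT1
import Groth.Agent.Pi1.K157.Level
import Groth.Agent.Ega2.Normal
import Groth.Agent.Variety.K418.NormalStalk
import Groth.Agent.Etrest.IntHens
import Groth.Agent.Fdesc.GeomRed
import Groth.Agent.Pi1.H390.T1UFF

/-!
# Extension of trivializations over normal varieties
-/

set_option autoImplicit false
set_option linter.dupNamespace false

universe u

open CategoryTheory CategoryTheory.Limits AlgebraicGeometry IsLocalRing

namespace K157.NormalExt

open K157.CurveA K157.Lift K157.SmoothT1 Groth.Agent.Pi1A.FEtAffine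

/-- Henselian discrete valuation rings with algebraically closed residue field. -/
structure Trait : Type (u + 1) where
  R : Type u
  [cr : CommRing R]
  [dom : IsDomain R]
  [dvr : IsDiscreteValuationRing R]
  [hens : HenselianLocalRing R]
  [ac : IsAlgClosed (ResidueField R)]

attribute [instance] Trait.cr Trait.dom Trait.dvr Trait.hens Trait.ac

/-- The product of normal schemes over a perfect field is normal. -/
theorem isNormalScheme_pullback {k : Type u} [Field k] [PerfectField k] {X Y : Scheme.{u}}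
    (p : X ⟶ Spec (CommRingCat.of k)) (q : Y ⟶ Spec (CommRingCat.of k))
    (hX : Pi1.IsNormalScheme X) (hY : Pi1.IsNormalScheme Y) :
    Pi1.IsNormalScheme (pullback p q) := by
  let _ : X.Over (Spec (CommRingCat.of k)) := ⟨p⟩
  let _ : Y.Over (Spec (CommRingCat.of k)) := ⟨q⟩
  exact K418.NormalStalk.isNormalScheme_pullback k X Y
    (fun K _ _ =>
      have := Groth.Agent.Fdesc.GeomRed.isGeometricallyReduced_of_perfectField (k := k) K
      K418.NormalStalk.isNormalScheme_bc_of_separable k X hX K) hY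

theorem isNormalScheme_pullback_trait {k : Type u} [Field k] [PerfectField k] {X : Scheme.{u}}
    (p : X ⟶ Spec (CommRingCat.of k)) (hX : Pi1.IsNormalScheme X) (A : Trait.{u})
    (φ : k →+* A.R) : Pi1.IsNormalScheme (pullback p (sp φ)) :=
  isNormalScheme_pullback p (sp φ) hX
    (Groth.Agent.Pi1.H385.T2aGeom.isNormalScheme_spec A.R)

theorem isIntegral_pullback_trait {k : Type u} [Field k] [IsAlgClosed k] {X : Scheme.{u}}
    (p : X ⟶ Spec (CommRingCat.of k)) [LocallyOfFiniteType p] [ConnectedSpace X]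
    (hX : Pi1.IsNormalScheme X) (A : Trait.{u}) (φ : k →+* A.R) :
    IsIntegral (pullback p (sp φ)) := by
  have hgc : GeometricallyConnected p := Groth.Agent.S2501.result p
  have hN : IsLocallyNoetherian (pullback p (sp φ)) :=
    LocallyOfFiniteType.isLocallyNoetherian (pullback.snd p (sp φ))
  rw [Groth.Agent.Ega1.GenPts.isIntegral_iff]
  have : ConnectedSpace ↥(Spec (CommRingCat.of A.R)) := inferInstance
  exact ⟨inferInstance, fun x => (isNormalScheme_pullback_trait p hX A φ x).1⟩

/-- Lifts descend along `m` if restriction along `m` is full. -/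
theorem hasLift_of_full {S T : Scheme.{u}} (m : T ⟶ S) [(FEt.restrict m).Full] (Q : FEt.Cat S)
    (h : HasLift Q m) : HasLift Q (𝟙 S) := by
  let I : FEt.Cat S := MorphismProperty.Over.mk ⊤ (𝟙 S) (MorphismProperty.id_mem _ S)
  obtain ⟨s, hs⟩ := h
  have hc : (pullback.snd I.hom m ≫ s) ≫ Q.hom = pullback.snd I.hom m ≫ m := by
    rw [Category.assoc, hs]
  let g : (FEt.restrict m).obj I ⟶ (FEt.restrict m).obj Q :=
    MorphismProperty.Over.homMk (pullback.lift (pullback.snd I.hom m ≫ s) (pullback.snd I.hom m) hc)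
      (pullback.lift_snd _ _ _)
  let g' := (FEt.restrict m).preimage g
  exact ⟨g'.left, MorphismProperty.Over.w g'⟩

/-- Lifts over a nonempty open subscheme of a normal integral scheme extend. -/
theorem hasLift_of_open {S T : Scheme.{u}} [IsIntegral S] (hS : Pi1.IsNormalScheme S) (j : T ⟶ S)
    [IsOpenImmersion j] [Nonempty T] (Q : FEt.Cat S) (h : HasLift Q j) : HasLift Q (𝟙 S) := by
  obtain ⟨s, hs⟩ := h
  have h1 : IsFinite Q.hom := Q.prop.1
  obtain ⟨t⟩ := ‹Nonempty T›
  obtain ⟨s', hs', -⟩ := Groth.Agent.Ega2.Normal.exists_section_extending hS Q.hom j.opensRange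
    ⟨j t, t, rfl⟩ (j.isoOpensRange.inv ≫ s) (by
      rw [Category.assoc, hs]
      exact j.isoOpensRange_inv_comp)
  exact ⟨s', hs'⟩

variable {k : Type u} [Field k]

/-- There is a lift over an extension of the trait. -/
def ExtLift {X : Scheme.{u}} (p : X ⟶ Spec (CommRingCat.of k)) (A : Trait.{u}) (φ : k →+* A.R)
    (P : FEt.Cat (pullback p (sp φ))) : Prop :=
  ∃ (B : Trait.{u}) (χ : A.R →+* B.R), Function.Injective χ ∧ IsLocalHom χ ∧
    HasLift P (bc p φ χ)

lemma hasLift_bc {C : Scheme.{u}} (c : C ⟶ Spec (CommRingCat.of k)) {R S : Type u} [CommRing R]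
    [CommRing S] (φ : k →+* R) (ψ : R →+* S) (P : FEt.Cat (pullback c (sp φ))) :
    HasLift P (bc c φ ψ) ↔ HasLift P (pullback.fst (pullback.snd c (sp φ)) (sp ψ)) := by
  have sq := isPullback_bc c φ ψ
  constructor
  · intro h
    exact h.comp' (sq.isoPullback.inv) sq.isoPullback_inv_fst
  · intro h
    exact h.comp' (sq.isoPullback.hom) sq.isoPullback_hom_fst

/-- Descent of a lift from an algebraically closed field to the integral closure in a finite
extension. -/
theorem exists_finite {C : Scheme.{u}} (c : C ⟶ Spec (CommRingCat.of k)) [QuasiCompact c]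
    [QuasiSeparated c] (A : Trait.{u}) (φ : k →+* A.R) (P : FEt.Cat (pullback c (sp φ)))
    (Ω : Type u) [Field Ω] [IsAlgClosed Ω] (ψ : A.R →+* Ω) (hψ : Function.Injective ψ)
    (h : HasLift P (bc c φ ψ)) :
    ∃ (B : Trait.{u}) (χ : A.R →+* B.R) (L : Type u) (_ : Field L) (_ : Algebra B.R L),
      IsFractionRing B.R L ∧ Function.Injective χ ∧ IsLocalHom χ ∧
        HasLift P (bc c φ ((algebraMap B.R L).comp χ)) := by
  let K := FractionRing A.R
  let Ω₁ := AlgebraicClosure K
  obtain ⟨i, hi⟩ : ∃ i : Ω₁ →+* Ω, i.comp (algebraMap A.R Ω₁) = ψ := by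
    let ψK : K →+* Ω := IsFractionRing.lift hψ
    let _ : Algebra K Ω := ψK.toAlgebra
    let i : Ω₁ →ₐ[K] Ω := IsAlgClosed.lift
    refine ⟨i.toRingHom, ?_⟩
    ext a
    change i (algebraMap A.R Ω₁ a) = ψ a
    rw [IsScalarTower.algebraMap_apply A.R K Ω₁, AlgHom.commutes]
    exact IsFractionRing.lift_algebraMap hψ a
  subst hi
  let φ₁ : k →+* Ω₁ := (algebraMap A.R Ω₁).comp φ
  have h1 : HasLift P (bc c φ (algebraMap A.R Ω₁)) := by
    let m : pullback c (sp (i.comp φ₁)) ⟶ pullback c (sp φ₁) := bc c φ₁ i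
    have hfull : (FEt.restrict m).Full := (Groth.Agent.Pi1.H390.T1UFF.fullyFaithful i
      (isPullback_bc c φ₁ i)).1
    have h2 : HasLift ((FEt.restrict (bc c φ (algebraMap A.R Ω₁))).obj P) m := by
      rw [hasLift_restrict_iff]
      have h3 : m ≫ bc c φ (algebraMap A.R Ω₁) = bc c φ (i.comp (algebraMap A.R Ω₁)) := by
        apply pullback.hom_ext
        · simp [m, bc]
        · simp only [m, bc, Category.assoc, Groth.Agent.Pi1.H382.PullMap.pm_snd,
            Groth.Agent.Pi1.H382.PullMap.pm_snd_assoc, sp_comp]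
      rw [h3]
      exact h
    have h4 := hasLift_of_full m _ h2
    rwa [hasLift_restrict_iff, Category.id_comp] at h4
  rw [hasLift_bc] at h1
  obtain ⟨L, hL, h2⟩ := K157.Level.exists_level A.R K Ω₁ (pullback.snd c (sp φ)) P h1
  have h3 : HasLift P (bc c φ (algebraMap A.R L)) := (hasLift_bc c φ (algebraMap A.R L) P).mpr h2
  have i1 : IsDiscreteValuationRing (integralClosure A.R L) :=
    Groth.Agent.Pi1.H382.DvrExt.isDiscreteValuationRing A.R K L
  have i2 : HenselianLocalRing (integralClosure A.R L) :=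
    Groth.Agent.Etrest.IntHens.henselianLocalRing_of_isIntegral A.R (integralClosure A.R L)
  have hinj : Function.Injective (algebraMap A.R (integralClosure A.R L)) :=
    Groth.Agent.Pi1.H382.DvrExt.injective_algebraMap_integralClosure A.R K L
  have i3 : IsLocalHom (algebraMap A.R (integralClosure A.R L)) :=
    (algebraMap_isIntegral_iff.mpr inferInstance).isLocalHom hinj
  have hb := Groth.Agent.Pi1.H382.Spread.bijective_residueField A.R (integralClosure A.R L)
  have hac : IsAlgClosed (ResidueField (integralClosure A.R L)) :=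
    IsAlgClosed.of_ringEquiv _ _ (RingEquiv.ofBijective _ hb)
  have i4 : IsFractionRing (integralClosure A.R L) L :=
    Groth.Agent.Pi1.H382.DvrExt.isFractionRing A.R K L
  exact ⟨⟨integralClosure A.R L⟩, algebraMap A.R (integralClosure A.R L), L, inferInstance,
    inferInstance, i4, hinj, i3, h3⟩

lemma bc_bc {C : Scheme.{u}} (c : C ⟶ Spec (CommRingCat.of k)) {R S T : Type u} [CommRing R]
    [CommRing S] [CommRing T] (φ : k →+* R) (χ : R →+* S) (ψ : S →+* T) :
    bc c (χ.comp φ) ψ ≫ bc c φ χ = bc c φ (ψ.comp χ) := by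
  apply pullback.hom_ext
  · simp [bc]
  · simp only [bc, Category.assoc, Groth.Agent.Pi1.H382.PullMap.pm_snd,
      Groth.Agent.Pi1.H382.PullMap.pm_snd_assoc, sp_comp]

/-- A lift over a nonempty open subscheme of a geometric generic fibre extends, after extension of
the trait. -/
theorem extLift_of_open [IsAlgClosed k] {X : Scheme.{u}} (p : X ⟶ Spec (CommRingCat.of k))
    [LocallyOfFiniteType p] [ConnectedSpace X] (hX : Pi1.IsNormalScheme X) {C : Scheme.{u}}
    (b : C ⟶ X) [IsOpenImmersion b] [Nonempty C] [QuasiCompact (b ≫ p)] [QuasiSeparated (b ≫ p)]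
    (A : Trait.{u}) (φ : k →+* A.R) (P : FEt.Cat (pullback p (sp φ)))
    (Ω : Type u) [Field Ω] [IsAlgClosed Ω] (ψ : A.R →+* Ω) (hψ : Function.Injective ψ)
    (h : HasLift P (cm b p (sp (ψ.comp φ)) ≫ bc p φ ψ)) : ExtLift p A φ P := by
  have h0 : HasLift ((FEt.restrict (cm b p (sp φ))).obj P) (bc (b ≫ p) φ ψ) := by
    rw [hasLift_restrict_iff, bc_cm]
    exact h
  obtain ⟨B, χ, L, _, _, hfr, hinj, hloc, h1⟩ := exists_finite (b ≫ p) A φ _ Ω ψ hψ h0
  refine ⟨B, χ, hinj, hloc, ?_⟩
  let lam := algebraMap B.R L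
  rw [hasLift_restrict_iff, ← bc_bc (b ≫ p) φ χ lam, Category.assoc, bc_cm] at h1
  have h2 : bc (b ≫ p) (χ.comp φ) lam ≫ cm b p (sp (χ.comp φ)) ≫ bc p φ χ =
      (cm b p (sp (lam.comp (χ.comp φ))) ≫ bc p (χ.comp φ) lam) ≫ bc p φ χ := by
    rw [← Category.assoc, bc_cm]
  rw [h2] at h1
  have hI := isIntegral_pullback_trait p hX B (χ.comp φ)
  have hN := isNormalScheme_pullback_trait p hX B (χ.comp φ)
  have ho1 : IsOpenImmersion (cm b p (sp (lam.comp (χ.comp φ)))) :=
    MorphismProperty.of_isPullback (isPullback_cm b p (sp (lam.comp (χ.comp φ)))).flip inferInstance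
  have ho2 : IsOpenImmersion (bc p (χ.comp φ) lam) :=
    Groth.Agent.Pi1.H382.Abh.isOpenImmersion_generic (isPullback_bc p (χ.comp φ) lam)
  have hne : Nonempty ↥(pullback (b ≫ p) (sp (lam.comp (χ.comp φ)))) := by
    obtain ⟨c⟩ := ‹Nonempty C›
    obtain ⟨z, -, -⟩ := Scheme.Pullback.exists_preimage_pullback (f := b ≫ p)
      (g := sp (lam.comp (χ.comp φ))) c (⊥ : PrimeSpectrum L)
      (Subsingleton.elim (α := PrimeSpectrum k) _ _)
    exact ⟨z⟩
  have h3 : HasLift ((FEt.restrict (bc p φ χ)).obj P)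
      (cm b p (sp (lam.comp (χ.comp φ))) ≫ bc p (χ.comp φ) lam) := by
    rw [hasLift_restrict_iff]
    exact h1
  have h4 := hasLift_of_open hN _ _ h3
  rwa [hasLift_restrict_iff, Category.id_comp] at h4

/-- Covers trivial over the geometric generic fibre are trivial over an extension of the trait. -/
theorem t2_normal [IsAlgClosed k] {X : Scheme.{u}} (p : X ⟶ Spec (CommRingCat.of k))
    [LocallyOfFiniteType p] [ConnectedSpace X] (hX : Pi1.IsNormalScheme X)
    (A : Trait.{u}) (φ : k →+* A.R) (P : FEt.Cat (pullback p (sp φ)))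
    (Ω : Type u) [Field Ω] [IsAlgClosed Ω] (ψ : A.R →+* Ω) (hψ : Function.Injective ψ)
    (h : HasLift P (bc p φ ψ)) : ExtLift p A φ P := by
  obtain ⟨x⟩ : Nonempty X := inferInstance
  obtain ⟨_, ⟨U, hU, rfl⟩, hxU, -⟩ :=
    X.isBasis_affineOpens.exists_subset_of_mem_open (Set.mem_univ x) isOpen_univ
  have hUne : Nonempty U := ⟨⟨x, hxU⟩⟩
  have hne : Nonempty ↥(Spec Γ(X, U)) := by
    have h1 : x ∈ Set.range hU.fromSpec := by rw [hU.range_fromSpec]; exact hxU
    obtain ⟨y, -⟩ := h1
    exact ⟨y⟩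
  exact extLift_of_open p hX hU.fromSpec A φ P Ω ψ hψ (h.comp _)

theorem t1_spec (hens : Groth.Agent.Pi1.H385.T2aGeom.HensStmt.{u}) [IsAlgClosed k]
    {R : CommRingCat.{u}} [IsDomain R] (c : Spec R ⟶ Spec (CommRingCat.of k)) [Smooth c]
    (A : Trait.{u}) (φ : k →+* A.R) {G : Type} [Group G] [Finite G]
    (hG : IsUnit ((Nat.card G : ℕ) : k)) (P : FEt.Cat (pullback c (sp φ)))
    (ρ : G →* Aut P) (hP : SGA1t.IsPrincipal G P ρ)
    (h : HasLift P (bc c φ (residue A.R)))
    (Ω : Type u) [Field Ω] [IsAlgClosed Ω] (ψ : A.R →+* Ω) :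
    HasLift P (bc c φ ψ) := by
  obtain ⟨θ, rfl⟩ := Spec.map_surjective c
  let _ : Algebra k R := θ.hom.toAlgebra
  have hft : Algebra.FiniteType k R := by
    have h1 : LocallyOfFiniteType (Spec.map θ) := inferInstance
    rw [HasRingHomProperty.Spec_iff (P := @LocallyOfFiniteType)] at h1
    exact h1
  have hsm : Smooth (sp (algebraMap k R)) := ‹Smooth (Spec.map θ)›
  exact t1_affine hens (R := R) A.R φ hG P ρ hP h Ω ψ

/-- Covers trivial over the closed fibre are trivial over an extension of the trait. -/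
theorem t1_normal (hens : Groth.Agent.Pi1.H385.T2aGeom.HensStmt.{u}) [IsAlgClosed k]
    {X : Scheme.{u}} (p : X ⟶ Spec (CommRingCat.of k))
    [LocallyOfFiniteType p] [IsIntegral X] (hX : Pi1.IsNormalScheme X)
    (A : Trait.{u}) (φ : k →+* A.R) {G : Type} [Group G] [Finite G]
    (hG : IsUnit ((Nat.card G : ℕ) : k)) (P : FEt.Cat (pullback p (sp φ)))
    (ρ : G →* Aut P) (hP : SGA1t.IsPrincipal G P ρ)
    (h : HasLift P (bc p φ (residue A.R))) : ExtLift p A φ P := by
  have hlfp : LocallyOfFinitePresentation p := inferInstance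
  obtain ⟨x, hx⟩ : ∃ x, x ∈ p.smoothLocus :=
    ⟨_, Scheme.Hom.genericPoint_mem_smoothLocus_of_perfectField p⟩
  obtain ⟨_, ⟨U, hU, rfl⟩, hxU, hUs⟩ :=
    X.isBasis_affineOpens.exists_subset_of_mem_open hx p.smoothLocus.isOpen
  have hUne : Nonempty U := ⟨⟨x, hxU⟩⟩
  have hne : Nonempty ↥(Spec Γ(X, U)) := by
    have h1 : x ∈ Set.range hU.fromSpec := by rw [hU.range_fromSpec]; exact hxU
    obtain ⟨y, -⟩ := h1
    exact ⟨y⟩
  let b := hU.fromSpec
  have hsm : Smooth (b ≫ p) := by
    rw [← Scheme.Hom.smoothLocus_eq_top_iff, ← Scheme.Hom.preimage_smoothLocus_eq, eq_top_iff]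
    intro y _
    apply hUs
    rw [← hU.range_fromSpec]
    exact ⟨y, rfl⟩
  let Ω := AlgebraicClosure (FractionRing A.R)
  let ψ : A.R →+* Ω := algebraMap A.R Ω
  have hψ : Function.Injective ψ :=
    (algebraMap (FractionRing A.R) Ω).injective.comp (IsFractionRing.injective A.R _)
  refine extLift_of_open p hX b A φ P Ω ψ hψ ?_
  rw [← bc_cm, ← hasLift_restrict_iff]
  refine t1_spec hens (b ≫ p) A φ hG _ _
    (Groth.Agent.Pi1.H408.PrincRestrict.isPrincipal_restrict (cm b p (sp φ)) P ρ hP) ?_ Ω ψ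
  rw [hasLift_restrict_iff, bc_cm]
  exact h.comp _

end K157.NormalExt
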