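import Mathlib.FieldTheory.IntermediateField.Adjoin.Basic
import Mathlib.FieldTheory.IsAlgClosed.Basic
import Mathlib.LinearAlgebra.Lagrange
import Mathlib.RingTheory.AlgebraicIndependent.AlgebraicClosure
import Mathlib.FieldTheory.IntermediateField.Adjoin.Algebra

/-!
# Algebraic elements in simple transcendental extensions

`Ω` algebraically closed, `M/Ω` a field extension, `v` transcendental over `M`. An element of `M(v)` which is
algebraic over `Ω(v)` lies in `Ω(v)`.
-/

set_option autoImplicit false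

open Polynomial

namespace K157.RatAlg

variable {Ω : Type*} [Field Ω] [IsAlgClosed Ω] {M : Type*} [Field M] [Algebra Ω M]

theorem mem_range_of_isAlgebraic {x : M} (hx : IsAlgebraic Ω x) : x ∈ Set.range (algebraMap Ω M) := by
  have h1 : (minpoly Ω x).degree = 1 :=
    IsAlgClosed.degree_eq_one_of_irreducible Ω (minpoly.irreducible hx.isIntegral)
  exact minpoly.mem_range_of_degree_eq_one Ω x h1

omit [IsAlgClosed Ω] in
/-- A polynomial over `M` with values in `Ω` at infinitely many points of `Ω` has coefficients in `Ω`. -/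
theorem exists_map_of_infinite (a : M[X]) (S : Set Ω) (hS : S.Infinite)
    (h : ∀ t ∈ S, a.eval (algebraMap Ω M t) ∈ Set.range (algebraMap Ω M)) :
    ∃ a₀ : Ω[X], a = a₀.map (algebraMap Ω M) := by
  classical
  obtain ⟨T, hTS, hT⟩ := hS.exists_subset_card_eq (a.natDegree + 1)
  choose! r hr using h
  let a₀ : Ω[X] := Lagrange.interpolate T id r
  refine ⟨a₀, ?_⟩
  have hinj : Function.Injective (algebraMap Ω M) := (algebraMap Ω M).injective
  have hd : a₀.degree < (a.natDegree + 1 : ℕ) := by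
    have := Lagrange.degree_interpolate_lt (s := T) (v := id) r Function.injective_id.injOn
    rwa [hT] at this
  have hd' : (a₀.map (algebraMap Ω M)).degree < (a.natDegree + 1 : ℕ) :=
    lt_of_le_of_lt degree_map_le hd
  have ha : a.degree < (a.natDegree + 1 : ℕ) := by
    refine lt_of_le_of_lt degree_le_natDegree ?_
    exact_mod_cast Nat.lt_succ_self _
  refine Polynomial.eq_of_degrees_lt_of_eval_finset_eq (T.image (algebraMap Ω M)) ?_ ?_ ?_
  · rw [Finset.card_image_of_injective _ hinj, hT]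
    exact ha
  · rw [Finset.card_image_of_injective _ hinj, hT]
    exact hd'
  · intro y hy
    obtain ⟨t, ht, rfl⟩ := Finset.mem_image.mp hy
    rw [← hr t (hTS ht), eval_map_algebraMap, aeval_algebraMap_apply]
    congr 1
    have := Lagrange.eval_interpolate_at_node (s := T) (v := id) r Function.injective_id.injOn ht
    exact this.symm

/-- A monic divisor over `M` of a polynomial over `Ω` is defined over `Ω`. -/
theorem exists_map_of_dvd (b : M[X]) (hb : b.Monic) (q : Ω[X]) (hq : q ≠ 0)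
    (h : b ∣ q.map (algebraMap Ω M)) : ∃ b₀ : Ω[X], b = b₀.map (algebraMap Ω M) := by
  have hs : (q.map (algebraMap Ω M)).Splits := (IsAlgClosed.splits q).map _
  have hq' : q.map (algebraMap Ω M) ≠ 0 := by
    rwa [Ne, Polynomial.map_eq_zero]
  have hbs : b.Splits := hs.of_dvd hq' h
  have hroots : ∀ r ∈ b.roots, r ∈ Set.range (algebraMap Ω M) := by
    intro r hr
    have h1 : r ∈ (q.map (algebraMap Ω M)).roots := Multiset.mem_of_le (roots.le_of_dvd hq' h) hr
    rw [← roots_map_of_injective_of_card_eq_natDegree (algebraMap Ω M).injective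
      (IsAlgClosed.splits q).natDegree_eq_card_roots.symm, Multiset.mem_map] at h1
    obtain ⟨t, _, ht⟩ := h1
    exact ⟨t, ht⟩
  choose! s hs' using hroots
  refine ⟨(b.roots.map fun r => X - C (s r)).prod, ?_⟩
  rw [Polynomial.map_multiset_prod, Multiset.map_map]
  rw [hbs.eq_prod_roots_of_monic hb]
  congr 1
  rw [← hbs.eq_prod_roots_of_monic hb]
  refine Multiset.map_congr rfl fun r hr => ?_
  simp [hs' r hr]

section

variable {L : Type*} [Field L] [Algebra M L]

omit [IsAlgClosed Ω] [Algebra Ω M] in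
theorem exists_gcd (a₁ b₁ : M[X]) (hb₁ : b₁ ≠ 0) : ∃ g a b : M[X], a₁ = g * a ∧ b₁ = g * b ∧ g ≠ 0 ∧
    IsCoprime a b := by
  obtain ⟨g, hg'⟩ := (IsPrincipalIdealRing.principal (Ideal.span {a₁, b₁})).principal
  have hg : Ideal.span {a₁, b₁} = Ideal.span {g} := hg'
  have h1 : a₁ ∈ Ideal.span {g} := hg.le (Ideal.subset_span (Set.mem_insert a₁ _))
  have h2 : b₁ ∈ Ideal.span {g} := hg.le (Ideal.subset_span (Set.mem_insert_of_mem a₁ rfl))
  have h3 : g ∈ Ideal.span {a₁, b₁} := hg.ge (Ideal.mem_span_singleton_self g)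
  obtain ⟨a, ha⟩ := Ideal.mem_span_singleton.mp h1
  obtain ⟨b, hb⟩ := Ideal.mem_span_singleton.mp h2
  obtain ⟨r, s, hrs⟩ := Ideal.mem_span_pair.mp h3
  have hg0 : g ≠ 0 := by
    rintro rfl
    rw [zero_mul] at hb
    exact hb₁ hb
  refine ⟨g, a, b, ha, hb, hg0, r, s, ?_⟩
  apply mul_left_cancel₀ hg0
  rw [mul_one]
  conv_rhs => rw [← hrs, ha, hb]
  ring

omit [IsAlgClosed Ω] [Algebra Ω M] in
/-- reduced representation -/
theorem exists_reduced (v : L) (hv : Transcendental M v) (z : L) (a₁ b₁ : M[X]) (hb₁ : b₁ ≠ 0)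
    (hab₁ : z = aeval v a₁ / aeval v b₁) : ∃ a b : M[X], IsCoprime a b ∧ b.Monic ∧
      z = aeval v a / aeval v b := by
  obtain ⟨g, a₂, b₂, h1, h2, hg, hco⟩ := exists_gcd a₁ b₁ hb₁
  have hb2 : b₂ ≠ 0 := by
    intro h
    rw [h, mul_zero] at h2
    exact hb₁ h2
  have hlc : b₂.leadingCoeff ≠ 0 := leadingCoeff_ne_zero.mpr hb2
  have hu : IsUnit (C b₂.leadingCoeff⁻¹ : M[X]) :=
    isUnit_C.mpr (IsUnit.mk0 _ (inv_ne_zero hlc))
  refine ⟨a₂ * C b₂.leadingCoeff⁻¹, b₂ * C b₂.leadingCoeff⁻¹, ?_,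
    monic_mul_leadingCoeff_inv hb2, ?_⟩
  · exact (isCoprime_mul_unit_right hu _ _).mpr hco
  · have hge : aeval v g ≠ 0 := fun h => hg (transcendental_iff.mp hv g h)
    have hce : aeval v (C b₂.leadingCoeff⁻¹ : M[X]) ≠ 0 := by
      rw [aeval_C]
      exact (map_ne_zero_iff _ (algebraMap M L).injective).mpr (inv_ne_zero hlc)
    rw [map_mul, map_mul, mul_div_mul_right _ _ hce, hab₁, h1, h2, map_mul, map_mul,
      mul_div_mul_left _ _ hge]

/-- the denominator -/
theorem denom (q : ℕ → Ω[X]) (n : ℕ) (hqn : q n ≠ 0) (a b : M[X]) (hco : IsCoprime a b)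
    (hbm : b.Monic)
    (hP : ∑ i ∈ Finset.range (n + 1), (q i).map (algebraMap Ω M) * a ^ i * b ^ (n - i) = 0) :
    ∃ b₀ : Ω[X], b = b₀.map (algebraMap Ω M) := by
  refine exists_map_of_dvd b hbm (q n) hqn ?_
  have h1 : b ∣ (q n).map (algebraMap Ω M) * a ^ n := by
    rw [Finset.sum_range_succ, Nat.sub_self, pow_zero, mul_one] at hP
    have h3 : b ∣ ∑ i ∈ Finset.range n, (q i).map (algebraMap Ω M) * a ^ i * b ^ (n - i) := by
      refine Finset.dvd_sum fun i hi => ?_
      have : 0 < n - i := Nat.sub_pos_of_lt (Finset.mem_range.mp hi)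
      exact Dvd.dvd.mul_left (dvd_pow_self b this.ne') _
    exact (dvd_add_right h3).mp (hP ▸ dvd_zero b)
  exact (hco.symm.pow_right (n := n)).dvd_of_dvd_mul_right h1

/-- the numerator -/
theorem numer (q : ℕ → Ω[X]) (n : ℕ) (hqn : q n ≠ 0) (a : M[X]) (b₀ : Ω[X])
    (hP : ∑ i ∈ Finset.range (n + 1), (q i).map (algebraMap Ω M) * a ^ i *
      (b₀.map (algebraMap Ω M)) ^ (n - i) = 0) :
    ∃ a₀ : Ω[X], a = a₀.map (algebraMap Ω M) := by
  classical
  have hinf : {t : Ω | (q n).eval t ≠ 0}.Infinite := by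
    have h1 : {t : Ω | (q n).eval t = 0}.Finite := by
      refine ((q n).roots.toFinset.finite_toSet).subset fun t ht => ?_
      simpa [hqn] using ht
    exact h1.infinite_compl
  refine exists_map_of_infinite a _ hinf fun t ht => ?_
  apply mem_range_of_isAlgebraic
  let R : Ω[X] := ∑ i ∈ Finset.range (n + 1), C ((q i).eval t * (b₀.eval t) ^ (n - i)) * X ^ i
  refine ⟨R, ?_, ?_⟩
  · intro hR
    have h1 : R.coeff n = (q n).eval t := by
      simp only [R, finsetSum_coeff, coeff_C_mul, coeff_X_pow]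
      rw [Finset.sum_eq_single n]
      · simp
      · intro i _ hi
        rw [if_neg hi.symm, mul_zero]
      · intro h
        exact (h (Finset.mem_range.mpr (Nat.lt_succ_self n))).elim
    rw [hR, coeff_zero] at h1
    exact ht h1.symm
  · have h1 := congrArg (Polynomial.eval (algebraMap Ω M t)) hP
    rw [eval_zero, eval_finsetSum] at h1
    rw [← h1, map_sum]
    refine Finset.sum_congr rfl fun i _ => ?_
    rw [map_mul, aeval_C, map_pow, aeval_X, eval_mul, eval_mul, eval_pow, eval_pow,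
      eval_map_algebraMap, eval_map_algebraMap, aeval_algebraMap_apply, aeval_algebraMap_apply,
      map_mul, map_pow]
    simp only [coe_aeval_eq_eval]
    ring

variable [Algebra Ω L] [IsScalarTower Ω M L]

theorem exists_rat (v : L) (hv : Transcendental M v) (z : L) (a₁ b₁ : M[X]) (hb₁ : b₁ ≠ 0)
    (hab₁ : z = aeval v a₁ / aeval v b₁) (q : ℕ → Ω[X]) (n : ℕ) (hqn : q n ≠ 0)
    (hsum : ∑ i ∈ Finset.range (n + 1), aeval v (q i) * z ^ i = 0) :
    ∃ a₀ b₀ : Ω[X], z = aeval v a₀ / aeval v b₀ := by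
  obtain ⟨a, b, hco, hbm, hab⟩ := exists_reduced v hv z a₁ b₁ hb₁ hab₁
  have hbv : aeval v b ≠ 0 := fun h => hbm.ne_zero (transcendental_iff.mp hv b h)
  have hP : ∑ i ∈ Finset.range (n + 1), (q i).map (algebraMap Ω M) * a ^ i * b ^ (n - i) = 0 := by
    refine transcendental_iff.mp hv _ ?_
    have h1 : aeval v (∑ i ∈ Finset.range (n + 1), (q i).map (algebraMap Ω M) * a ^ i *
        b ^ (n - i)) = (aeval v b) ^ n * ∑ i ∈ Finset.range (n + 1), aeval v (q i) * z ^ i := by
      rw [Finset.mul_sum, map_sum]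
      refine Finset.sum_congr rfl fun i hi => ?_
      have hin : i ≤ n := Nat.lt_succ_iff.mp (Finset.mem_range.mp hi)
      rw [map_mul, map_mul, map_pow, map_pow, hab, div_pow, aeval_map_algebraMap]
      have h2 : (aeval v b) ^ n = (aeval v b) ^ (n - i) * (aeval v b) ^ i := by
        rw [← pow_add, Nat.sub_add_cancel hin]
      have h3 : (aeval v b) ^ i ≠ 0 := pow_ne_zero _ hbv
      rw [h2]
      generalize (aeval v b) ^ i = β at *
      generalize (aeval v b) ^ (n - i) = γ at *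
      field_simp
    rw [h1, hsum, mul_zero]
  obtain ⟨b₀, rfl⟩ := denom q n hqn a b hco hbm hP
  obtain ⟨a₀, rfl⟩ := numer q n hqn a b₀ hP
  exact ⟨a₀, b₀, by rw [hab, aeval_map_algebraMap, aeval_map_algebraMap]⟩

end

/-- Elements of `M(v)` algebraic over `Ω(v)` lie in `Ω(v)`. -/
theorem mem_adjoin_of_isAlgebraic {L : Type*} [Field L] [Algebra Ω L] (M : IntermediateField Ω L) (v : L)
    (hv : Transcendental M v) (z : L) (hz : z ∈ IntermediateField.adjoin M {v})
    (hz' : IsAlgebraic (IntermediateField.adjoin Ω {v}) z) : z ∈ IntermediateField.adjoin Ω {v} := by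
  by_cases hz0 : z = 0
  · rw [hz0]; exact zero_mem _
  obtain ⟨a₁, b₁, hab₁⟩ := (IntermediateField.mem_adjoin_simple_iff M z).mp hz
  have hb₁ : b₁ ≠ 0 := by
    rintro rfl
    rw [map_zero, div_zero] at hab₁
    exact hz0 hab₁
  obtain ⟨p, hp0, hp⟩ := IntermediateField.isAlgebraic_adjoin_iff.mp hz'
  have hlift : ∀ i, ∃ q : Ω[X], aeval v q = (p.coeff i : L) := by
    intro i
    have h1 : ∀ y ∈ Algebra.adjoin Ω {v}, ∃ q : Ω[X], aeval v q = y := by
      rw [Algebra.adjoin_singleton_eq_range_aeval]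
      rintro _ ⟨q, rfl⟩
      exact ⟨q, rfl⟩
    exact h1 _ (p.coeff i).2
  choose q hq using hlift
  have hqn : q p.natDegree ≠ 0 := by
    intro h
    have h1 := hq p.natDegree
    rw [h, map_zero] at h1
    exact hp0 (leadingCoeff_eq_zero.mp (Subtype.ext h1.symm))
  have hsum : ∑ i ∈ Finset.range (p.natDegree + 1), aeval v (q i) * z ^ i = 0 := by
    rw [aeval_eq_sum_range] at hp
    rw [← hp]
    refine Finset.sum_congr rfl fun i _ => ?_
    rw [hq]
    rfl
  obtain ⟨a₀, b₀, h⟩ := exists_rat v hv z a₁ b₁ hb₁ hab₁ q _ hqn hsum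
  rw [IntermediateField.mem_adjoin_simple_iff]
  exact ⟨a₀, b₀, h⟩

end K157.RatAlg
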