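import Groth.Agent.Pi1.K157.BertiniCurve
import Groth.Agent.Pi1.H385.ProdCover
import Groth.Agent.Pi1.H408.PrincRestrict
import Groth.Agent.Pi1A.Clopen

/-!
# Specialization of principal covers: smooth affine varieties
-/

set_option autoImplicit false
set_option linter.dupNamespace false

universe u

open CategoryTheory CategoryTheory.Limits AlgebraicGeometry IsLocalRing

namespace K157.SmoothT1

open K157.CurveA K157.Lift Groth.Agent.Pi1A.FEtAffine

/-- A finite étale morphism which becomes a monomorphism with nonempty source is an isomorphism. -/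
theorem isIso_of_mono {E S S' : Scheme.{u}} (z : E ⟶ S) [IsFinite z] [Etale z] [ConnectedSpace S]
    (b : S' ⟶ S) [ConnectedSpace S'] [Nonempty ↥(pullback z b)] [Mono (pullback.snd z b)] :
    IsIso z := by
  let w := pullback.snd z b
  have h1 : Etale w := inferInstance
  have h2 : IsFinite w := inferInstance
  have h3 : IsOpenImmersion w := IsOpenImmersion.of_flat_of_mono w
  have h4 : IsClopen (Set.range w) := ⟨w.isClosedMap.isClosed_range, w.isOpenMap.isOpen_range⟩
  have h5 : Set.range w = Set.univ := h4.eq_univ (Set.range_nonempty w)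
  have h6 : Surjective w := ⟨Set.range_eq_univ.mp h5⟩
  have h7 : IsIso w := (isIso_iff_isOpenImmersion_and_epi_base w).mpr ⟨h3, by
    rw [TopCat.epi_iff_surjective]
    exact h6.surj⟩
  have h8 := Scheme.Hom.finrank_eq_one_of_isIso w
  obtain ⟨s⟩ : Nonempty S' := inferInstance
  have h9 : z.finrank (b s) = 1 := by
    rw [← Scheme.Hom.finrank_pullback_snd z b s]
    exact congrFun h8 s
  have h10 : z.finrank = 1 := by
    ext t
    rw [(Scheme.Hom.isLocallyConstant_finrank (f := z)).apply_eq_of_isPreconnected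
      isPreconnected_univ (Set.mem_univ t) (Set.mem_univ (b s)), h9]
    rfl
  exact (Scheme.Hom.isIso_iff_finrank_eq z).mpr h10

section

variable {X C B T : Scheme.{u}} (b : C ⟶ X) (p : X ⟶ B) (t : T ⟶ B)

/-- The base change of `b : C ⟶ X`. -/
noncomputable def cm : pullback (b ≫ p) t ⟶ pullback p t :=
  pullback.lift (pullback.fst _ _ ≫ b) (pullback.snd _ _) (by
    rw [Category.assoc, pullback.condition])

@[reassoc (attr := simp)]
lemma cm_fst : cm b p t ≫ pullback.fst p t = pullback.fst (b ≫ p) t ≫ b := pullback.lift_fst _ _ _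

@[reassoc (attr := simp)]
lemma cm_snd : cm b p t ≫ pullback.snd p t = pullback.snd (b ≫ p) t := pullback.lift_snd _ _ _

lemma isPullback_cm : IsPullback (cm b p t) (pullback.fst (b ≫ p) t) (pullback.fst p t) b := by
  refine (IsPullback.of_bot (h₃₁ := t) (v₂₁ := pullback.snd p t) (v₂₂ := p) ?_
    (cm_fst b p t).symm (IsPullback.of_hasPullback p t)).flip
  rw [cm_snd]
  exact IsPullback.of_hasPullback (b ≫ p) t

end

lemma bc_cm {R S U : Type u} [CommRing R] [CommRing S] [CommRing U] {X C : Scheme.{u}} (b : C ⟶ X)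
    (p : X ⟶ Spec (CommRingCat.of R)) (φ : R →+* S) (ψ : S →+* U) :
    bc (b ≫ p) φ ψ ≫ cm b p (sp φ) = cm b p (sp (ψ.comp φ)) ≫ bc p φ ψ := by
  apply pullback.hom_ext
  · rw [Category.assoc, cm_fst, Groth.Agent.Pi1.H382.PullMap.pm_fst_assoc, Category.assoc,
      Groth.Agent.Pi1.H382.PullMap.pm_fst, cm_fst]
  · rw [Category.assoc, cm_snd, Groth.Agent.Pi1.H382.PullMap.pm_snd, Category.assoc,
      Groth.Agent.Pi1.H382.PullMap.pm_snd, cm_snd_assoc]

/-- Specialization for smooth affine varieties: a principal cover of `X_A` of order prime to the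
characteristic which is trivial over the closed fibre is trivial over every field valued fibre. -/
theorem t1_affine (hens : Groth.Agent.Pi1.H385.T2aGeom.HensStmt.{u})
    {k : Type u} [Field k] [IsAlgClosed k] {R : Type u} [CommRing R] [IsDomain R] [Algebra k R]
    [Algebra.FiniteType k R] [hsm : Smooth (sp (algebraMap k R))]
    (A : Type u) [CommRing A] [IsDomain A] [IsDiscreteValuationRing A] [HenselianLocalRing A]
    [IsAlgClosed (ResidueField A)] (φ : k →+* A) {G : Type} [Group G] [Finite G]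
    (hG : IsUnit ((Nat.card G : ℕ) : k)) (P : FEt.Cat (pullback (sp (algebraMap k R)) (sp φ)))
    (ρ : G →* Aut P) (hP : SGA1t.IsPrincipal G P ρ)
    (h : HasLift P (bc (sp (algebraMap k R)) φ (residue A)))
    (Ω : Type u) [Field Ω] [IsAlgClosed Ω] (ψ : A →+* Ω) :
    HasLift P (bc (sp (algebraMap k R)) φ ψ) := by
  let p := sp (algebraMap k R)
  have hgc : GeometricallyConnected p := Groth.Agent.S2501.result p
  let XΩ := pullback p (sp (ψ.comp φ))
  have cΩ : ConnectedSpace XΩ := inferInstance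
  let m := bc p φ ψ
  let Q : FEt.Cat XΩ := (FEt.restrict m).obj P
  have hQ := Groth.Agent.Pi1.H408.PrincRestrict.isPrincipal_restrict m P ρ hP
  let q : Q.left ⟶ XΩ := Q.hom
  have hQ1 : IsFinite q := Q.prop.1
  have hQ2 : Etale q := Q.prop.2
  -- a connected component
  have hN : IsLocallyNoetherian XΩ := LocallyOfFiniteType.isLocallyNoetherian (pullback.snd p _)
  have hNQ : IsLocallyNoetherian Q.left := LocallyOfFiniteType.isLocallyNoetherian q
  obtain ⟨x⟩ : Nonempty XΩ := inferInstance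
  obtain ⟨y, -⟩ := hQ.1 x
  obtain ⟨V, hV, -, hVc, -⟩ := Groth.Agent.Pi1.H385.ProdCover.exists_opens
    (Q.left.fromSpecResidueField y)
  have hVι := Groth.Agent.Pi1A.Clopen.prop_ι_of_isClosed V hV
  have hV1 : IsFinite V.ι := hVι.1
  have hV2 : Etale V.ι := hVι.2
  let z : (V : Scheme.{u}) ⟶ XΩ := V.ι ≫ q
  have hz1 : IsFinite z := inferInstance
  have hz2 : Etale z := inferInstance
  have hzs : Surjective z := by
    have h4 : IsClopen (Set.range z) := ⟨z.isClosedMap.isClosed_range, z.isOpenMap.isOpen_range⟩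
    exact ⟨Set.range_eq_univ.mp (h4.eq_univ (Set.range_nonempty z))⟩
  have hVi : IsIntegral (V : Scheme.{u}) := by
    have h5 : Smooth (z ≫ pullback.snd p (sp (ψ.comp φ))) := inferInstance
    exact Groth.Agent.Pi1.H382.Trait.isIntegral_of_smooth (z ≫ pullback.snd p (sp (ψ.comp φ)))
  -- the curve
  obtain ⟨C, c, b, hC, hsmc, hspc, hbc, hT⟩ :=
    K157.BertiniCurve.exists_curve_scheme hens (A := R) (ψ.comp φ) z
  subst hbc
  have hgc' : GeometricallyConnected (b ≫ sp (algebraMap k R)) := Groth.Agent.S2501.result _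
  let mC := cm b p (sp φ)
  have h1 := hspc A φ hG ((FEt.restrict mC).obj P) _
    (Groth.Agent.Pi1.H408.PrincRestrict.isPrincipal_restrict mC P ρ hP) (by
      rw [hasLift_restrict_iff, bc_cm]
      exact h.comp _)
  rw [hasLift_restrict_iff, Category.id_comp] at h1
  obtain ⟨s₀, hs₀⟩ := h1.comp (bc (b ≫ p) φ ψ)
  rw [bc_cm] at hs₀
  let mΩ := cm b p (sp (ψ.comp φ))
  -- the connected fibre product
  have hT' : ConnectedSpace ↥(pullback z mΩ) := by
    have h6 : IsPullback (pullback.fst z mΩ) (pullback.snd z mΩ ≫ pullback.fst _ _)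
        (z ≫ pullback.fst _ _) b :=
      (IsPullback.of_hasPullback z mΩ).paste_vert (isPullback_cm b p (sp (ψ.comp φ)))
    exact h6.isoPullback.hom.homeomorph.connectedSpace_iff.mpr hT
  -- two lifts
  let pr : Q.left ⟶ P.left := proj m P
  have hpr : pr ≫ P.hom = q ≫ m := (isPullback m P).w
  let a₁ : pullback z mΩ ⟶ P.left := pullback.fst z mΩ ≫ V.ι ≫ pr
  let a₂ : pullback z mΩ ⟶ P.left := pullback.snd z mΩ ≫ s₀
  have ha : a₂ ≫ P.hom = a₁ ≫ P.hom := by
    have e1 : (V.ι ≫ pr) ≫ P.hom = z ≫ m := by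
      rw [Category.assoc, hpr, ← Category.assoc]
    calc a₂ ≫ P.hom = pullback.snd z mΩ ≫ s₀ ≫ P.hom := Category.assoc _ _ _
      _ = pullback.snd z mΩ ≫ mΩ ≫ m := by rw [hs₀]
      _ = pullback.fst z mΩ ≫ z ≫ m := by rw [← Category.assoc, ← pullback.condition, Category.assoc]
      _ = a₁ ≫ P.hom := by rw [← e1]; exact (Category.assoc _ _ _).symm
  obtain ⟨γ, hγ⟩ := exists_translate hP ha
  let s₁ : pullback (b ≫ p) (sp (ψ.comp φ)) ⟶ P.left := s₀ ≫ (ρ γ).hom.left
  have ha₁ : a₁ = pullback.snd z mΩ ≫ s₁ := hγ.trans (Category.assoc _ _ _)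
  have hmono : Mono (pullback.snd z mΩ) := by
    constructor
    intro W u v huv
    have e1 : u ≫ a₁ = v ≫ a₁ := by
      rw [ha₁, reassoc_of% huv]
    have e2 : (u ≫ pullback.fst z mΩ) ≫ z = (v ≫ pullback.fst z mΩ) ≫ z := by
      rw [Category.assoc, Category.assoc, pullback.condition, reassoc_of% huv]
    have e3 : (u ≫ pullback.fst z mΩ) ≫ V.ι = (v ≫ pullback.fst z mΩ) ≫ V.ι := by
      refine (isPullback m P).hom_ext ?_ ?_
      · exact e1
      · exact e2
    have e4 : u ≫ pullback.fst z mΩ = v ≫ pullback.fst z mΩ := (cancel_mono V.ι).mp e3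
    exact pullback.hom_ext e4 huv
  have hgc2 : ConnectedSpace ↥(pullback (b ≫ p) (sp (ψ.comp φ))) := inferInstance
  have hiso : IsIso z := isIso_of_mono z mΩ
  refine ⟨inv z ≫ V.ι ≫ pr, ?_⟩
  have e1 : (V.ι ≫ pr) ≫ P.hom = z ≫ m := by
    rw [Category.assoc, hpr, ← Category.assoc]
  calc (inv z ≫ V.ι ≫ pr) ≫ P.hom = inv z ≫ (V.ι ≫ pr) ≫ P.hom := Category.assoc _ _ _
    _ = m := by rw [e1, IsIso.inv_hom_id_assoc]

end K157.SmoothT1
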