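import Groth.Agent.Pi1.K157.TraitGeom
import Groth.Agent.Pi1.H383.ActDesc
import Groth.Agent.Pi1.H383.GalPrinc
import Groth.Agent.Pi1A.FEtFG
import Groth.Agent.Pi1.H381.PiTransfer
import Groth.Agent.Pi1B.FEtGalois

/-!
# Models of principal covers over finitely generated algebras
-/

set_option autoImplicit false
set_option linter.dupNamespace false

universe u v

open CategoryTheory CategoryTheory.Limits AlgebraicGeometry IsLocalRing

namespace K157.Spread

open K157.CurveA K157.Lift K157.SmoothT1 K157.NormalExt K157.Pb K157.Glue K157.DescLift K157.Star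
open Groth.Agent.Pi1A.LimIso Groth.Agent.Pi1A.FEtAffine Groth.Agent.Pi1A.FEtLimit
  Groth.Agent.Pi1.H383.ActDesc

/-- Clopen subsets of a cover of a connected scheme meet the pullback to a nonempty scheme. -/
theorem eq_top_of_range {S T : Scheme.{u}} [ConnectedSpace S] [Nonempty T] (g : T ⟶ S)
    {W V : Scheme.{u}} (w : W ⟶ S) [IsFinite w] [Etale w] (r : V ⟶ W) (v : V ⟶ T)
    (sq : IsPullback r v w g) (U : W.Opens) (hU : IsClosed (U : Set W))
    (hr : Set.range r ⊆ (U : Set W)) : U = ⊤ := by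
  by_contra hne
  have h1 : ((U : Set W)ᶜ).Nonempty := by
    rw [Set.nonempty_compl]
    intro h
    exact hne (TopologicalSpace.Opens.ext h)
  have h2 : IsClopen (w '' (U : Set W)ᶜ) :=
    ⟨w.isClosedMap _ U.isOpen.isClosed_compl, w.isOpenMap _ hU.isOpen_compl⟩
  have h3 : w '' (U : Set W)ᶜ = Set.univ := h2.eq_univ (h1.image _)
  obtain ⟨t⟩ := ‹Nonempty T›
  obtain ⟨x, hx, hxt⟩ : g t ∈ w '' (U : Set W)ᶜ := by rw [h3]; trivial
  obtain ⟨z, hz, -⟩ := Scheme.Pullback.exists_preimage_pullback (f := w) (g := g) x t hxt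
  apply hx
  apply hr
  refine ⟨sq.isoPullback.inv z, ?_⟩
  rw [← Scheme.Hom.comp_apply, sq.isoPullback_inv_fst, hz]

theorem reflectsIsomorphisms {S T : Scheme.{u}} [ConnectedSpace S] [Nonempty T] (g : T ⟶ S) :
    (FEt.restrict g).ReflectsIsomorphisms := by
  obtain ⟨t⟩ := ‹Nonempty T›
  obtain ⟨Ω, _, _, η, -⟩ := Groth.Agent.Pi1.H416.PrincDesc.exists_geomPt T t
  obtain ⟨τ⟩ := Groth.Agent.Pi1.H381.PiTransfer.exists_path g (η ≫ g) η
  constructor
  intro A B f hf
  have h1 := Groth.Agent.Pi1B.FEtGalois.reflectsIsomorphisms_fiber (η ≫ g)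
  have h2 : IsIso ((FEt.restrict g ⋙ FEt.fiber η).map f) := by
    rw [Functor.comp_map]
    infer_instance
  have h3 : IsIso ((FEt.fiber (η ≫ g)).map f) := by
    have h4 := τ.hom.naturality f
    have h5 : (FEt.fiber (η ≫ g)).map f =
        τ.hom.app A ≫ (FEt.restrict g ⋙ FEt.fiber η).map f ≫ τ.inv.app B := by
      rw [← Category.assoc, ← h4, Category.assoc, Iso.hom_inv_id_app, Category.comp_id]
    rw [h5]
    infer_instance
  exact isIso_of_reflects_iso f (FEt.fiber (η ≫ g))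

section

variable {I : Type u} [SmallCategory I] [IsCofiltered I] [Quiver.IsThin I] {D : I ⥤ Scheme.{u}}
  {c : Cone D} (hc : IsLimit c) [∀ (i j : I) (f : i ⟶ j), IsAffineHom (D.map f)]
  [∀ i, CompactSpace (D.obj i)] [∀ i, QuasiSeparatedSpace (D.obj i)]
  [∀ i, ConnectedSpace (D.obj i)] [Nonempty c.pt]

include hc in
/-- A finite etale cover with an action of a finite group over the limit comes from a stage. -/
theorem exists_action (G : Type v) [Group G] [Finite G] (Z : FEt.Cat c.pt) (ρ' : G →* Aut Z) :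
    ∃ (j : I) (W : FEt.Cat (D.obj j)) (ρ : G →* Aut W) (e : (FEt.restrict (c.π.app j)).obj W ≅ Z),
      ∀ g, (FEt.restrict (c.π.app j)).map (ρ g).hom ≫ e.hom = e.hom ≫ (ρ' g).hom := by
  classical
  cases nonempty_fintype G
  obtain ⟨i, W₀, ⟨e₀⟩⟩ := exists_obj hc Z
  obtain ⟨a, ha⟩ : ∃ a : G → ((FEt.restrict (c.π.app i)).obj W₀ ⟶ (FEt.restrict (c.π.app i)).obj W₀),
      ∀ g, a g = e₀.hom ≫ (ρ' g).hom ≫ e₀.inv := ⟨_, fun _ => rfl⟩
  have ha1 : a 1 = 𝟙 _ := by
    rw [ha, map_one]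
    change e₀.hom ≫ 𝟙 _ ≫ e₀.inv = _
    rw [Category.id_comp, Iso.hom_inv_id]
  have ham : ∀ g h, a (g * h) = a h ≫ a g := by
    intro g h
    rw [ha, ha, ha, map_mul]
    change e₀.hom ≫ ((ρ' h).hom ≫ (ρ' g).hom) ≫ e₀.inv = _
    simp only [Category.assoc, Iso.inv_hom_id_assoc]
  choose J φ b hb using fun g => exists_hom hc i W₀ W₀ (a g)
  obtain ⟨j, hj⟩ := IsCofiltered.inf_objs_exists (Finset.univ.image J)
  let ψ : ∀ g, j ⟶ J g := fun g =>
    Classical.choice (hj (Finset.mem_image_of_mem _ (Finset.mem_univ g)))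
  let φ₀ : j ⟶ i := ψ 1 ≫ φ 1
  have hφ₀ : ∀ g, ψ g ≫ φ g = φ₀ := fun g => Subsingleton.elim _ _
  let W : FEt.Cat (D.obj j) := (FEt.restrict (D.map φ₀)).obj W₀
  let r : ((FEt.restrict (c.π.app i)).obj W₀).left ⟶ W.left :=
    bcMap W₀.hom (D.map φ₀) (c.π.app i) (c.π.app j) (c.w φ₀)
  have hr : IsPullback r ((FEt.restrict (c.π.app i)).obj W₀).hom W.hom (c.π.app j) :=
    isPullback_bcMap ..
  have hW1 : IsFinite W.hom := W.prop.1
  have hW2 : Etale W.hom := W.prop.2
  have hne : Nonempty ↥(((Functor.const I).obj c.pt).obj j) := ‹Nonempty c.pt›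
  have cancel : ∀ α β : W ⟶ W, r ≫ α.left = r ≫ β.left → α = β := by
    intro α β h
    apply MorphismProperty.Over.Hom.ext
    refine Groth.Agent.Pi1A.Agree.eq_of_agree W.hom α.left β.left ?_ r h
      (eq_top_of_range (c.π.app j) W.hom r _ hr)
    rw [MorphismProperty.Over.w, MorphismProperty.Over.w]
  -- the endomorphisms at level `j`
  have key : ∀ g, ∃ β : W ⟶ W, r ≫ β.left = (a g).left ≫ r := by
    intro g
    let q : pullback W₀.hom (D.map φ₀) ⟶ pullback W₀.hom (D.map (φ g)) :=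
      bcMap W₀.hom (D.map (φ g)) (D.map φ₀) (D.map (ψ g)) (by rw [← D.map_comp, hφ₀])
    let r' : pullback W₀.hom (c.π.app i) ⟶ pullback W₀.hom (D.map φ₀) := r
    have hq : r' ≫ q = bcMap W₀.hom (D.map (φ g)) (c.π.app i) (c.π.app (J g)) (c.w (φ g)) := by
      apply pullback.hom_ext
      · simp [r', r, q]
      · simp only [Category.assoc, r', r, q, bcMap_snd, bcMap_snd_assoc]
        rw [c.w]
    let b' : pullback W₀.hom (D.map (φ g)) ⟶ pullback W₀.hom (D.map (φ g)) := (b g).left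
    have hb' : b' ≫ pullback.snd W₀.hom (D.map (φ g)) = pullback.snd W₀.hom (D.map (φ g)) :=
      hom_w (b g)
    let a' : pullback W₀.hom (c.π.app i) ⟶ pullback W₀.hom (c.π.app i) := (a g).left
    have ha' : a' ≫ pullback.snd W₀.hom (c.π.app i) = pullback.snd W₀.hom (c.π.app i) := hom_w (a g)
    have hb'' : bcMap W₀.hom (D.map (φ g)) (c.π.app i) (c.π.app (J g)) (c.w (φ g)) ≫ b' =
        a' ≫ bcMap W₀.hom (D.map (φ g)) (c.π.app i) (c.π.app (J g)) (c.w (φ g)) := hb g
    let β : pullback W₀.hom (D.map φ₀) ⟶ pullback W₀.hom (D.map φ₀) :=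
      pullback.lift (q ≫ b' ≫ pullback.fst W₀.hom (D.map (φ g))) (pullback.snd W₀.hom (D.map φ₀)) (by
        rw [Category.assoc, Category.assoc, pullback.condition, ← Category.assoc b', hb']
        simp only [q, bcMap_snd_assoc, ← D.map_comp, hφ₀])
    refine ⟨MorphismProperty.Over.homMk (A := W) (B := W) β (pullback.lift_snd _ _ _) trivial, ?_⟩
    change r' ≫ β = a' ≫ r'
    apply pullback.hom_ext
    · rw [Category.assoc, pullback.lift_fst, ← Category.assoc, hq, ← Category.assoc, hb'']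
      simp [r', r]
    · rw [Category.assoc, pullback.lift_snd]
      simp only [Category.assoc, r', r, bcMap_snd, reassoc_of% ha']
  choose β hβ using key
  have hβ1 : β 1 = 𝟙 W := by
    apply cancel
    rw [hβ, ha1]
    exact (Category.id_comp _).trans (Category.comp_id _).symm
  have hβm : ∀ g h, β (g * h) = β h ≫ β g := by
    intro g h
    apply cancel
    rw [hβ, ham, MorphismProperty.Comma.comp_left, MorphismProperty.Comma.comp_left,
      ← Category.assoc r, hβ, Category.assoc, Category.assoc, hβ]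
  let ρ : G →* Aut W := mkAction β hβ1 hβm
  -- the isomorphism
  let e₁' : ((FEt.restrict (c.π.app j)).obj W).left ≅ ((FEt.restrict (c.π.app i)).obj W₀).left :=
    hr.isoPullback.symm
  let e₁ : (FEt.restrict (c.π.app j)).obj W ≅ (FEt.restrict (c.π.app i)).obj W₀ :=
    isoMk (T := (FEt.restrict (c.π.app j)).obj W) (T' := (FEt.restrict (c.π.app i)).obj W₀) e₁'
      hr.isoPullback_inv_snd
  have he₁ : e₁.hom.left ≫ r = proj (c.π.app j) W := hr.isoPullback_inv_fst
  refine ⟨j, W, ρ, e₁ ≪≫ e₀, fun g => ?_⟩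
  have h2 : (FEt.restrict (c.π.app j)).map (ρ g).hom ≫ e₁.hom = e₁.hom ≫ a g := by
    apply MorphismProperty.Over.Hom.ext
    apply hr.hom_ext
    · rw [MorphismProperty.Comma.comp_left, MorphismProperty.Comma.comp_left, Category.assoc, he₁,
        map_left_proj, Category.assoc, ← hβ, ← Category.assoc, he₁]
      rfl
    · have h3 := hom_w ((FEt.restrict (c.π.app j)).map (ρ g).hom ≫ e₁.hom)
      have h4 := hom_w (e₁.hom ≫ a g)
      exact h3.trans h4.symm
  rw [Iso.trans_hom, ← Category.assoc, h2]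
  rw [ha]
  simp only [Category.assoc, Iso.inv_hom_id, Category.comp_id]

end

/-- A principal cover of `X_K` comes from a finitely generated subalgebra of `K`. -/
theorem exists_model {k K : Type u} [Field k] [IsAlgClosed k] [Field K] (i : k →+* K)
    {X : Scheme.{u}} (p : X ⟶ Spec (CommRingCat.of k)) [LocallyOfFiniteType p] [QuasiCompact p]
    [ConnectedSpace X] (G : Type v) [Group G] [Finite G] (Z : FEt.Cat (pullback p (sp i)))
    (ρ' : G →* Aut Z) (hZ : SGA1t.IsPrincipal G Z ρ') :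
    ∃ (A : Type u) (_ : CommRing A) (_ : IsDomain A) (φ : k →+* A) (_ : φ.FiniteType)
      (ψ : A →+* K) (_ : Function.Injective ψ) (h : sp ψ ≫ sp φ = sp i)
      (W : FEt.Cat (pullback p (sp φ))) (ρ : G →* Aut W), SGA1t.IsPrincipal G W ρ ∧
        Nonempty ((FEt.restrict (pb (𝟙 X) (sp ψ) (Category.id_comp p) h)).obj W ≅ Z) := by
  let _ : Algebra k K := i.toAlgebra
  have hLN : IsLocallyNoetherian X := LocallyOfFiniteType.isLocallyNoetherian p
  have hc1 : ∀ j, ConnectedSpace ↥((Groth.Agent.Pi1A.FGLimit.diag k K p).obj j) := fun j =>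
    connectedSpace_pullback p (Groth.Agent.Pi1A.FGLimit.toBase k
      (Algebra.adjoin k (j.unop : Set K)))
  have hc2 : Nonempty (Groth.Agent.Pi1A.FGLimit.cone k K p).pt :=
    nonempty_pullback p (Groth.Agent.Pi1A.FGLimit.toBase k K)
  obtain ⟨F, W, ρ, e, he⟩ := exists_action (Groth.Agent.Pi1A.FGLimit.isLimit k K p) G Z ρ'
  have hne : Nonempty ↥(((Functor.const (Finset K)ᵒᵖ).obj
    (Groth.Agent.Pi1A.FGLimit.cone k K p).pt).obj F) := hc2
  have hrefl := reflectsIsomorphisms ((Groth.Agent.Pi1A.FGLimit.cone k K p).π.app F)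
  have h1 : SGA1t.IsPrincipal G W ρ :=
    Groth.Agent.Pi1.H416.PrincDesc.isPrincipal_of_iso
      ((Groth.Agent.Pi1A.FGLimit.cone k K p).π.app F) G W ρ Z ρ' e he hZ
  let A := Algebra.adjoin k (F.unop : Set K)
  have hft : Algebra.FiniteType k A := (Subalgebra.fg_iff_finiteType A).mp ⟨F.unop, rfl⟩
  let φ : k →+* A := algebraMap k A
  let ψ : A →+* K := algebraMap A K
  have hψφ : ψ.comp φ = i := rfl
  have h : sp ψ ≫ sp φ = sp i := by rw [sp_comp, hψφ]
  have ht : (Groth.Agent.Pi1A.FGLimit.cone k K p).π.app F =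
      pb (p := p) (t := sp φ) (𝟙 X) (sp ψ) (Category.id_comp p) h := by
    apply pullback.hom_ext
    · refine (Groth.Agent.Pi1A.FGLimit.pbCone_fst (Groth.Agent.Pi1A.FGLimit.specDiag k K)
        (Groth.Agent.Pi1A.FGLimit.specBase k K) p (Groth.Agent.Pi1A.FGLimit.specCone k K)
        (Groth.Agent.Pi1A.FGLimit.toBase k K) (Groth.Agent.Pi1A.FGLimit.specCone_base k K)
        F).trans ?_
      exact ((pb_fst _ _ _ _).trans (Category.comp_id _)).symm
    · refine (Groth.Agent.Pi1A.FGLimit.pbCone_snd (Groth.Agent.Pi1A.FGLimit.specDiag k K)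
        (Groth.Agent.Pi1A.FGLimit.specBase k K) p (Groth.Agent.Pi1A.FGLimit.specCone k K)
        (Groth.Agent.Pi1A.FGLimit.toBase k K) (Groth.Agent.Pi1A.FGLimit.specCone_base k K)
        F).trans ?_
      exact (pb_snd _ _ _ _).symm
  clear hrefl he
  revert e
  rw [ht]
  intro e
  exact ⟨A, inferInstance, inferInstance, φ, hft, ψ, Subtype.val_injective, h, W, ρ, h1, ⟨e⟩⟩

end K157.Spread
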