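import Groth.Agent.Pi1.K157.Glue
import Groth.Agent.Pi1.K157.DescLift
import Groth.Agent.Pi1.K157.NormalExt

/-!
# Extension of trivializations over varieties

A torsor of invertible order over `X_A` (`A` a henselian trait with algebraically closed residue
field) which is trivial over one geometric fibre becomes trivial over an extension of `A`.
-/

set_option autoImplicit false
set_option linter.dupNamespace false

universe u

open CategoryTheory CategoryTheory.Limits AlgebraicGeometry IsLocalRing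

namespace K157.Star

open K157.CurveA K157.Lift K157.SmoothT1 K157.NormalExt K157.Pb K157.Glue K157.DescLift

variable {k : Type u} [Field k]

lemma bc_eq {X : Scheme.{u}} (p : X ⟶ Spec (CommRingCat.of k)) {R S : Type u} [CommRing R]
    [CommRing S] (φ : k →+* R) (χ : R →+* S) :
    bc p φ χ = pb (𝟙 X) (sp χ) (Category.id_comp p) (sp_comp φ χ) := by
  apply pullback.hom_ext <;> simp [bc]

/-- The normal case: any geometric fibre. -/
theorem extLift_normal (hens : Groth.Agent.Pi1.H385.T2aGeom.HensStmt.{u}) [IsAlgClosed k]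
    {X : Scheme.{u}} (p : X ⟶ Spec (CommRingCat.of k))
    [LocallyOfFiniteType p] [IsIntegral X] (hX : Pi1.IsNormalScheme X)
    (A : Trait.{u}) (φ : k →+* A.R) {G : Type} [Group G] [Finite G]
    (hG : IsUnit ((Nat.card G : ℕ) : k)) (P : FEt.Cat (pullback p (sp φ)))
    (ρ : G →* Aut P) (hP : SGA1t.IsPrincipal G P ρ) (K : Type u) [Field K] [IsAlgClosed K]
    (τ : A.R →+* K) (h : HasLift P (bc p φ τ)) : ExtLift p A φ P := by
  by_cases hτ : Function.Injective τ
  · exact t2_normal p hX A φ P K τ hτ h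
  · have hmax : RingHom.ker τ = maximalIdeal A.R := by
      have hp : (RingHom.ker τ).IsPrime := RingHom.ker_isPrime τ
      have hne : RingHom.ker τ ≠ ⊥ := fun h0 => hτ ((RingHom.injective_iff_ker_eq_bot τ).mpr h0)
      exact IsLocalRing.eq_maximalIdeal (hp.isMaximal hne)
    have hloc : IsLocalHom τ := by
      constructor
      intro a ha
      by_contra hu
      have h1 : a ∈ maximalIdeal A.R := (mem_maximalIdeal a).mpr hu
      rw [← hmax, RingHom.mem_ker] at h1
      exact ha.ne_zero h1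
    let i : ResidueField A.R →+* K := ResidueField.lift τ
    have hi : i.comp (residue A.R) = τ := ResidueField.lift_comp_residue τ
    rw [← hi] at h
    have hfull : (FEt.restrict (bc p ((residue A.R).comp φ) i)).Full :=
      (Groth.Agent.Pi1.H390.T1UFF.fullyFaithful i (isPullback_bc p ((residue A.R).comp φ) i)).1
    refine t1_normal hens p hX A φ hG P ρ hP ?_
    have h2 : HasLift ((FEt.restrict (bc p φ (residue A.R))).obj P)
        (bc p ((residue A.R).comp φ) i) := by
      rw [hasLift_restrict_iff, bc_bc]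
      exact h
    have h4 := hasLift_of_full _ _ h2
    rwa [hasLift_restrict_iff, Category.id_comp] at h4

theorem chain (hens : Groth.Agent.Pi1.H385.T2aGeom.HensStmt.{u}) [IsAlgClosed k]
    {X : Scheme.{u}} (p : X ⟶ Spec (CommRingCat.of k)) [LocallyOfFiniteType p]
    (A : Trait.{u}) (φ : k →+* A.R) {G : Type} [Group G] [Finite G]
    (hG : IsUnit ((Nat.card G : ℕ) : k)) (P : FEt.Cat (pullback p (sp φ)))
    (ρ : G →* Aut P) (hP : SGA1t.IsPrincipal G P ρ) (K : Type u) [Field K] [IsAlgClosed K]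
    (τ : A.R →+* K) (h : HasLift P (bc p φ τ)) {n : ℕ} (Y : Fin n → Scheme.{u})
    (f : ∀ i, Y i ⟶ X) (hf : ∀ i, IsFinite (f i)) (hY : ∀ i, IsIntegral (Y i))
    (hn : ∀ i, Pi1.IsNormalScheme (Y i)) (m : ℕ) :
    ∃ (B : Trait.{u}) (χ : A.R →+* B.R), Function.Injective χ ∧ IsLocalHom χ ∧
      ∀ i : Fin n, i.1 < m → HasLift P (pb (f i) (sp χ) rfl (sp_comp φ χ)) := by
  induction m with
  | zero =>
    exact ⟨A, RingHom.id _, Function.injective_id, inferInstance, fun i hi => absurd hi (by omega)⟩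
  | succ m ih =>
    obtain ⟨B, χ, hinj, hloc, hB⟩ := ih
    by_cases hm : m < n
    · let j : Fin n := ⟨m, hm⟩
      obtain ⟨K', _, _, τ', σ, hτ'⟩ := exists_point χ hinj τ
      have := hf j
      have := hY j
      let g : pullback (f j ≫ p) (sp (χ.comp φ)) ⟶ pullback p (sp φ) :=
        pb (f j) (sp χ) rfl (sp_comp φ χ)
      have h1 : HasLift ((FEt.restrict g).obj P) (bc (f j ≫ p) (χ.comp φ) τ') := by
        rw [hasLift_restrict_iff]
        have hσ : sp σ ≫ sp (τ.comp φ) = sp (τ'.comp (χ.comp φ)) := by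
          rw [sp_comp, ← RingHom.comp_assoc, ← hτ', RingHom.comp_assoc]
        refine h.comp' (pb (f j) (sp σ) rfl hσ) ?_
        apply pullback.hom_ext
        · simp [g, bc]
        · simp only [g, bc, Category.assoc, Groth.Agent.Pi1.H382.PullMap.pm_snd,
            Groth.Agent.Pi1.H382.PullMap.pm_snd_assoc, sp_comp, pb_snd, pb_snd_assoc, hτ']
      obtain ⟨B', χ', hinj', hloc', hB'⟩ := extLift_normal hens (f j ≫ p) (hn j) B (χ.comp φ) hG
        ((FEt.restrict g).obj P) _
        (Groth.Agent.Pi1.H408.PrincRestrict.isPrincipal_restrict g P ρ hP) K' τ' h1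
      rw [hasLift_restrict_iff] at hB'
      refine ⟨B', χ'.comp χ, hinj'.comp hinj, inferInstance, fun i hi => ?_⟩
      rcases Nat.lt_succ_iff_lt_or_eq.mp hi with hlt | heq
      · refine (hB i hlt).comp' (bc (f i ≫ p) (χ.comp φ) χ') ?_
        apply pullback.hom_ext
        · simp [bc]
        · simp only [bc, Category.assoc, Groth.Agent.Pi1.H382.PullMap.pm_snd,
            Groth.Agent.Pi1.H382.PullMap.pm_snd_assoc, sp_comp, pb_snd, pb_snd_assoc]
      · obtain rfl : i = j := Fin.ext heq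
        refine hB'.comp' (𝟙 _) ?_
        rw [Category.id_comp]
        apply pullback.hom_ext
        · simp [bc, g]
        · simp only [g, bc, Category.assoc, Groth.Agent.Pi1.H382.PullMap.pm_snd,
            Groth.Agent.Pi1.H382.PullMap.pm_snd_assoc, sp_comp, pb_snd, pb_snd_assoc]
    · exact ⟨B, χ, hinj, hloc, fun i hi => hB i (by omega)⟩

/-- Lifts over the members of a finite covering family descend, if they do so over one fibre. -/
theorem hasLift_of_family [IsAlgClosed k]
    {X : Scheme.{u}} (p : X ⟶ Spec (CommRingCat.of k)) [LocallyOfFiniteType p]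
    {n : ℕ} (Y : Fin n → Scheme.{u}) (f : ∀ i, Y i ⟶ X) (hf : ∀ i, IsFinite (f i))
    (hY : ∀ i, ConnectedSpace (Y i)) (hs : ∀ x, ∃ i, x ∈ Set.range (f i)) {T₀ T T' : Scheme.{u}}
    {t₀ : T₀ ⟶ Spec (CommRingCat.of k)} {t : T ⟶ Spec (CommRingCat.of k)}
    {t' : T' ⟶ Spec (CommRingCat.of k)} [ConnectedSpace T] [ConnectedSpace T']
    (h : T ⟶ T₀) (hh : h ≫ t₀ = t) (h' : T' ⟶ T) (hh' : h' ≫ t = t')
    {G : Type} [Group G] [Finite G] (P : FEt.Cat (pullback p t₀))
    (ρ : G →* Aut P) (hP : SGA1t.IsPrincipal G P ρ)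
    (hl : ∀ i, HasLift P (pb (f i) h rfl hh))
    (hl' : HasLift P (pb (𝟙 X) (h' ≫ h) (Category.id_comp p)
      (by rw [Category.assoc, hh, hh'] : (h' ≫ h) ≫ t₀ = t'))) :
    HasLift P (pb (𝟙 X) h (Category.id_comp p) hh) := by
  obtain ⟨s', hs'⟩ := hl'
  replace hs' : s' ≫ P.hom = pb (𝟙 X) h' (Category.id_comp p) hh' ≫
      pb (𝟙 X) h (Category.id_comp p) hh := by
    rw [hs', pb_comp _ _ _ _ (Category.id_comp (𝟙 X)) rfl]
  have key : ∀ i, ∃ b : pullback (f i ≫ p) t ⟶ P.left,
      b ≫ P.hom = pb (f i) (𝟙 _) rfl (Category.id_comp t) ≫ pb (𝟙 X) h (Category.id_comp p) hh ∧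
        pb (𝟙 _) h' (Category.id_comp _) hh' ≫ b =
          pb (f i) (𝟙 _) rfl (Category.id_comp t') ≫ s' := by
    intro i
    obtain ⟨a, ha⟩ := hl i
    have := hf i
    have := hY i
    have hc : ConnectedSpace ↥(pullback (f i ≫ p) t') := connectedSpace_pullback _ _
    have ha' : a ≫ P.hom = pb (f i) (𝟙 _) rfl (Category.id_comp t) ≫
        pb (𝟙 X) h (Category.id_comp p) hh := by
      rw [ha, pb_comp _ _ _ _ (Category.comp_id _) (Category.id_comp _)]
    have h1 : (pb (𝟙 _) h' (Category.id_comp _) hh' ≫ a) ≫ P.hom =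
        (pb (f i) (𝟙 _) rfl (Category.id_comp t') ≫ s') ≫ P.hom := by
      rw [Category.assoc, ha', Category.assoc, hs', ← Category.assoc, ← Category.assoc,
        pb_comp _ _ _ _ (Category.id_comp _) (Category.comp_id _),
        pb_comp _ _ _ _ (Category.comp_id _) (Category.id_comp _)]
    obtain ⟨γ, hγ⟩ := exists_translate hP h1
    refine ⟨a ≫ (ρ γ).hom.left, ?_, ?_⟩
    · rw [Category.assoc, MorphismProperty.Over.w (ρ γ).hom]
      exact ha'
    · rw [hγ, Category.assoc]
  choose b hb1 hb2 using key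
  let Q : FEt.Cat (pullback p t) := (FEt.restrict (pb (𝟙 X) h (Category.id_comp p) hh)).obj P
  let q1 : Q.left ⟶ P.left := pullback.fst P.hom (pb (𝟙 X) h (Category.id_comp p) hh)
  have hq : ∀ {W : Scheme.{u}} {α β : W ⟶ Q.left}, α ≫ q1 = β ≫ q1 → α ≫ Q.hom = β ≫ Q.hom →
      α = β := fun h1 h2 => pullback.hom_ext h1 h2
  let c : ∀ i, pullback (f i ≫ p) t ⟶ Q.left := fun i => pullback.lift (b i) _ (hb1 i)
  have hc1 : ∀ i, c i ≫ q1 = b i := fun i => pullback.lift_fst _ _ _
  have hc2 : ∀ i, c i ≫ Q.hom = pb (f i) (𝟙 _) rfl (Category.id_comp t) :=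
    fun i => pullback.lift_snd _ _ _
  let s'' : pullback p t' ⟶ Q.left := pullback.lift s' _ hs'
  have hs1 : s'' ≫ q1 = s' := pullback.lift_fst _ _ _
  have hs2 : s'' ≫ Q.hom = pb (𝟙 X) h' (Category.id_comp p) hh' := pullback.lift_snd _ _ _
  let π : (∐ Y) ⟶ X := Limits.Sigma.desc f
  have hπ : IsFinite π := isFinite_sigmaDesc Y f
  have hπs : Surjective π := by
    constructor
    intro x
    obtain ⟨i, y, rfl⟩ := hs x
    refine ⟨Limits.Sigma.ι Y i y, ?_⟩
    rw [← Scheme.Hom.comp_apply, Limits.Sigma.ι_desc]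
  have hy : ∀ i, Limits.Sigma.ι Y i ≫ π ≫ p = f i ≫ p := fun i => by
    rw [← Category.assoc, Limits.Sigma.ι_desc]
  obtain ⟨s₁, hs₁⟩ := exists_glue (π ≫ p) t (fun i => f i ≫ p) hy c
  have hlift : HasLift Q (𝟙 _) := by
    refine hasLift_of_cover p π h' hh' Q s₁ ?_ s'' ?_
    · refine K157.Glue.hom_ext (π ≫ p) t (fun i => f i ≫ p) hy fun i => ?_
      rw [← Category.assoc, hs₁, hc2, pb_comp _ _ _ _ (Limits.Sigma.ι_desc _ _)
        (Category.comp_id (𝟙 _))]
    · refine K157.Glue.hom_ext (π ≫ p) t' (fun i => f i ≫ p) hy fun i => ?_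
      have e1 : pb (Limits.Sigma.ι Y i) (𝟙 _) (hy i) (Category.id_comp t') ≫
          pb (𝟙 _) h' (Category.id_comp _) hh' = pb (𝟙 _) h' (Category.id_comp _) hh' ≫
            pb (Limits.Sigma.ι Y i) (𝟙 _) (hy i) (Category.id_comp t) := by
        rw [pb_comp _ _ _ _ (Category.comp_id _) (Category.id_comp _),
          pb_comp _ _ _ _ (Category.id_comp _) (Category.comp_id _)]
      have e2 : pb (Limits.Sigma.ι Y i) (𝟙 _) (hy i) (Category.id_comp t') ≫
          pb π (𝟙 _) rfl (Category.id_comp t') = pb (f i) (𝟙 _) rfl (Category.id_comp t') := by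
        rw [pb_comp _ _ _ _ (Limits.Sigma.ι_desc _ _) (Category.comp_id (𝟙 _))]
      rw [reassoc_of% e1, hs₁, reassoc_of% e2]
      apply hq
      · rw [Category.assoc, hc1, Category.assoc, hs1]
        exact hb2 i
      · rw [Category.assoc, hc2, Category.assoc, hs2,
          pb_comp _ _ _ _ (Category.id_comp _) (Category.comp_id _),
          pb_comp _ _ _ _ (Category.comp_id _) (Category.id_comp _)]
  rwa [hasLift_restrict_iff, Category.id_comp] at hlift

/-- A torsor of invertible order over `X_A` which is trivial over one geometric fibre becomes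
trivial over an extension of `A`. -/
theorem extLift (hens : Groth.Agent.Pi1.H385.T2aGeom.HensStmt.{u}) [IsAlgClosed k]
    {X : Scheme.{u}} (p : X ⟶ Spec (CommRingCat.of k)) [LocallyOfFiniteType p] [QuasiCompact p]
    (A : Trait.{u}) (φ : k →+* A.R) {G : Type} [Group G] [Finite G]
    (hG : IsUnit ((Nat.card G : ℕ) : k)) (P : FEt.Cat (pullback p (sp φ)))
    (ρ : G →* Aut P) (hP : SGA1t.IsPrincipal G P ρ) (K : Type u) [Field K] [IsAlgClosed K]
    (τ : A.R →+* K) (h : HasLift P (bc p φ τ)) : ExtLift p A φ P := by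
  obtain ⟨n, Y, f, hf, hY, hn, hs⟩ := exists_normal_family p
  obtain ⟨B, χ, hinj, hloc, hB⟩ := chain hens p A φ hG P ρ hP K τ h Y f hf hY hn n
  obtain ⟨K', _, _, τ', σ, hτ'⟩ := exists_point χ hinj τ
  have hσ : sp σ ≫ sp (τ.comp φ) = sp (τ'.comp (χ.comp φ)) := by
    rw [sp_comp, ← RingHom.comp_assoc, ← hτ', RingHom.comp_assoc]
  refine ⟨B, χ, hinj, hloc, ?_⟩
  rw [bc_eq]
  refine hasLift_of_family p Y f hf (fun i => inferInstance) hs (sp χ) (sp_comp φ χ) (sp τ')
    (sp_comp _ _) P ρ hP (fun i => hB i i.2) ?_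
  refine h.comp' (pb (𝟙 X) (sp σ) (Category.id_comp p) hσ) ?_
  rw [bc_eq, pb_comp _ _ _ _ (Category.id_comp _) rfl]
  congr 1
  rw [sp_comp, sp_comp, hτ']

end K157.Star
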