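import Groth.Agent.Pi1.K157.Star
import Groth.Agent.Ega43.DvrScheme
import Groth.Agent.EGA43.K891.CplDvrExt

/-!
# Traits through specializations, common geometric points, and sets stable under
specialization and generization
-/

set_option autoImplicit false
set_option linter.dupNamespace false

universe u

open CategoryTheory CategoryTheory.Limits AlgebraicGeometry IsLocalRing

namespace K157.TraitGeom

open K157.CurveA K157.Lift K157.SmoothT1 K157.NormalExt K157.Pb K157.Glue K157.DescLift K157.Star

theorem henselianLocalRing_of_isAdicComplete (A : Type u) [CommRing A] [IsLocalRing A]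
    [IsAdicComplete (maximalIdeal A) A] : HenselianLocalRing A where
  is_henselian f hf a₀ h₁ h₂ := by
    have := IsAdicComplete.henselianRing A (maximalIdeal A)
    exact HenselianRing.is_henselian (I := maximalIdeal A) f hf a₀ h₁
      (h₂.map (Ideal.Quotient.mk (maximalIdeal A)))

/-- Common geometric points. -/
theorem exists_common {T₁ T₂ Y : Scheme.{u}} (f₁ : T₁ ⟶ Y) (f₂ : T₂ ⟶ Y) (t₁ : T₁) (t₂ : T₂)
    (h : f₁ t₁ = f₂ t₂) :
    ∃ (Ω : Type u) (_ : Field Ω) (_ : IsAlgClosed Ω) (g₁ : Spec (CommRingCat.of Ω) ⟶ T₁)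
      (g₂ : Spec (CommRingCat.of Ω) ⟶ T₂), g₁ ≫ f₁ = g₂ ≫ f₂ ∧ (∀ p, g₁ p = t₁) ∧
        ∀ p, g₂ p = t₂ := by
  obtain ⟨w, hw1, hw2⟩ := Scheme.Pullback.exists_preimage_pullback (f := f₁) (g := f₂) t₁ t₂ h
  obtain ⟨Ω, _, _, s, hs⟩ := Groth.Agent.Pi1.H416.PrincDesc.exists_geomPt (pullback f₁ f₂) w
  refine ⟨Ω, inferInstance, inferInstance, s ≫ pullback.fst f₁ f₂, s ≫ pullback.snd f₁ f₂, ?_,
    fun p => ?_, fun p => ?_⟩
  · rw [Category.assoc, Category.assoc, pullback.condition]
  · rw [Scheme.Hom.comp_apply, hs, hw1]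
  · rw [Scheme.Hom.comp_apply, hs, hw2]

/-- A trait through a specialization. -/
theorem exists_trait {Y : Scheme.{u}} [IsLocallyNoetherian Y] {y₁ y₂ : Y} (h : y₁ ⤳ y₂)
    (hne : y₁ ≠ y₂) :
    ∃ (A : Trait.{u}) (g : Spec (CommRingCat.of A.R) ⟶ Y),
      g (⊥ : PrimeSpectrum A.R) = y₁ ∧ g (closedPoint A.R) = y₂ := by
  obtain ⟨R, _, _, _, _, _, g, hg1, hg2⟩ := Groth.Agent.Ega43.DvrScheme.exists_dvr_of_specializes
    h hne (Y.residueField y₁) (𝟙 _) (RingHom.FiniteType.essFiniteType (RingHom.FiniteType.id _))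
  obtain ⟨B, _, _, _, φ, e, hc, ha, hinj, he⟩ := K891.CplDvrExt.exists_complete R (ResidueField R)
    (RingHom.id _)
  have hloc : IsLocalHom φ := by
    constructor
    intro a ha'
    have h1 : residue B (φ a) ≠ 0 := ((ha'.map (residue B)).ne_zero)
    have h2 : residue B (φ a) = e (residue R a) := (congrArg (fun f => f a) he).symm
    rw [h2] at h1
    by_contra hu
    apply h1
    rw [(residue_eq_zero_iff a).mpr ((mem_maximalIdeal a).mpr hu), map_zero]
  have hh : HenselianLocalRing B := henselianLocalRing_of_isAdicComplete B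
  refine ⟨⟨B⟩, sp φ ≫ g, ?_, ?_⟩
  · rw [Scheme.Hom.comp_apply]
    have h1 : sp φ (⊥ : PrimeSpectrum B) = (⊥ : PrimeSpectrum R) := by
      apply PrimeSpectrum.ext
      change Ideal.comap φ ⊥ = ⊥
      rw [← RingHom.ker_eq_comap_bot]
      exact (RingHom.injective_iff_ker_eq_bot φ).mp hinj
    rw [h1]
    have h2 := congr($hg2 (⊥ : PrimeSpectrum (Y.residueField y₁)))
    rw [Scheme.Hom.comp_apply, Scheme.Hom.comp_apply, Scheme.fromSpecResidueField_apply] at h2
    rw [← h2]
    congr 1
    apply PrimeSpectrum.ext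
    change ⊥ = Ideal.comap (algebraMap R (Y.residueField y₁)) ⊥
    rw [← RingHom.ker_eq_comap_bot]
    exact ((RingHom.injective_iff_ker_eq_bot _).mp (IsFractionRing.injective R _)).symm
  · rw [Scheme.Hom.comp_apply]
    have h1 : sp φ (closedPoint B) = closedPoint R := IsLocalRing.comap_closedPoint φ
    rw [h1]
    exact hg1

/-- In a Noetherian sober space a subset stable under specialization and generization is closed. -/
theorem isClosed_of_stable {X : Type u} [TopologicalSpace X] [TopologicalSpace.NoetherianSpace X]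
    [QuasiSober X] (T : Set X) (h : ∀ x y, x ⤳ y → (x ∈ T ↔ y ∈ T)) : IsClosed T := by
  have hfin : (irreducibleComponents X).Finite :=
    TopologicalSpace.NoetherianSpace.finite_irreducibleComponents
  have hT : T = ⋃ C ∈ {C | C ∈ irreducibleComponents X ∧ C ⊆ T}, C := by
    ext t
    simp only [Set.mem_iUnion, Set.mem_ofPred_eq]
    constructor
    · intro ht
      obtain ⟨η, hη⟩ := QuasiSober.sober (isIrreducible_irreducibleComponent (x := t))
        isClosed_irreducibleComponent
      have hηt : η ⤳ t := by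
        rw [specializes_iff_mem_closure, hη]
        exact mem_irreducibleComponent
      have hηT : η ∈ T := (h η t hηt).mpr ht
      refine ⟨irreducibleComponent t, ⟨irreducibleComponent_mem_irreducibleComponents t, ?_⟩,
        mem_irreducibleComponent⟩
      intro s hs
      rw [← hη] at hs
      exact (h η s (specializes_iff_mem_closure.mpr hs)).mp hηT
    · rintro ⟨C, ⟨-, hC⟩, ht⟩
      exact hC ht
  rw [hT]
  exact Set.Finite.isClosed_biUnion (hfin.subset fun C hC => hC.1)
    fun C hC => isClosed_of_mem_irreducibleComponents C hC.1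

theorem isClopen_of_stable {X : Type u} [TopologicalSpace X] [TopologicalSpace.NoetherianSpace X]
    [QuasiSober X] (T : Set X) (h : ∀ x y, x ⤳ y → (x ∈ T ↔ y ∈ T)) : IsClopen T := by
  refine ⟨isClosed_of_stable T h, ?_⟩
  rw [← isClosed_compl_iff]
  exact isClosed_of_stable _ fun x y hxy => not_congr (h x y hxy)

end K157.TraitGeom
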